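import Cfsg.Agent.OddCyclic.BcP.Off

/-!
# S0342, (C2), [Bc], (D4): (3.4)-(3.5)

`In S C Z V H₁ H₂ p₁ p₂`: `C` centralises `Z`, `Z ≤ V ≤ C`, `V_C = ⟨V^C⟩` elementary abelian, `H_i ≤ V`,
`H_i ∩ Z ∋ p_i`; `kc C V` is the core of `N_C(V)` in `C`, `V_i = ⟨H_i^C⟩`.
* `In.ineq`: `|V₁ : C_{V₁}(A)| ≤ |A : A ∩ Kc|` for `A ∈ 𝒜(S)`;
* `In.exists_rep`: the action of `C/Kc` on `M₁ = V₁/⟨p₁⟩`.
-/

set_option autoImplicit false
set_option linter.unusedSectionVars false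

namespace Cfsg.Agent.OddCyclic.BcP.D4B

open Subgroup Cfsg Cfsg.Agent.ZN Cfsg.Agent.ZN.ChoiceBase
open Cfsg.Agent.MinSimple.LemX (nc le_nc nc_le le_normalizer_nc)
open Cfsg.Agent.OddCyclic.T1Module Cfsg.Agent.OddCyclic.FFBasic Cfsg.Agent.OddCyclic.FFRed
open Cfsg.Agent.OddCyclic.EmpNSRep (Rp exists_rp)
open Cfsg.Agent.OddCyclic.BcP.Off (conj_mem_nc nc_le_of fd mem_fd thompson mem_normalizer_of')

universe u

variable {G : Type u} [Group G]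

structure Hh (C Z V H : Subgroup G) (p : G) : Prop where
  le : H ≤ V
  pH : p ∈ H
  pZ : p ∈ Z
  p1 : p ≠ 1
  out : ∃ h ∈ H, h ∉ Z
  inZ : ∀ h ∈ H, h ∈ Z → h = 1 ∨ h = p
  outZ : ∀ h ∈ H, ∀ h' ∈ H, h ∉ Z → h' ∉ Z → h' = h ∨ h' = p * h
  comm : ∀ c ∈ C, c ∈ normalizer (V : Set G) → ∀ h ∈ H, c * h * c⁻¹ = h ∨ c * h * c⁻¹ = p * h
  cent : ∀ c ∈ C, c ∈ normalizer (V : Set G) → (∀ h ∈ H, c * h = h * c) → ∀ v ∈ V, c * v = v * c

structure In (S : Sylow 2 G) (C Z V H₁ H₂ : Subgroup G) (p₁ p₂ : G) : Prop where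
  SC : (S : Subgroup G) ≤ C
  SV : (S : Subgroup G) ≤ normalizer (V : Set G)
  cZ : C ≤ centralizer (Z : Set G)
  ZV : Z ≤ V
  comm : ∀ c ∈ C, c ∈ normalizer (V : Set G) → ∀ v ∈ V, c * v * c⁻¹ * v⁻¹ ∈ Z
  fus : ∀ c ∈ C, ∀ v ∈ V, v ∉ Z → c * v * c⁻¹ ∈ V → c ∈ normalizer (V : Set G)
  M_le : nc C V ≤ (S : Subgroup G)
  ab : ∀ a ∈ nc C V, ∀ b ∈ nc C V, a * b = b * a
  sq : ∀ a ∈ nc C V, a * a = 1
  three : ∀ c ∈ C, c ∈ normalizer (V : Set G) → orderOf c ≠ 3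
  h₁ : Hh C Z V H₁ p₁
  h₂ : Hh C Z V H₂ p₂
  ne : p₁ ≠ p₂

/-- the core of `N_C(V)` in `C` -/
def kc (C V : Subgroup G) : Subgroup G where
  carrier := {c | c ∈ C ∧ ∀ g ∈ C, g * c * g⁻¹ ∈ normalizer (V : Set G)}
  one_mem' := ⟨one_mem _, fun g _ => by
    rw [mul_one, mul_inv_cancel]; exact one_mem _⟩
  mul_mem' := by
    rintro a b ⟨ha, ha'⟩ ⟨hb, hb'⟩
    refine ⟨mul_mem ha hb, fun g hg => ?_⟩
    have e : g * (a * b) * g⁻¹ = (g * a * g⁻¹) * (g * b * g⁻¹) := by group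
    rw [e]
    exact mul_mem (ha' g hg) (hb' g hg)
  inv_mem' := by
    rintro a ⟨ha, ha'⟩
    refine ⟨inv_mem ha, fun g hg => ?_⟩
    have e : g * a⁻¹ * g⁻¹ = (g * a * g⁻¹)⁻¹ := by group
    rw [e]
    exact inv_mem (ha' g hg)

theorem mem_kc {C V : Subgroup G} {c : G} :
    c ∈ kc C V ↔ c ∈ C ∧ ∀ g ∈ C, g * c * g⁻¹ ∈ normalizer (V : Set G) := Iff.rfl

theorem kc_le {C V : Subgroup G} : kc C V ≤ C := fun _ h => h.1

theorem kc_norm {C V : Subgroup G} {c : G} (h : c ∈ kc C V) : c ∈ normalizer (V : Set G) := by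
  have := h.2 1 (one_mem _)
  rwa [one_mul, inv_one, mul_one] at this

theorem kc_conj {C V : Subgroup G} {c g : G} (h : c ∈ kc C V) (hg : g ∈ C) : g * c * g⁻¹ ∈ kc C V := by
  refine ⟨mul_mem (mul_mem hg h.1) (inv_mem hg), fun k hk => ?_⟩
  have e : k * (g * c * g⁻¹) * k⁻¹ = (k * g) * c * (k * g)⁻¹ := by group
  rw [e]
  exact h.2 _ (mul_mem hk hg)

namespace In

variable {S : Sylow 2 G} {C Z V H₁ H₂ : Subgroup G} {p₁ p₂ : G} (h : In S C Z V H₁ H₂ p₁ p₂)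

include h

theorem swap : In S C Z V H₂ H₁ p₂ p₁ :=
  { h with h₁ := h.h₂, h₂ := h.h₁, ne := h.ne.symm }

theorem V_le : V ≤ nc C V := le_nc C V

theorem M_C : nc C V ≤ C := h.M_le.trans h.SC

theorem zcomm {c z : G} (hc : c ∈ C) (hz : z ∈ Z) : c * z = z * c :=
  (mem_centralizer_iff.1 (h.cZ hc) z hz).symm

theorem p_sq : p₁ * p₁ = 1 := h.sq _ (h.V_le (h.ZV h.h₁.pZ))

omit h in
theorem mem_zpowers_two {p y : G} (hp : p * p = 1) : y ∈ zpowers p ↔ y = 1 ∨ y = p := by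
  constructor
  · intro hy
    let D : Subgroup G :=
      { carrier := {y | y = 1 ∨ y = p}
        one_mem' := Or.inl rfl
        mul_mem' := by
          rintro _ _ (rfl | rfl) (rfl | rfl)
          · exact Or.inl (mul_one 1)
          · exact Or.inr (one_mul _)
          · exact Or.inr (mul_one _)
          · exact Or.inl hp
        inv_mem' := by
          rintro _ (rfl | rfl)
          · exact Or.inl inv_one
          · exact Or.inr (inv_eq_of_mul_eq_one_left hp) }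
    have h1 : zpowers p ≤ D := by rw [zpowers_le]; exact Or.inr rfl
    exact h1 hy
  · rintro (rfl | rfl)
    · exact one_mem _
    · exact mem_zpowers _

theorem mem_p {y : G} : y ∈ zpowers p₁ ↔ y = 1 ∨ y = p₁ := mem_zpowers_two h.p_sq

theorem p_Z : zpowers p₁ ≤ Z := by rw [zpowers_le]; exact h.h₁.pZ

theorem C_p : C ≤ normalizer (zpowers p₁ : Set G) := by
  intro c hc
  rw [mem_normalizer_iff]
  intro y
  constructor
  · intro hy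
    rw [h.zcomm hc (h.p_Z hy), mul_inv_cancel_right]; exact hy
  · intro hy
    have h1 := h.zcomm (inv_mem hc) (h.p_Z hy)
    have e : y = c⁻¹ * (c * y * c⁻¹) * c := by group
    rw [e, h1, inv_mul_cancel_right]
    exact hy

theorem H_le : nc C H₁ ≤ nc C V := nc_le_of fun _ hc _ hu => conj_mem_nc hc (h.h₁.le hu)

variable [Finite G]

theorem C_M : C ≤ normalizer (nc C V : Set G) := le_normalizer_nc C V

theorem C_H : C ≤ normalizer (nc C H₁ : Set G) := le_normalizer_nc C H₁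

theorem conj_H {c m : G} (hc : c ∈ C) (hm : m ∈ nc C H₁) : c * m * c⁻¹ ∈ nc C H₁ :=
  (mem_normalizer_iff.1 (h.C_H hc) _).1 hm

/-- `[H₁, c] ≤ ⟨p₁⟩` for `c ∈ N_C(V)` -/
theorem comm_H {c m : G} (hc : c ∈ C) (hcV : c ∈ normalizer (V : Set G)) (hm : m ∈ H₁) :
    c * m * c⁻¹ * m⁻¹ ∈ zpowers p₁ := by
  rw [h.mem_p]
  rcases h.h₁.comm c hc hcV m hm with h1 | h1
  · left; rw [h1, mul_inv_cancel]
  · right; rw [h1, mul_inv_cancel_right]

/-- **(3.4)** `C_C(V₁/⟨p₁⟩) = Kc` -/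
theorem cent_iff {c : G} (hc : c ∈ C) :
    (∀ m ∈ nc C H₁, c * m * c⁻¹ * m⁻¹ ∈ zpowers p₁) ↔ c ∈ kc C V := by
  constructor
  · intro h1
    refine ⟨hc, fun g hg => ?_⟩
    obtain ⟨u, hu, huZ⟩ := h.h₁.out
    have h2 : g⁻¹ * u * g ∈ nc C H₁ := by
      have := conj_mem_nc (X := C) (inv_mem hg) hu
      rwa [inv_inv] at this
    have h3 := h1 _ h2
    have h4 : (g * c * g⁻¹) * u * (g * c * g⁻¹)⁻¹ * u⁻¹ ∈ zpowers p₁ := by
      have e : (g * c * g⁻¹) * u * (g * c * g⁻¹)⁻¹ * u⁻¹ = g * (c * (g⁻¹ * u * g) * c⁻¹ * (g⁻¹ * u * g)⁻¹) * g⁻¹ := by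
        group
      rw [e]
      exact (mem_normalizer_iff.1 (h.C_p hg) _).1 h3
    refine h.fus _ (mul_mem (mul_mem hg hc) (inv_mem hg)) u (h.h₁.le hu) huZ ?_
    have e : (g * c * g⁻¹) * u * (g * c * g⁻¹)⁻¹ = ((g * c * g⁻¹) * u * (g * c * g⁻¹)⁻¹ * u⁻¹) * u := by group
    rw [e]
    exact mul_mem (h.ZV (h.p_Z h4)) (h.h₁.le hu)
  · intro h1
    have hMp : nc C H₁ ≤ normalizer (zpowers p₁ : Set G) := (h.H_le.trans h.M_C).trans h.C_p
    have h2 : nc C H₁ ≤ fd (nc C H₁) (zpowers p₁) hMp {c} := by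
      apply nc_le_of
      intro g hg u hu
      refine ⟨conj_mem_nc hg hu, fun a ha => ?_⟩
      rw [Set.mem_singleton_iff.1 ha]
      have h3 : g⁻¹ * c * g ∈ kc C V := by
        have := kc_conj h1 (inv_mem hg)
        rwa [inv_inv] at this
      have h4 := h.comm_H h3.1 (kc_norm h3) hu
      have e : c * (g * u * g⁻¹) * c⁻¹ * (g * u * g⁻¹)⁻¹ =
          g * ((g⁻¹ * c * g) * u * (g⁻¹ * c * g)⁻¹ * u⁻¹) * g⁻¹ := by group
      rw [e]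
      exact (mem_normalizer_iff.1 (h.C_p hg) _).1 h4
    intro m hm
    exact (h2 hm).2 c rfl

/-- an element of `Kc` centralising `V₁` centralises `V_C` -/
theorem cent_all {c : G} (hc : c ∈ kc C V) (h1 : ∀ m ∈ nc C H₁, c * m = m * c) {m : G} (hm : m ∈ nc C V) :
    c * m = m * c := by
  have h2 : nc C V ≤ centralizer ({c} : Set G) := by
    apply nc_le_of
    intro g hg v hv
    rw [mem_centralizer_singleton_iff]
    have h3 : g⁻¹ * c * g ∈ kc C V := by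
      have := kc_conj hc (inv_mem hg)
      rwa [inv_inv] at this
    have h4 : ∀ u ∈ H₁, (g⁻¹ * c * g) * u = u * (g⁻¹ * c * g) := by
      intro u hu
      have h5 := h1 _ (conj_mem_nc (X := C) hg hu)
      calc (g⁻¹ * c * g) * u = g⁻¹ * (c * (g * u * g⁻¹)) * g := by group
        _ = g⁻¹ * (g * u * g⁻¹ * c) * g := by rw [h5]
        _ = u * (g⁻¹ * c * g) := by group
    have h5 := h.h₁.cent _ h3.1 (kc_norm h3) h4 v hv
    calc g * v * g⁻¹ * c = g * (v * (g⁻¹ * c * g)) * g⁻¹ := by group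
      _ = g * ((g⁻¹ * c * g) * v) * g⁻¹ := by rw [h5]
      _ = c * (g * v * g⁻¹) := by group
  exact (mem_centralizer_singleton_iff.1 (h2 hm)).symm

/-- the pairing of `A ∩ Kc` with `V₁` -/
theorem pair {A : Subgroup G} (hAC : A ≤ C) :
    Nat.card ↥(A ⊓ centralizer (nc C V : Set G)) * Nat.card ↥(nc C H₁) =
      Nat.card ↥(A ⊓ kc C V) * Nat.card ↥(nc C H₁ ⊓ centralizer ((A ⊓ kc C V : Subgroup G) : Set G)) := by
  have h1 := MinSimple.BTwoD.pairing (A := A ⊓ kc C V) (B := nc C H₁) h.p_sq h.h₁.p1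
    (fun a ha => (h.zcomm (hAC ha.1) h.h₁.pZ).symm)
    (fun b hb => (h.zcomm (h.M_C (h.H_le hb)) h.h₁.pZ).symm) (by
      intro a ha b hb
      rcases h.mem_p.1 ((h.cent_iff (hAC ha.1)).2 ha.2 b hb) with h2 | h2
      · left
        calc a * b = (a * b * a⁻¹ * b⁻¹) * (b * a) := by group
          _ = b * a := by rw [h2, one_mul]
      · right
        calc a * b = (a * b * a⁻¹ * b⁻¹) * (b * a) := by group
          _ = p₁ * (b * a) := by rw [h2])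
  have h2 : (A ⊓ kc C V) ⊓ centralizer (nc C H₁ : Set G) = A ⊓ centralizer (nc C V : Set G) := by
    ext a
    constructor
    · rintro ⟨⟨ha, hk⟩, hc⟩
      refine ⟨ha, mem_centralizer_iff.2 fun m hm => ?_⟩
      exact (h.cent_all hk (fun m hm => (mem_centralizer_iff.1 hc m hm).symm) hm).symm
    · rintro ⟨ha, hc⟩
      refine ⟨⟨ha, (h.cent_iff (hAC ha)).1 fun m hm => ?_⟩, mem_centralizer_iff.2 fun m hm =>
        mem_centralizer_iff.1 hc m (h.H_le hm)⟩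
      rw [← mem_centralizer_iff.1 hc m (h.H_le hm), mul_inv_cancel_right, mul_inv_cancel]
      exact one_mem _
  rw [h2] at h1
  exact h1

omit h in
/-- for subgroups of an abelian group -/
theorem card_mul {M X Y : Subgroup G} (ab : ∀ a ∈ M, ∀ b ∈ M, a * b = b * a) (hX : X ≤ M) (hY : Y ≤ M) :
    Nat.card ↥(X ⊔ Y) * Nat.card ↥(X ⊓ Y) = Nat.card X * Nat.card Y := by
  apply Block.card_sup_mul_card_inf
  intro a ha
  refine mem_normalizer_of' fun b hb => ?_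
  rw [ab a (hX ha) b (hY hb), mul_inv_cancel_right]
  exact hb

/-- **(3.5)** -/
theorem ineq {A : Subgroup G} (hA : A ∈ AA (S : Subgroup G)) :
    Nat.card ↥(nc C H₁) * Nat.card ↥(A ⊓ kc C V) ≤ Nat.card A * Nat.card ↥(nc C H₁ ⊓ centralizer (A : Set G)) := by
  have hAC : A ≤ C := hA.2.1.trans h.SC
  have hT := thompson hA h.M_le h.ab h.sq
  have hP₁ := h.pair hAC
  have hP₂ := h.swap.pair hAC
  obtain ⟨A₁, hA₁⟩ : ∃ A₁, A₁ = A ⊓ kc C V := ⟨_, rfl⟩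
  obtain ⟨M, hM⟩ : ∃ M, M = nc C V := ⟨_, rfl⟩
  obtain ⟨X₁, hX₁⟩ : ∃ X, X = nc C H₁ := ⟨_, rfl⟩
  obtain ⟨X₂, hX₂⟩ : ∃ X, X = nc C H₂ := ⟨_, rfl⟩
  rw [← hA₁, ← hM, ← hX₁] at hP₁
  rw [← hA₁, ← hM, ← hX₂] at hP₂
  rw [← hM] at hT
  rw [← hA₁, ← hX₁]
  have ab : ∀ a ∈ M, ∀ b ∈ M, a * b = b * a := by rw [hM]; exact h.ab
  have hX₁M : X₁ ≤ M := by rw [hX₁, hM]; exact h.H_le
  have hX₂M : X₂ ≤ M := by rw [hX₂, hM]; exact h.swap.H_le
  have hA₁A : A₁ ≤ A := by rw [hA₁]; exact inf_le_left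
  have hcomm₁ : ∀ a ∈ A₁, ∀ m ∈ X₁, a * m * a⁻¹ * m⁻¹ = 1 ∨ a * m * a⁻¹ * m⁻¹ = p₁ := by
    intro a ha m hm
    rw [hA₁] at ha
    rw [hX₁] at hm
    exact h.mem_p.1 ((h.cent_iff (hAC ha.1)).2 ha.2 m hm)
  have hcomm₂ : ∀ a ∈ A₁, ∀ m ∈ X₂, a * m * a⁻¹ * m⁻¹ = 1 ∨ a * m * a⁻¹ * m⁻¹ = p₂ := by
    intro a ha m hm
    rw [hA₁] at ha
    rw [hX₂] at hm
    exact h.swap.mem_p.1 ((h.swap.cent_iff (hAC ha.1)).2 ha.2 m hm)
  have hcm : ∀ a m : G, a * m * a⁻¹ * m⁻¹ = 1 ↔ a * m = m * a := by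
    intro a m
    constructor
    · intro h1
      calc a * m = (a * m * a⁻¹ * m⁻¹) * (m * a) := by group
        _ = m * a := by rw [h1, one_mul]
    · intro h1
      rw [h1, mul_inv_cancel_right, mul_inv_cancel]
  -- `C(A₁)`
  obtain ⟨D, hD⟩ : ∃ D, D = centralizer (A₁ : Set G) := ⟨_, rfl⟩
  obtain ⟨E, hE⟩ : ∃ E, E = centralizer (A : Set G) := ⟨_, rfl⟩
  rw [← hD] at hP₁ hP₂
  rw [← hE] at hT ⊢
  have hED : E ≤ D := by
    rw [hE, hD]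
    exact centralizer_le hA₁A
  have hDm : ∀ m, m ∈ D ↔ ∀ a ∈ A₁, a * m = m * a := by
    intro m; rw [hD]; exact mem_centralizer_iff
  -- (X)
  have hXX : X₁ ⊓ X₂ ≤ D := by
    rintro m ⟨hm₁, hm₂⟩
    rw [hDm]
    intro a ha
    rcases hcomm₁ a ha m hm₁ with h1 | h1
    · exact (hcm a m).1 h1
    · rcases hcomm₂ a ha m hm₂ with h2 | h2
      · exact (hcm a m).1 h2
      · exact absurd (h1.symm.trans h2) h.ne
  have hXsup : (X₁ ⊔ X₂) ⊓ D = (X₁ ⊓ D) ⊔ (X₂ ⊓ D) := by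
    apply le_antisymm
    · rintro m ⟨hm, hmD⟩
      obtain ⟨m₁, hm₁, m₂, hm₂, rfl⟩ := Off.mem_sup_of_comm
        (fun x hx y hy => ab x (hX₁M hx) y (hX₂M hy)) hm
      have key : ∀ a ∈ A₁, a * m₁ * a⁻¹ * m₁⁻¹ = 1 ∧ a * m₂ * a⁻¹ * m₂⁻¹ = 1 := by
        intro a ha
        have h1 : a * (m₁ * m₂) * a⁻¹ * (m₁ * m₂)⁻¹ = 1 := (hcm _ _).2 ((hDm _).1 hmD a ha)
        have e : a * (m₁ * m₂) * a⁻¹ * (m₁ * m₂)⁻¹ =
            (a * m₁ * a⁻¹ * m₁⁻¹) * (m₁ * (a * m₂ * a⁻¹ * m₂⁻¹) * m₁⁻¹) := by group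
        have hZ : ∀ z ∈ Z, m₁ * z * m₁⁻¹ = z := by
          intro z hz
          rw [h.zcomm (h.M_C (hM ▸ hX₁M hm₁)) hz, mul_inv_cancel_right]
        rw [e] at h1
        rcases hcomm₁ a ha m₁ hm₁ with h2 | h2 <;> rcases hcomm₂ a ha m₂ hm₂ with h3 | h3
        · exact ⟨h2, h3⟩
        · exfalso
          rw [h2, h3, hZ _ h.h₂.pZ, one_mul] at h1
          exact h.h₂.p1 h1
        · exfalso
          rw [h2, h3, mul_one, mul_inv_cancel, mul_one] at h1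
          exact h.h₁.p1 h1
        · exfalso
          rw [h2, h3, hZ _ h.h₂.pZ] at h1
          apply h.ne
          rw [eq_inv_of_mul_eq_one_left h1]
          exact inv_eq_of_mul_eq_one_left h.swap.p_sq
      refine mul_mem (mem_sup_left ⟨hm₁, (hDm _).2 fun a ha => (hcm _ _).1 (key a ha).1⟩)
        (mem_sup_right ⟨hm₂, (hDm _).2 fun a ha => (hcm _ _).1 (key a ha).2⟩)
    · exact sup_le (inf_le_inf_right _ le_sup_left) (inf_le_inf_right _ le_sup_right)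
  have hinf : (X₁ ⊓ D) ⊓ (X₂ ⊓ D) = X₁ ⊓ X₂ := by
    ext m
    constructor
    · rintro ⟨⟨h1, -⟩, ⟨h2, -⟩⟩
      exact ⟨h1, h2⟩
    · intro hm
      exact ⟨⟨hm.1, hXX hm⟩, ⟨hm.2, hXX hm⟩⟩
  have e1 := card_mul ab hX₁M hX₂M
  have e2 := card_mul ab (X := X₁ ⊓ D) (Y := X₂ ⊓ D) (inf_le_left.trans hX₁M) (inf_le_left.trans hX₂M)
  rw [← hXsup, hinf] at e2
  have hXM : X₁ ⊔ X₂ ≤ M := sup_le hX₁M hX₂M
  have e3 := card_mul ab (X := X₁ ⊔ X₂) (Y := M ⊓ D) hXM inf_le_left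
  have e4 : (X₁ ⊔ X₂) ⊓ (M ⊓ D) = (X₁ ⊔ X₂) ⊓ D := by
    rw [← inf_assoc, inf_eq_left.2 hXM]
  rw [e4] at e3
  have e5 : Nat.card ↥((X₁ ⊔ X₂) ⊔ (M ⊓ D)) ≤ Nat.card M := Subgroup.card_le_of_le (sup_le hXM inf_le_left)
  -- (M)
  have e6 := card_mul ab (X := X₁ ⊓ D) (Y := M ⊓ E) (inf_le_left.trans hX₁M) inf_le_left
  have e7 : (X₁ ⊓ D) ⊓ (M ⊓ E) = X₁ ⊓ E := by
    ext m
    constructor
    · rintro ⟨⟨h1, -⟩, ⟨-, h2⟩⟩
      exact ⟨h1, h2⟩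
    · rintro ⟨h1, h2⟩
      exact ⟨⟨h1, hED h2⟩, ⟨hX₁M h1, h2⟩⟩
  rw [e7] at e6
  have e8 : Nat.card ↥((X₁ ⊓ D) ⊔ (M ⊓ E)) ≤ Nat.card ↥(M ⊓ D) :=
    Subgroup.card_le_of_le (sup_le (inf_le_inf_right _ hX₁M) (inf_le_inf_left _ hED))
  -- numbers
  obtain ⟨f, hf⟩ : ∃ f, f = Nat.card ↥(A ⊓ centralizer (M : Set G)) := ⟨_, rfl⟩
  rw [← hf] at hP₁ hP₂ hT
  generalize Nat.card A = a at *
  generalize Nat.card A₁ = a₁ at *
  generalize Nat.card M = v at *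
  generalize Nat.card X₁ = v₁ at *
  generalize Nat.card X₂ = v₂ at *
  have q1 : 0 < Nat.card ↥(M ⊓ D) := Nat.card_pos
  have q2 : 0 < Nat.card ↥(X₂ ⊓ D) := Nat.card_pos
  have q3 : 0 < Nat.card ↥(X₁ ⊓ X₂) := Nat.card_pos
  have q4 : 0 < Nat.card ↥((X₁ ⊔ X₂) ⊓ D) := Nat.card_pos
  generalize Nat.card ↥(M ⊓ D) = c₁ at *
  generalize Nat.card ↥(M ⊓ E) = c at *
  generalize Nat.card ↥(X₁ ⊓ D) = d₁ at *
  generalize Nat.card ↥(X₂ ⊓ D) = d₂ at *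
  generalize Nat.card ↥(X₁ ⊓ E) = t at *
  generalize Nat.card ↥(X₁ ⊓ X₂) = i at *
  generalize Nat.card ↥((X₁ ⊔ X₂) ⊓ D) = s at *
  generalize Nat.card ↥(X₁ ⊔ X₂) = w at *
  -- (X): `v₁ v₂ c₁ ≤ v d₁ d₂`
  have r1 : w * c₁ ≤ v * s := by rw [← e3]; exact Nat.mul_le_mul_right _ e5
  have r2 : v₁ * v₂ * c₁ ≤ v * (d₁ * d₂) := by
    rw [← e1, ← e2]
    calc w * i * c₁ = (w * c₁) * i := by ring
      _ ≤ (v * s) * i := Nat.mul_le_mul_right _ r1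
      _ = v * (s * i) := by ring
  have r3 : d₁ * c ≤ c₁ * t := by rw [← e6]; exact Nat.mul_le_mul_right _ e8
  have q5 : 0 < d₂ * c₁ := Nat.mul_pos q2 q1
  refine Nat.le_of_mul_le_mul_right ?_ q5
  calc v₁ * a₁ * (d₂ * c₁) = v₁ * (a₁ * d₂) * c₁ := by ring
    _ = v₁ * (f * v₂) * c₁ := by rw [hP₂]
    _ = f * (v₁ * v₂ * c₁) := by ring
    _ ≤ f * (v * (d₁ * d₂)) := Nat.mul_le_mul_left _ r2
    _ = (v * f) * (d₁ * d₂) := by ring
    _ ≤ (a * c) * (d₁ * d₂) := Nat.mul_le_mul_right _ hT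
    _ = a * d₂ * (d₁ * c) := by ring
    _ ≤ a * d₂ * (c₁ * t) := Nat.mul_le_mul_left _ r3
    _ = a * t * (d₂ * c₁) := by ring

end In

/-! ### the module -/

/-- the action of `C/Kc` on `M₁ = V₁/⟨p₁⟩` -/
structure Rr (S : Sylow 2 G) (C Z V H₁ : Subgroup G) (p₁ : G) {H M : Type u} [Group H] [CommGroup M]
    (ρ : H →* MulAut M) (r : C →* H) (μ : nc C H₁ →* M) (lam : M) : Prop where
  rp : Rp C (nc C H₁) (zpowers p₁) ρ r μ
  sq : ∀ m : M, m * m = 1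
  core : ∀ D : Subgroup H, D.Normal → IsPGroup 2 D → D = ⊥
  ker : ∀ c : C, r c = 1 ↔ (c : G) ∈ kc C V
  lam_fix : ∀ c : C, ρ (r c) lam = lam ↔ (c : G) ∈ normalizer (V : Set G)
  lam_ne : lam ≠ 1
  lam_eq : ∀ u : nc C H₁, (u : G) ∈ H₁ → (u : G) ∉ Z → μ u = lam
  gen : closure {m | ∃ g : H, m = ρ g lam} = ⊤
  f3 : ∀ g : H, orderOf g = 3 → ρ g lam ≠ lam
  two : IsPGroup 2 (((S : Subgroup G).subgroupOf C).map r)
  odd : ¬ 2 ∣ (((S : Subgroup G).subgroupOf C).map r).index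
  fixS : ∀ g ∈ ((S : Subgroup G).subgroupOf C).map r, ρ g lam = lam
  off : ∀ A ∈ AA (S : Subgroup G), (CS ρ ((A.subgroupOf C).map r)).index ≤ Nat.card ((A.subgroupOf C).map r)

/-- **(3.4)-(3.5)** -/
theorem In.exists_rep [Finite G] {S : Sylow 2 G} {C Z V H₁ H₂ : Subgroup G} {p₁ p₂ : G}
    (h : In S C Z V H₁ H₂ p₁ p₂) :
    ∃ (H M : Type u) (_ : Group H) (_ : CommGroup M) (_ : Finite H) (_ : Finite M) (ρ : H →* MulAut M)
      (r : C →* H) (μ : nc C H₁ →* M) (lam : M), Rr S C Z V H₁ p₁ ρ r μ lam := by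
  have ab : ∀ a ∈ nc C H₁, ∀ b ∈ nc C H₁, a * b = b * a := fun a ha b hb => h.ab a (h.H_le ha) b (h.H_le hb)
  obtain ⟨M, iM, iM', H, iH, iH', ρ, r, μ, R⟩ := exists_rp (F := zpowers p₁) h.C_H h.C_p ab
  have hact : ∀ (c : G) (hc : c ∈ C) (m : G) (hm : m ∈ nc C H₁),
      ρ (r ⟨c, hc⟩) (μ ⟨m, hm⟩) = μ ⟨c * m * c⁻¹, h.conj_H hc hm⟩ := fun c hc m hm => R.act ⟨c, hc⟩ ⟨m, hm⟩ _
  have hμ : ∀ (m : G) (hm : m ∈ nc C H₁) (n : G) (hn : n ∈ nc C H₁),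
      μ ⟨m, hm⟩ = μ ⟨n, hn⟩ ↔ m * n⁻¹ ∈ zpowers p₁ := by
    intro m hm n hn
    rw [← mul_inv_eq_one, ← map_inv, ← map_mul, R.π_one]
    exact Iff.rfl
  have hfix : ∀ (c : G) (hc : c ∈ C) (m : G) (hm : m ∈ nc C H₁),
      ρ (r ⟨c, hc⟩) (μ ⟨m, hm⟩) = μ ⟨m, hm⟩ ↔ c * m * c⁻¹ * m⁻¹ ∈ zpowers p₁ := by
    intro c hc m hm
    rw [hact, hμ]
  have hr1 : ∀ (c : G) (hc : c ∈ C), r ⟨c, hc⟩ = 1 ↔ c ∈ kc C V := by
    intro c hc
    rw [← h.cent_iff hc]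
    constructor
    · intro h1 m hm
      rw [← hfix c hc m hm, h1, map_one]; rfl
    · intro h1
      apply R.inj
      rw [map_one]
      apply MulEquiv.ext
      intro u
      obtain ⟨⟨m, hm⟩, rfl⟩ := R.π_surj u
      exact (hfix c hc m hm).2 (h1 m hm)
  have hsq : ∀ m : M, m * m = 1 := by
    intro u
    obtain ⟨⟨m, hm⟩, rfl⟩ := R.π_surj u
    rw [← map_mul, R.π_one]
    show m * m ∈ zpowers p₁
    rw [h.sq m (h.H_le hm)]
    exact one_mem _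
  obtain ⟨u₀, hu₀, hu₀Z⟩ := h.h₁.out
  have hu₀' : u₀ ∈ nc C H₁ := le_nc C H₁ hu₀
  obtain ⟨lam, hlam⟩ : ∃ lam, lam = μ ⟨u₀, hu₀'⟩ := ⟨_, rfl⟩
  have hlf : ∀ (c : G) (hc : c ∈ C), ρ (r ⟨c, hc⟩) lam = lam ↔ c ∈ normalizer (V : Set G) := by
    intro c hc
    rw [hlam, hfix]
    constructor
    · intro h1
      refine h.fus c hc u₀ (h.h₁.le hu₀) hu₀Z ?_
      have e : c * u₀ * c⁻¹ = (c * u₀ * c⁻¹ * u₀⁻¹) * u₀ := by group
      rw [e]
      exact mul_mem (h.ZV (h.p_Z h1)) (h.h₁.le hu₀)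
    · intro h1
      exact h.comm_H hc h1 hu₀
  have hleq : ∀ (u : G) (hu' : u ∈ nc C H₁), u ∈ H₁ → u ∉ Z → μ ⟨u, hu'⟩ = lam := by
    intro u hu' hu huZ
    rw [hlam, hμ, h.mem_p]
    rcases h.h₁.outZ u₀ hu₀ u hu hu₀Z huZ with h1 | h1
    · left; rw [h1, mul_inv_cancel]
    · right; rw [h1, mul_inv_cancel_right]
  have hgen : closure {m | ∃ g : H, m = ρ g lam} = ⊤ := by
    rw [eq_top_iff]
    intro m _
    obtain ⟨⟨m, hm⟩, rfl⟩ := R.π_surj m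
    have h1 : nc C H₁ ≤ ((closure {m | ∃ g : H, m = ρ g lam}).comap μ).map (nc C H₁).subtype := by
      apply nc_le_of
      intro c hc u hu
      refine ⟨⟨c * u * c⁻¹, conj_mem_nc hc hu⟩, ?_, rfl⟩
      rw [SetLike.mem_coe, mem_comap]
      have h2 : μ ⟨c * u * c⁻¹, conj_mem_nc hc hu⟩ = ρ (r ⟨c, hc⟩) (μ ⟨u, le_nc C H₁ hu⟩) :=
        (hact c hc u (le_nc C H₁ hu)).symm
      rw [h2]
      by_cases huZ : u ∈ Z
      · have h3 : μ ⟨u, le_nc C H₁ hu⟩ = 1 := by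
          rw [R.π_one]
          exact h.mem_p.2 (h.h₁.inZ u hu huZ)
        rw [h3, map_one]
        exact one_mem _
      · rw [hleq u (le_nc C H₁ hu) hu huZ]
        exact subset_closure ⟨_, rfl⟩
    obtain ⟨⟨m', hm'⟩, h2, h3⟩ := h1 hm
    have h4 : m' = m := h3
    subst h4
    exact h2
  have hT2 : IsPGroup 2 (((S : Subgroup G).subgroupOf C).map r) :=
    (S.isPGroup'.comap_of_injective C.subtype C.subtype_injective).map r
  have hfact : Fact (Nat.Prime 2) := ⟨Nat.prime_two⟩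
  have hTi : ¬ 2 ∣ (((S : Subgroup G).subgroupOf C).map r).index := by
    intro h1
    have h2 := h1.trans (index_map_dvd ((S : Subgroup G).subgroupOf C) R.r_surj)
    exact S.not_dvd_index (h2.trans (relIndex_dvd_index_of_le h.SC))
  have hfS : ∀ g ∈ ((S : Subgroup G).subgroupOf C).map r, ρ g lam = lam := by
    rintro _ ⟨⟨s, hsC⟩, hs, rfl⟩
    exact (hlf s hsC).2 (h.SV (mem_subgroupOf.1 hs))
  have hcore : ∀ D : Subgroup H, D.Normal → IsPGroup 2 D → D = ⊥ := by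
    intro D hD hDp
    obtain ⟨T, hT⟩ : ∃ T, T = ((S : Subgroup G).subgroupOf C).map r := ⟨_, rfl⟩
    rw [← hT] at hT2 hTi hfS
    have h1 : D ≤ T := by
      have h2 : IsPGroup 2 (D ⊔ T : Subgroup H) := hDp.to_sup_of_normal_left hT2
      have h3 := (hT2.toSylow hTi).is_maximal' h2 (le_sup_right : T ≤ D ⊔ T)
      have h4 : D ⊔ T = T := h3
      rw [← h4]
      exact le_sup_left
    rw [eq_bot_iff]
    intro d hd
    rw [mem_bot]
    apply R.inj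
    rw [map_one]
    apply MulEquiv.ext
    intro m
    show ρ d m = m
    have h2 : closure {m | ∃ g : H, m = ρ g lam} ≤ fx ρ d := by
      rw [closure_le]
      rintro _ ⟨g, rfl⟩
      show ρ d (ρ g lam) = ρ g lam
      have h3 := hfS _ (h1 (hD.conj_mem d hd g⁻¹))
      have h4 : ρ d (ρ g lam) = ρ g (ρ (g⁻¹ * d * g⁻¹⁻¹) lam) := by
        rw [← MulAut.mul_apply, ← MulAut.mul_apply, ← map_mul, ← map_mul]
        congr 2
        group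
      rw [h4, h3]
    rw [hgen] at h2
    exact h2 (mem_top m)
  refine ⟨H, M, iH, iM, iH', iM', ρ, r, μ, lam, R, hsq, hcore, fun c => hr1 c c.2, fun c => hlf c c.2, ?_,
    fun u hu huZ => hleq u u.2 hu huZ, hgen, ?_, hT2, hTi, hfS, ?_⟩
  · rw [hlam]
    intro h1
    rw [R.π_one] at h1
    exact hu₀Z (h.p_Z h1)
  · intro g hg hgl
    obtain ⟨⟨c, hc⟩, rfl⟩ := R.r_surj g
    have hcV := (hlf c hc).1 hgl
    have h1 : orderOf (r ⟨c, hc⟩) ∣ orderOf (⟨c, hc⟩ : C) := orderOf_map_dvd r _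
    rw [hg, orderOf_mk] at h1
    obtain ⟨k, hk⟩ := h1
    have hpos := orderOf_pos c
    have hk0 : k ≠ 0 := by
      rintro rfl
      omega
    refine h.three (c ^ k) (pow_mem hc k) (pow_mem hcV k) ?_
    rw [orderOf_pow' c hk0, hk, Nat.gcd_mul_left_left, Nat.mul_div_cancel _ (Nat.pos_of_ne_zero hk0)]
  · intro A hA
    have hAC : A ≤ C := hA.2.1.trans h.SC
    have hi := h.ineq hA
    obtain ⟨B, hB⟩ : ∃ B, B = (A.subgroupOf C).map r := ⟨_, rfl⟩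
    rw [← hB]
    have hBm : ∀ a (ha : a ∈ A), r ⟨a, hAC ha⟩ ∈ B := by
      intro a ha
      rw [hB]
      exact ⟨⟨a, hAC ha⟩, mem_subgroupOf.2 ha, rfl⟩
    have hBo : ∀ b ∈ B, ∃ a, ∃ ha : a ∈ A, r ⟨a, hAC ha⟩ = b := by
      intro b hb
      rw [hB] at hb
      obtain ⟨⟨a, haC⟩, ha, rfl⟩ := hb
      exact ⟨a, mem_subgroupOf.1 ha, rfl⟩
    have hcardB : Nat.card B * Nat.card ↥(A ⊓ kc C V) = Nat.card A := by
      obtain ⟨ψ, hψ⟩ : ∃ ψ : A →* H, ψ = r.comp (inclusion hAC) := ⟨_, rfl⟩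
      have hψ' : ∀ a (ha : a ∈ A), ψ ⟨a, ha⟩ = r ⟨a, hAC ha⟩ := by
        intro a ha; rw [hψ]; rfl
      have h1 : ψ.range = B := by
        ext b
        constructor
        · rintro ⟨⟨a, ha⟩, rfl⟩
          rw [hψ']
          exact hBm a ha
        · intro hb
          obtain ⟨a, ha, rfl⟩ := hBo b hb
          exact ⟨⟨a, ha⟩, hψ' a ha⟩
      have h2 : ψ.ker = (A ⊓ kc C V).subgroupOf A := by
        ext ⟨a, ha⟩
        rw [MonoidHom.mem_ker, hψ', hr1, mem_subgroupOf]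
        exact ⟨fun h3 => ⟨ha, h3⟩, fun h3 => h3.2⟩
      have h4 := ψ.ker.card_mul_index
      rw [index_ker, h1, h2, Nat.card_congr (subgroupOfEquivOfLe inf_le_left).toEquiv] at h4
      rw [← h4, mul_comm]
    have h1 : (nc C H₁ ⊓ centralizer (A : Set G)).subgroupOf (nc C H₁) ≤ (CS ρ B).comap μ := by
      rintro ⟨m, hm⟩ hm'
      rw [mem_comap, mem_CS]
      intro b hb
      obtain ⟨a, ha, rfl⟩ := hBo b hb
      rw [hfix]
      have h2 := mem_centralizer_iff.1 (mem_subgroupOf.1 hm').2 a ha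
      have h3 : a * m = m * a := h2
      rw [h3, mul_inv_cancel_right, mul_inv_cancel]
      exact one_mem _
    have h2 : (CS ρ B).index ≤ ((nc C H₁ ⊓ centralizer (A : Set G)).subgroupOf (nc C H₁)).index := by
      rw [← index_comap_of_surjective _ R.π_surj]
      exact Nat.le_of_dvd (Nat.pos_of_ne_zero index_ne_zero_of_finite) (index_dvd_of_le h1)
    have h4 := ((nc C H₁ ⊓ centralizer (A : Set G)).subgroupOf (nc C H₁)).card_mul_index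
    rw [Nat.card_congr (subgroupOfEquivOfLe inf_le_left).toEquiv] at h4
    refine h2.trans ?_
    have h5 : 0 < Nat.card ↥(nc C H₁ ⊓ centralizer (A : Set G)) * Nat.card ↥(A ⊓ kc C V) :=
      Nat.mul_pos Nat.card_pos Nat.card_pos
    refine Nat.le_of_mul_le_mul_right ?_ h5
    calc _ = Nat.card ↥(nc C H₁ ⊓ centralizer (A : Set G)) *
          ((nc C H₁ ⊓ centralizer (A : Set G)).subgroupOf (nc C H₁)).index * Nat.card ↥(A ⊓ kc C V) := by ring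
      _ = Nat.card ↥(nc C H₁) * Nat.card ↥(A ⊓ kc C V) := by rw [h4]
      _ ≤ Nat.card A * Nat.card ↥(nc C H₁ ⊓ centralizer (A : Set G)) := hi
      _ = Nat.card B * Nat.card ↥(A ⊓ kc C V) * Nat.card ↥(nc C H₁ ⊓ centralizer (A : Set G)) := by rw [hcardB]
      _ = _ := by ring

end Cfsg.Agent.OddCyclic.BcP.D4B
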