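import Cfsg.Agent.OddCyclic.EN.NatTwo.Off
import Cfsg.Agent.OddCyclic.EN.SevMod
import Cfsg.Agent.OddCyclic.CycConj

/-!
# [Bc], type (b'), (D4) (3.6): the pure module theorem

`H` with cyclic odd Sylow subgroups, `O₂(H) = 1`, `S₀` a Sylow 2-subgroup fixing `lam`, no element of order 3 fixes `lam`;
`x` of order 3 normalises `O ≤ S₀` and is inverted modulo `O` by `S₀ ∖ O`; `A ≤ S₀` elementary abelian, `A ≰ O`,
`|V : C_V(A)| ≤ |A|`: then `⟨x⟩ ⊴ H` and `|V : C_V(x)| = 4`.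
-/

set_option autoImplicit false
set_option linter.unusedSectionVars false
set_option linter.style.haveILetI false

namespace Cfsg.Agent.OddCyclic.BcP.D4C

open Matrix Subgroup Cfsg.Agent.MinSimple.Geo Cfsg.Agent.OddCyclic.T1Module Cfsg.Agent.OddCyclic.T1Sl2
  Cfsg.Agent.OddCyclic.FFBasic Cfsg.Agent.OddCyclic.FFRed Cfsg.Agent.OddCyclic.FFSl2
  Cfsg.Agent.OddCyclic.T1Defs Cfsg.Agent.OddCyclic.RedFFDefs Cfsg.Agent.OddCyclic.FFOuterPerm
open Cfsg.Agent.OddCyclic.EN.NatTwo (IsU exists_one card_le exists_bo ev_three D8 D8_two)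
open Cfsg.Agent.OddCyclic.FFOuter (ac e_ac ac_coe ac_eq_iff)
open Cfsg.Agent.OddCyclic.L2Borel
open Cfsg.Agent.Classification.QDW.TypeHom
open Equiv (swap)
open scoped Pointwise

universe u

/-- the data -/
structure Dat {H : Type u} [Group H] {V : Type u} [CommGroup V] (ρ : H →* MulAut V) (S₀ O A : Subgroup H) (x : H)
    (lam : V) : Prop where
  hc : OddCyc H
  ffc : FFC H
  o2 : ∀ D : Subgroup H, D.Normal → IsPGroup 2 D → D = ⊥
  sq : ∀ v : V, v * v = 1
  inj : Function.Injective ρ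
  S2 : IsPGroup 2 S₀
  Si : ¬ 2 ∣ S₀.index
  fix : ∀ s ∈ S₀, ρ s lam = lam
  f3 : ∀ g : H, orderOf g = 3 → ρ g lam ≠ lam
  OS : O ≤ S₀
  x3 : orderOf x = 3
  xO : x ∈ normalizer (O : Set H)
  inv : ∀ t ∈ S₀, t ∉ O → t * x * t⁻¹ * x ∈ O
  AS : A ≤ S₀
  Asq : ∀ a ∈ A, a * a = 1
  AO : ¬ A ≤ O
  idx : (CS ρ A).index ≤ Nat.card A

variable {H : Type u} [Group H] [Finite H] {V : Type u} [CommGroup V] [Finite V] {ρ : H →* MulAut V}
  {S₀ O A B L U : Subgroup H} {x : H} {lam : V} {F : Type} [Field F] [Fintype F] [CharP F 2]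

/-- an element centralising a Sylow 2-subgroup `U` of `L ≅ SL₂(2^n)` acts on `L` as an element of `U` -/
theorem act_U (hL : L.Normal) (e₀ : SpecialLinearGroup (Fin 2) F ≃* L) (hU : IsU L U F) {a : H}
    (ha : ∀ u ∈ U, a * u = u * a) : ∃ u ∈ U, ∀ l ∈ L, a * l * a⁻¹ = u * l * u⁻¹ := by
  obtain ⟨e, he⟩ := exists_one e₀ hU
  obtain ⟨α, hα⟩ : ∃ α, α = ac e a := ⟨_, rfl⟩
  have h1 : ∀ b : F, α (up b) = up b := by
    intro b
    apply EN.NatTwo.e_inj e
    rw [hα, e_ac, ha _ ((he _).2 ⟨b, rfl⟩), mul_inv_cancel_right]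
  obtain ⟨t, s, hts⟩ := exists_form_UI (α := α) (fun y hy => by
    rw [eq_up hy, h1]; exact up_mem _)
  have h2 : ∀ b : F, (s : F) * s * typ α b = b := by
    intro b
    have h3 := h1 b
    rw [hts] at h3
    have h4 := form_tu t s (typ α) b
    rw [h4] at h3
    exact congrArg (fun y : SpecialLinearGroup (Fin 2) F => y 0 1) h3
  have hs : (s : F) = 1 := by
    have h3 := h2 1
    rw [map_one, mul_one] at h3
    exact L2Model.eq_of_sq (by rw [h3, one_mul])
  have hs1 : s = 1 := Units.ext hs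
  have hσ : typ α = 1 := by
    ext b
    have h3 := h2 b
    rw [hs, one_mul, one_mul] at h3
    exact h3
  have h3 : α = MulAut.conj (up t) := by
    rw [hts, hσ, map_one, mul_one, hs1]
    have : (dg (1 : Fˣ) : SpecialLinearGroup (Fin 2) F) = 1 := map_one dgHom
    rw [this, mul_one]
  rw [hα] at h3
  refine ⟨_, (he _).2 ⟨t, rfl⟩, fun l hl => ?_⟩
  obtain ⟨r, hr⟩ : ∃ r, e r = ⟨l, hl⟩ := e.surjective _
  have h4 : (e r : H) = l := by rw [hr]
  rw [← h4, ← e_ac, h3, MulAut.conj_apply, map_mul, map_mul, map_inv]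
  rfl

namespace Dat

variable (h : Dat ρ S₀ O A x lam)
include h

/-- `K ⊴ H`, `3 ∣ |K|`: all elements of order 3 are in `K` -/
theorem three_mem {K : Subgroup H} (hK : K.Normal) {y : H} (hy : y ∈ K) (hy3 : orderOf y = 3) {g : H}
    (hg : orderOf g = 3) : g ∈ K := by
  obtain ⟨w, -, hw⟩ := CycConj.zpowers_conj h.hc 3 ⊤ g y (mem_top _) (mem_top _) hg hy3 (by decide)
  have h1 : g ∈ zpowers (w * y * w⁻¹) := by rw [hw]; exact mem_zpowers _
  exact (zpowers_le.2 (hK.conj_mem _ hy w)) h1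

theorem exists_fix {D : Subgroup H} (hD : IsPGroup 2 D) : ∃ g : H, ∀ d ∈ D, ρ d (ρ g lam) = ρ g lam := by
  have hf2 : Fact (Nat.Prime 2) := ⟨Nat.prime_two⟩
  obtain ⟨P, hP⟩ := hD.exists_le_sylow
  obtain ⟨g, hg⟩ := MulAction.exists_smul_eq H (h.S2.toSylow h.Si) P
  refine ⟨g, fun d hd => ?_⟩
  have h1 : d ∈ P := hP hd
  rw [← hg] at h1
  have h2 : g⁻¹ * d * g ∈ S₀ := by
    have h3 : d ∈ MulAut.conj g • ((h.S2.toSylow h.Si : Sylow 2 H) : Subgroup H) := by
      rw [← Sylow.coe_subgroup_smul]; exact h1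
    rw [Subgroup.mem_pointwise_smul_iff_inv_smul_mem, ← map_inv, MulAut.smul_def, MulAut.conj_apply, inv_inv] at h3
    exact h3
  have h3 := h.fix _ h2
  calc ρ d (ρ g lam) = ρ g (ρ (g⁻¹ * d * g) lam) := by
        rw [← MulAut.mul_apply, ← MulAut.mul_apply, ← map_mul, ← map_mul]; congr 2; group
    _ = ρ g lam := by rw [h3]

theorem f3g (g : H) {y : H} (hy : orderOf y = 3) : ρ y (ρ g lam) ≠ ρ g lam := by
  intro e
  refine h.f3 (g⁻¹ * y * g) ?_ ?_
  · have := orderOf_injective (MulAut.conj g⁻¹).toMonoidHom (MulAut.conj g⁻¹).injective y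
    have e1 : (MulAut.conj g⁻¹).toMonoidHom y = g⁻¹ * y * g := by
      change g⁻¹ * y * g⁻¹⁻¹ = _
      rw [inv_inv]
    rw [e1, hy] at this
    exact this
  · calc ρ (g⁻¹ * y * g) lam = ρ g⁻¹ (ρ y (ρ g lam)) := by
          rw [← MulAut.mul_apply, ← MulAut.mul_apply, ← map_mul, ← map_mul, mul_assoc]
      _ = ρ g⁻¹ (ρ g lam) := by rw [e]
      _ = lam := by rw [← MulAut.mul_apply, ← map_mul, inv_mul_cancel, map_one]; rfl

/-- the case `S₅` -/
theorem not_five (ho : OutFive ρ B) : False := by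
  obtain ⟨K, -, e, -, hsw, -⟩ := ho
  obtain ⟨σ, hσ⟩ : ∃ σ : Equiv.Perm (Fin 5) →* MulAut V, σ = ρ.comp (K.subtype.comp e.symm.toMonoidHom) :=
    ⟨_, rfl⟩
  have hσa : ∀ g w, σ g w = ρ ((e.symm g : K) : H) w := fun g w => by rw [hσ]; rfl
  have hσfx : ∀ g, fx σ g = fx ρ ((e.symm g : K) : H) := fun g => by rw [hσ]; rfl
  obtain ⟨c, hc⟩ : ∃ c, Ev σ c := by
    refine exists_ev h.sq ?_ ?_
    · intro g _ hg1
      by_contra hcon
      push Not at hcon
      apply hg1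
      have h1 : ρ ((e.symm g : K) : H) = 1 := by
        ext1 w
        rw [← hσa, hcon]; rfl
      have h2 : ((e.symm g : K) : H) = 1 := h.inj (by rw [h1, map_one])
      exact e.symm.injective (Subtype.ext (by rw [h2, map_one]; rfl))
    · intro i j hij
      rw [hσfx]
      exact hsw i j hij
  obtain ⟨D, hD⟩ : ∃ D : Subgroup H, D = D8.map (K.subtype.comp e.symm.toMonoidHom) := ⟨_, rfl⟩
  have hD2 : IsPGroup 2 D := by rw [hD]; exact D8_two.map _
  obtain ⟨g, hg⟩ := h.exists_fix hD2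
  have hq : ∀ d ∈ D8, σ d (ρ g lam) = ρ g lam := by
    intro d hd
    rw [hσa]
    exact hg _ (by rw [hD]; exact ⟨d, hd, rfl⟩)
  have h3 := ev_three hc h.sq hq
  rw [hσa] at h3
  refine h.f3g g ?_ h3
  rw [Subgroup.orderOf_coe, MulEquiv.orderOf_eq]
  exact orderOf_eq_prime (p := 3) (by decide) (by decide)

/-- the case `L₃(2)` -/
theorem not_seven (hB : BO ρ B) (hB1 : B ≠ ⊥) (hi : (CS ρ B).index ≤ Nat.card B) (ho : OutSeven B) : False := by
  obtain ⟨K, hK, hBK, hs, hc⟩ := ho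
  have hf2 : Fact (Nat.Prime 2) := ⟨Nat.prime_two⟩
  obtain ⟨T⟩ : Nonempty (Sylow 2 K) := inferInstance
  obtain ⟨g, hg⟩ := h.exists_fix (D := (T : Subgroup K).map K.subtype) (T.2.map _)
  have hna : ∃ a b : K, a * b ≠ b * a := by
    by_contra hcon
    push Not at hcon
    letI : CommGroup K := { (inferInstance : Group K) with mul_comm := hcon }
    have h1 := (IsSimpleGroup.prime_card (α := K))
    rw [hc] at h1
    norm_num at h1
  have hsit : EN.SevMod.Sit (ρ.comp K.subtype) (⊤ : Subgroup K) (ρ g lam) :=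
    { nrm := inferInstance
      simp := Subgroup.topEquiv.isSimpleGroup
      card := by rw [Nat.card_congr Subgroup.topEquiv.toEquiv, hc]
      cent := by
        rcases (inferInstance : (center K).Normal).eq_bot_or_eq_top with h1 | h1
        · rw [← h1, ← Subgroup.centralizer_univ, coe_top]
        · exfalso
          obtain ⟨a, b, hab⟩ := hna
          have h2 : a ∈ center K := by rw [h1]; exact mem_top _
          exact hab ((mem_center_iff.1 h2 b).symm)
      sq := h.sq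
      syl := ⟨T, fun t ht => hg _ ⟨t, ht, rfl⟩⟩
      f3 := fun y hy => h.f3g g (by rw [Subgroup.coe_subtype, Subgroup.orderOf_coe]; exact hy) }
  obtain ⟨B', hB'⟩ : ∃ B' : Subgroup K, B' = B.subgroupOf K := ⟨_, rfl⟩
  have hcard : Nat.card B' = Nat.card B := by
    rw [hB']; exact Nat.card_congr (Subgroup.subgroupOfEquivOfLe hBK).toEquiv
  have hB'sq : ∀ b ∈ B', b * b = 1 := fun b hb => Subtype.ext (hB.sq _ (by rw [hB'] at hb; exact hb))
  have hCS : CS (ρ.comp K.subtype) B' = CS ρ B := by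
    ext v
    constructor
    · intro hv b hb
      exact hv ⟨b, hBK hb⟩ (by rw [hB']; exact hb)
    · intro hv b hb
      exact hv _ (by rw [hB'] at hb; exact hb)
  have h4 : Nat.card B' ≤ 4 := hsit.toSv.card_le_four hB'sq
  obtain ⟨b, hb, hb1⟩ : ∃ b ∈ B', b ≠ 1 := by
    by_contra hcon
    push Not at hcon
    apply hB1
    rw [eq_bot_iff]
    intro b hb
    have := hcon ⟨b, hBK hb⟩ (by rw [hB']; exact hb)
    rw [mem_bot]
    exact congrArg Subtype.val this
  have h5 := hsit.four_le hb1 (hB'sq b hb)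
  have h6 : (fx (ρ.comp K.subtype) b).index ≤ (CS (ρ.comp K.subtype) B').index :=
    Nat.le_of_dvd (Nat.pos_of_ne_zero index_ne_zero_of_finite) (index_dvd_of_le (fun v hv => hv b hb))
  have h7 : (CS (ρ.comp K.subtype) B').index ≤ Nat.card B' := by rw [hCS, hcard]; exact hi
  have h8 := hsit.eight_le_four (A := B') ⟨by omega, hB'sq⟩
  omega

theorem sq_not : x * x ∉ S₀ := by
  intro h1
  obtain ⟨k, hk⟩ := h.S2 ⟨_, h1⟩
  have h2 : (x * x) ^ 2 ^ k = 1 := congrArg Subtype.val hk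
  have h3 : x ^ (2 * 2 ^ k) = 1 := by rw [pow_mul, pow_two]; exact h2
  have h4 := orderOf_dvd_of_pow_eq_one h3
  rw [h.x3, ← pow_succ', Nat.Prime.dvd_iff_one_le_factorization Nat.prime_three (by positivity)] at h4
  rw [Nat.Prime.factorization_pow Nat.prime_two, Finsupp.single_apply] at h4
  norm_num at h4

/-- `|S₀ : O| ≤ 2` -/
theorem mul_mem_O {t s : H} (ht : t ∈ S₀) (hs : s ∈ S₀) (htO : t ∉ O) (hsO : s ∉ O) : t * s ∈ O := by
  by_contra hts
  have h1 := h.inv t ht htO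
  have h2 := h.inv s hs hsO
  have h3 := h.inv _ (mul_mem ht hs) hts
  obtain ⟨a, ha⟩ : ∃ a, a = t * x * t⁻¹ * x := ⟨_, rfl⟩
  obtain ⟨b, hb⟩ : ∃ b, b = s * x * s⁻¹ * x := ⟨_, rfl⟩
  rw [← ha] at h1
  rw [← hb] at h2
  apply h.sq_not
  -- `ts x (ts)⁻¹ x = (t b t⁻¹) (x a⁻¹ x⁻¹) x²`
  have e : t * s * x * (t * s)⁻¹ * x = (t * b * t⁻¹) * (x * a⁻¹ * x⁻¹) * (x * x) := by
    rw [ha, hb]; group
  rw [e] at h3
  have h4 : x * a⁻¹ * x⁻¹ ∈ S₀ := h.OS (ZN.Block.conj_mem_of_normalizer le_rfl h.xO (inv_mem h1))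
  have h5 : t * b * t⁻¹ ∈ S₀ := mul_mem (mul_mem ht (h.OS h2)) (inv_mem ht)
  have h6 : x * x = ((t * b * t⁻¹) * (x * a⁻¹ * x⁻¹))⁻¹ * ((t * b * t⁻¹) * (x * a⁻¹ * x⁻¹) * (x * x)) := by
    group
  rw [h6]
  exact mul_mem (inv_mem (mul_mem h5 h4)) (h.OS h3)

/-- the case `SL₂(q)` -/
theorem not_lin (hBA : B ≤ A) (ho : OutLin ρ B) : False := by
  obtain ⟨L, hL, hBL, F, _, _, hch, h4, ⟨e⟩, hcard, -⟩ := ho
  have hU : IsU L B F := ⟨hBL, (h.S2.to_le (hBA.trans h.AS)), hcard⟩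
  have hBS : B ≤ S₀ := hBA.trans h.AS
  have hLB : S₀ ⊓ L = B := by
    refine (Subgroup.eq_of_le_of_card_ge (le_inf hBS hBL) ?_).symm
    rw [hcard]
    exact card_le e.symm inf_le_right (h.S2.to_le inf_le_left)
  -- `x ∈ L`
  obtain ⟨g, hg, hgB⟩ := hU.exists_ne e.symm
  obtain ⟨y, hy, hy3, -⟩ := hU.three e.symm (hU.cj hL g) (Ne.symm hgB)
  have hxL : x ∈ L := h.three_mem hL hy hy3 h.x3
  -- an element of `B ⊓ O`
  obtain ⟨b, hb, hbO, hb1⟩ : ∃ b ∈ B, b ∈ O ∧ b ≠ 1 := by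
    by_contra hcon
    push Not at hcon
    have h5 : ∀ b ∈ B, b ≠ 1 → b ∉ O := fun b hb hb1 hbO => hb1 (hcon b hb hbO)
    have h6 : Nat.card B ≤ 2 := by
      by_contra h7
      push Not at h7
      have : Nontrivial B := Finite.one_lt_card_iff_nontrivial.1 (by omega)
      obtain ⟨b, hb⟩ := _root_.exists_ne (1 : B)
      have h8 : ∀ c : B, c = 1 ∨ c = b⁻¹ := by
        intro c
        by_cases hc : c = 1
        · exact Or.inl hc
        right
        have h9 := h.mul_mem_O (hBS c.2) (hBS b.2) (h5 _ c.2 (fun e => hc (Subtype.ext e)))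
          (h5 _ b.2 (fun e => hb (Subtype.ext e)))
        have h10 := hcon _ (mul_mem c.2 b.2) h9
        exact Subtype.ext (eq_inv_of_mul_eq_one_left h10)
      classical
      have h11 : Nat.card B ≤ Nat.card Bool := by
        refine Nat.card_le_card_of_injective (fun c : B => decide (c = 1)) ?_
        intro c d hcd
        have h12 : (c = 1) ↔ (d = 1) := by simpa using hcd
        rcases h8 c with h13 | h13 <;> rcases h8 d with h14 | h14
        · rw [h13, h14]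
        · rw [h13, h12.1 h13]
        · rw [h14, h12.2 h14]
        · rw [h13, h14]
      have h15 : Nat.card Bool = 2 := by rw [Nat.card_eq_fintype_card, Fintype.card_bool]
      omega
    omega
  have hxb : x * b * x⁻¹ ∈ B := by
    rw [← hLB]
    exact ⟨h.OS (ZN.Block.conj_mem_of_normalizer le_rfl h.xO hbO), hL.conj_mem _ (hBL hb) x⟩
  have hxB : cj x B = B := by
    by_contra hne
    have h5 := hU.inf e.symm (hU.cj hL x) (Ne.symm hne) hxb (conj_mem_cj hb)
    apply hb1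
    calc b = x⁻¹ * (x * b * x⁻¹) * x := by group
      _ = 1 := by rw [h5]; group
  obtain ⟨a, ha, haO⟩ := SetLike.not_le_iff_exists.1 h.AO
  obtain ⟨w, hw, hw'⟩ := act_U hL e.symm hU (a := a) (fun c hc => comm_of_sq h.Asq ha (hBA hc))
  have h5 := h.inv a (h.AS ha) haO
  rw [hw' x hxL] at h5
  apply h.sq_not
  have h6 : x * w⁻¹ * x⁻¹ ∈ B := by
    rw [← hxB]; exact conj_mem_cj (inv_mem hw)
  have h7 : x * x = (w * (x * w⁻¹ * x⁻¹))⁻¹ * (w * x * w⁻¹ * x) := by group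
  rw [h7]
  exact mul_mem (inv_mem (mul_mem (hBS hw) (hBS h6))) (h.OS h5)

/-- **(3.6)** -/
theorem main : (zpowers x).Normal ∧ (fx ρ x).index = 4 := by
  have hA1 : A ≠ ⊥ := by
    intro e
    apply h.AO
    rw [e]; exact bot_le
  obtain ⟨B, hB, hB1, hBO⟩ := exists_bo ρ h.Asq hA1 h.idx
  rcases h.ffc _ h.sq ρ h.inj h.o2 B hBO hB1 with ho | ho | ho | ho
  · obtain ⟨y, hy3, hyn, -, -, -, hy4⟩ := ho
    have h1 := h.three_mem hyn (mem_zpowers y) hy3 h.x3
    have h2 : zpowers x = zpowers y := Subgroup.eq_of_le_of_card_ge (zpowers_le.2 h1) (by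
      rw [Nat.card_zpowers, Nat.card_zpowers, h.x3, hy3])
    have h3 : ∀ {a b : H}, zpowers a ≤ zpowers b → fx ρ b ≤ fx ρ a := by
      intro a b hab v hv
      have h5 : zpowers b ≤ stb ρ v := by rw [zpowers_le]; exact hv
      exact h5 (hab (mem_zpowers a))
    refine ⟨by rw [h2]; exact hyn, ?_⟩
    rw [le_antisymm (h3 h2.ge) (h3 h2.le)]
    exact hy4
  · exact (h.not_lin hB ho).elim
  · exact (h.not_five ho).elim
  · refine (h.not_seven hBO hB1 ?_ ho).elim
    have h1 := hBO.best ⊥ bot_le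
    rw [card_bot, one_mul, CS_bot] at h1
    have h2 := (CS ρ B).card_mul_index
    have h3 : 0 < Nat.card (CS ρ B) := Nat.card_pos
    have h4 : Nat.card (⊤ : Subgroup V) = Nat.card V := Nat.card_congr Subgroup.topEquiv.toEquiv
    rw [h4, ← h2, mul_comm] at h1
    exact Nat.le_of_mul_le_mul_right h1 h3

end Dat

end Cfsg.Agent.OddCyclic.BcP.D4C
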