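import Cfsg.Agent.OddCyclic.BcP.FinDef
import Cfsg.Agent.OddCyclic.AOneSit

/-!
# S0342, leaf [Bc], type (b'), section 4 (`T = S`): the stabiliser of `V` in `C_G(Z)`

`V = Ω₁Z(J)` of order 16, `Z = ⟨p 0, p 1⟩ = Ω₁Z(S)`, `C = C_G(Z)`, `C₀ = N_C(V)`:
* `not_three`: `C₀` has no elements of order 3;
* `comm_V`: `[V, C₀] ≤ Z`; `ds`: `C₀ = C_G(V) S`;
* `hcomm`, `hcent`: the action of `C₀` on `H_i = N i ∩ C(J)`;
* `N_le_nc`: `N i ≤ ⟨H_i^C⟩`.
-/

set_option autoImplicit false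
set_option linter.unusedSectionVars false

namespace Cfsg.Agent.OddCyclic.BcP

open Subgroup Cfsg Cfsg.Agent.ZN Cfsg.Agent.MinSimple
open Cfsg.Agent.OddCyclic.L32
open Cfsg.Agent.OddCyclic.RedTy
open Cfsg.Agent.OddCyclic.RedFinal (NoBlk)
open Cfsg.Agent.MinSimple.LemX (nc le_nc nc_le le_normalizer_nc)
open Cfsg.Agent.OddCyclic.EmpNSRep (Rp exists_rp)

universe u

variable {G : Type u} [Group G] [Finite G]

namespace Fin4

variable {S : Sylow 2 G} {L O₁ O A : Subgroup G} {ξ x : G} {p : Fin 3 → G} {N : Fin 3 → Subgroup G}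
  (h : Fin4 S L O₁ O A ξ x p N)
include h

theorem zj_comm {a b : G} (ha : a ∈ zj (S : Subgroup G)) (hb : b ∈ zj (S : Subgroup G)) : a * b = b * a :=
  h.ww_comm (h.zj_le ha) (h.zj_le hb)

theorem zj_sq {a : G} (ha : a ∈ zj (S : Subgroup G)) : a * a = 1 := h.ww_sq (h.zj_le ha)

theorem pp_le : pp p ≤ zj (S : Subgroup G) := by
  rw [← h.zc_eq]
  exact zc_le_zj _

theorem S_zj : (S : Subgroup G) ≤ normalizer (zj (S : Subgroup G) : Set G) :=
  le_normalizer_zj _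

theorem J_zj : normalizer (jj (S : Subgroup G) : Set G) ≤ normalizer (zj (S : Subgroup G) : Set G) :=
  normalizer_jj_le_normalizer_zj _

theorem S_C : (S : Subgroup G) ≤ centralizer (pp p : Set G) := by
  rw [← h.zc_eq]
  intro s hs
  exact mem_centralizer_iff.2 fun _ hz => ((mem_zc.1 hz).2.1 s hs).symm

theorem x_C : x ∈ centralizer (pp p : Set G) :=
  mem_centralizer_iff.2 fun _ hz => ((h.x_fix (h.pp_le_ww hz)).2 hz).symm

theorem p_pp (i : Fin 3) : p i ∈ pp p := h.mem_pp.2 (Or.inr ⟨i, rfl⟩)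

theorem ξ_zj : ξ ∈ normalizer (zj (S : Subgroup G) : Set G) := h.J_zj h.ξJ

/-- `N_C(V)` has no elements of order 3 -/
theorem not_three {c : G} (hc : c ∈ centralizer (pp p : Set G))
    (hcV : c ∈ normalizer (zj (S : Subgroup G) : Set G)) : orderOf c ≠ 3 := by
  intro h3
  obtain ⟨g, hg, hξg⟩ := AOneSit.exists_conj_zpowers h.nb.cx.cyc Nat.prime_three (by norm_num) h.ξ_zj hcV h.ξ3 h3
  have h1 : g * p 0 * g⁻¹ ∈ zj (S : Subgroup G) := (mem_normalizer_iff.1 hg _).1 (h.pp_le (h.p_pp 0))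
  have h2 : zpowers (g * c * g⁻¹) ≤ centralizer {g * p 0 * g⁻¹} := by
    rw [zpowers_le, mem_centralizer_singleton_iff]
    have h4 := mem_centralizer_iff.1 hc _ (h.p_pp 0)
    calc g * c * g⁻¹ * (g * p 0 * g⁻¹) = g * (c * p 0) * g⁻¹ := by group
      _ = g * (p 0 * c) * g⁻¹ := by rw [h4]
      _ = g * p 0 * g⁻¹ * (g * c * g⁻¹) := by group
  have h4 := mem_centralizer_singleton_iff.1 (h2 hξg)
  have h5 := h.ξ_fix (h.zj_le h1) (fun j hj => (mem_zj.1 h1).2.1 j hj) h4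
  apply h.p_ne 0
  calc p 0 = g⁻¹ * (g * p 0 * g⁻¹) * g := by group
    _ = 1 := by rw [h5]; group

theorem ξ_not (i : Fin 3) : ξ * p i * ξ⁻¹ ≠ 1 ∧ ξ * p i * ξ⁻¹ ≠ p i := by
  constructor
  · intro h1
    exact h.p_ne i (conj_eq_one_iff.1 h1)
  · intro h1
    apply (h.np i).xp
    conv_rhs => rw [← h1]
    group

/-- `S` acts on `H_i` by transvections with centre `⟨p i⟩` -/
theorem hh_S {i : Fin 3} {s q : G} (hs : s ∈ (S : Subgroup G)) (hq : q ∈ hh S N i) :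
    s * q * s⁻¹ = q ∨ s * q * s⁻¹ = p i * q := by
  have hsM := h.T_le_M hs
  have hsp : s * p i * s⁻¹ = p i := by
    rw [(h.np i).pT s hs, mul_inv_cancel_right]
  obtain ⟨q₀, hq₀⟩ : ∃ q₀, q₀ = ξ * p i * ξ⁻¹ := ⟨_, rfl⟩
  have hn := h.ξ_not i
  rw [← hq₀] at hn
  have hmem : ∀ {n : G}, n ∈ hh S N i ↔ n = 1 ∨ n = p i ∨ n = q₀ ∨ n = p i * q₀ := by
    intro n; rw [hq₀]; exact h.mem_hh
  have hJ : (S : Subgroup G) ≤ normalizer (jj (S : Subgroup G) : Set G) := ZN.le_normalizer_jj _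
  have hconj : ∀ n ∈ hh S N i, s * n * s⁻¹ ∈ hh S N i := by
    rintro n ⟨h1, h2⟩
    refine ⟨h.conj_N hsM h1, mem_centralizer_iff.2 fun j hj => ?_⟩
    have h3 : s⁻¹ * j * s ∈ jj (S : Subgroup G) := by
      have h4 := (mem_normalizer_iff.1 (hJ (inv_mem hs)) j).1 hj
      rwa [inv_inv] at h4
    have h4 := mem_centralizer_iff.1 h2 _ h3
    calc j * (s * n * s⁻¹) = s * (s⁻¹ * j * s * n) * s⁻¹ := by group
      _ = s * (n * (s⁻¹ * j * s)) * s⁻¹ := by rw [h4]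
      _ = s * n * s⁻¹ * j := by group
  have key : s * q₀ * s⁻¹ = q₀ ∨ s * q₀ * s⁻¹ = p i * q₀ := by
    rcases hmem.1 (hconj q₀ (hmem.2 (Or.inr (Or.inr (Or.inl rfl))))) with h1 | h1 | h1 | h1
    · exact absurd (conj_eq_one_iff.1 h1) hn.1
    · exfalso
      apply hn.2
      calc q₀ = s⁻¹ * (s * q₀ * s⁻¹) * s := by group
        _ = s⁻¹ * (s * p i * s⁻¹) * s := by rw [h1, hsp]
        _ = p i := by group
    · exact Or.inl h1
    · exact Or.inr h1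
  rcases hmem.1 hq with rfl | rfl | rfl | rfl
  · left; group
  · exact Or.inl hsp
  · exact key
  · have e : s * (p i * q₀) * s⁻¹ = (s * p i * s⁻¹) * (s * q₀ * s⁻¹) := by group
    rw [e, hsp]
    rcases key with h1 | h1
    · left; rw [h1]
    · right; rw [h1]

theorem pp_comm {a z : G} (hz : z ∈ pp p) (ha : a ∈ centralizer (pp p : Set G)) : a * z = z * a :=
  (mem_centralizer_iff.1 ha _ hz).symm

/-- `[V, S] ≤ Z` -/
theorem S_comm {s v : G} (hs : s ∈ (S : Subgroup G)) (hv : v ∈ zj (S : Subgroup G)) :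
    s * v * s⁻¹ * v⁻¹ ∈ pp p := by
  obtain ⟨a, ha, b, hb, rfl⟩ := h.mem_zj_split (i := 0) (j := 1) (by decide) hv
  have h1 : ∀ i : Fin 3, ∀ q ∈ hh S N i, s * q * s⁻¹ * q⁻¹ ∈ pp p := by
    intro i q hq
    rcases h.hh_S hs hq with h1 | h1
    · rw [h1, mul_inv_cancel]; exact one_mem _
    · rw [h1, mul_inv_cancel_right]; exact h.p_pp i
  have h2 := h.pp_le (h1 1 b hb)
  have h3 := h.zj_comm (h.hh_le 0 ha) h2
  have e : s * (a * b) * s⁻¹ * (a * b)⁻¹ = (s * a * s⁻¹ * a⁻¹) * (a * (s * b * s⁻¹ * b⁻¹) * a⁻¹) := by group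
  rw [e, h3, mul_inv_cancel_right]
  exact mul_mem (h1 0 a ha) (h1 1 b hb)

theorem not_dvd_rel {P : Subgroup G} (hP : (S : Subgroup G) ≤ P) : ¬ 2 ∣ ((S : Subgroup G).subgroupOf P).index := by
  have hfact : Fact (Nat.Prime 2) := ⟨Nat.prime_two⟩
  intro h2
  exact S.not_dvd_index (h2.trans (relIndex_dvd_index_of_le hP))

theorem S_P : (S : Subgroup G) ≤ centralizer (pp p : Set G) ⊓ normalizer (zj (S : Subgroup G) : Set G) :=
  le_inf h.S_C h.S_zj

/-- `[V, N_C(V)] ≤ Z` -/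
theorem comm_V {c v : G} (hc : c ∈ centralizer (pp p : Set G))
    (hcV : c ∈ normalizer (zj (S : Subgroup G) : Set G)) (hv : v ∈ zj (S : Subgroup G)) :
    c * v * c⁻¹ * v⁻¹ ∈ pp p := by
  classical
  obtain ⟨P, hP⟩ : ∃ P, P = centralizer (pp p : Set G) ⊓ normalizer (zj (S : Subgroup G) : Set G) := ⟨_, rfl⟩
  have hSP : (S : Subgroup G) ≤ P := hP ▸ h.S_P
  have hPV : P ≤ normalizer (zj (S : Subgroup G) : Set G) := hP ▸ inf_le_right
  have hPC : P ≤ centralizer (pp p : Set G) := hP ▸ inf_le_left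
  obtain ⟨M, iM, fM, H, iH, fH, ρ, r, π, R⟩ := exists_rp (P := P) (W := zj (S : Subgroup G)) (F := pp p) hPV
    (hPC.trans (centralizer_le_normalizer _)) (fun a ha b hb => h.zj_comm ha hb)
  have hconj : ∀ {g w : G}, g ∈ P → w ∈ zj (S : Subgroup G) → g * w * g⁻¹ ∈ zj (S : Subgroup G) :=
    fun hg hw => (mem_normalizer_iff.1 (hPV hg) _).1 hw
  have hfix : ∀ (g : G) (hg : g ∈ P) (w : G) (hw : w ∈ zj (S : Subgroup G)),
      ρ (r ⟨g, hg⟩) (π ⟨w, hw⟩) = π ⟨w, hw⟩ ↔ g * w * g⁻¹ * w⁻¹ ∈ pp p := by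
    intro g hg w hw
    rw [R.act ⟨g, hg⟩ ⟨w, hw⟩ (hconj hg hw), ← mul_inv_eq_one, ← map_inv, ← map_mul, R.π_one]
    exact Iff.rfl
  have hr1 : ∀ (g : G) (hg : g ∈ P), r ⟨g, hg⟩ = 1 ↔ ∀ w ∈ zj (S : Subgroup G), g * w * g⁻¹ * w⁻¹ ∈ pp p := by
    intro g hg
    constructor
    · intro h1 w hw
      rw [← hfix g hg w hw, h1, map_one]; rfl
    · intro h1
      apply R.inj
      rw [map_one]
      apply MulEquiv.ext
      intro u
      obtain ⟨⟨w, hw⟩, rfl⟩ := R.π_surj u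
      exact (hfix g hg w hw).2 (h1 w hw)
  -- `|H|` is odd
  have hodd : ¬ 2 ∣ Nat.card H := by
    have h1 : ((S : Subgroup G).subgroupOf P).map r = ⊥ := by
      rw [eq_bot_iff]
      rintro _ ⟨⟨s, hs⟩, hs', rfl⟩
      rw [mem_bot, hr1]
      exact fun w hw => h.S_comm (mem_subgroupOf.1 hs') hw
    intro h2
    apply h.not_dvd_rel hSP
    have h3 := index_map_dvd ((S : Subgroup G).subgroupOf P) R.r_surj
    rw [h1, index_bot] at h3
    exact h2.trans h3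
  have h3 : ¬ 3 ∣ Nat.card H := by
    intro h3
    have h4 : 3 ∣ Nat.card P := h3.trans (card_dvd_of_surjective r R.r_surj)
    have hf : Fact (Nat.Prime 3) := ⟨Nat.prime_three⟩
    obtain ⟨⟨y, hy⟩, hyo⟩ := exists_prime_orderOf_dvd_card' 3 h4
    rw [orderOf_mk] at hyo
    exact h.not_three (hPC hy) (hPV hy) hyo
  -- the three nontrivial elements of `M`
  obtain ⟨a, ha⟩ : ∃ a, a = π ⟨ξ * p 0 * ξ⁻¹, h.hh_le 0 (h.mem_hh.2 (Or.inr (Or.inr (Or.inl rfl))))⟩ := ⟨_, rfl⟩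
  obtain ⟨b, hb⟩ : ∃ b, b = π ⟨ξ * p 1 * ξ⁻¹, h.hh_le 1 (h.mem_hh.2 (Or.inr (Or.inr (Or.inl rfl))))⟩ := ⟨_, rfl⟩
  have hq : ∀ (i : Fin 3) (q : G) (hq : q ∈ hh S N i), π ⟨q, h.hh_le i hq⟩ = 1 ∨
      π ⟨q, h.hh_le i hq⟩ = π ⟨ξ * p i * ξ⁻¹, h.hh_le i (h.mem_hh.2 (Or.inr (Or.inr (Or.inl rfl))))⟩ := by
    intro i q hq
    rcases h.mem_hh.1 hq with h1 | h1 | h1 | h1
    · left; rw [R.π_one]; show q ∈ pp p; rw [h1]; exact one_mem _
    · left; rw [R.π_one]; show q ∈ pp p; rw [h1]; exact h.p_pp i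
    · right; congr 1; exact Subtype.ext h1
    · right
      rw [← mul_inv_eq_one, ← map_inv, ← map_mul, R.π_one]
      show q * (ξ * p i * ξ⁻¹)⁻¹ ∈ pp p
      rw [h1, mul_inv_cancel_right]
      exact h.p_pp i
  have hM : ∀ m : M, m = 1 ∨ m = a ∨ m = b ∨ m = a * b := by
    intro m
    obtain ⟨⟨w, hw⟩, rfl⟩ := R.π_surj m
    obtain ⟨a', ha', b', hb', rfl⟩ := h.mem_zj_split (i := 0) (j := 1) (by decide) hw
    have e : π ⟨a' * b', hw⟩ = π ⟨a', h.hh_le 0 ha'⟩ * π ⟨b', h.hh_le 1 hb'⟩ := by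
      rw [← map_mul]; rfl
    rw [e, ha, hb]
    rcases hq 0 a' ha' with h1 | h1 <;> rcases hq 1 b' hb' with h2 | h2 <;> rw [h1, h2] <;> simp
  let _ : MulAction H M := MulAction.compHom M ρ
  have htriv : ∀ (g : H) (m : M), ρ g m = m := by
    intro g m
    rcases eq_or_ne m 1 with rfl | hm
    · exact map_one _
    have h4 : (MulAction.orbit H m).ncard ∣ Nat.card H := by
      rw [← MulAction.index_stabilizer]
      exact index_dvd_card _
    have h5 : MulAction.orbit H m ⊆ {a, b, a * b} := by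
      rintro _ ⟨k, rfl⟩
      have h6 : ρ k m ≠ 1 := fun h7 => hm ((ρ k).injective (h7.trans (map_one (ρ k)).symm))
      rcases hM (ρ k m) with h7 | h7 | h7 | h7
      · exact absurd h7 h6
      · exact Or.inl h7
      · exact Or.inr (Or.inl h7)
      · exact Or.inr (Or.inr h7)
    have h6 : (MulAction.orbit H m).ncard ≤ 3 := by
      refine (Set.ncard_le_ncard h5 (Set.toFinite _)).trans ?_
      refine (Set.ncard_insert_le _ _).trans ?_
      have := Set.ncard_insert_le b ({a * b} : Set M)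
      rw [Set.ncard_singleton] at this
      omega
    have h7 : (MulAction.orbit H m).ncard ≠ 0 := by
      intro h0
      rw [h0] at h4
      exact (Nat.card_pos (α := H)).ne' (Nat.eq_zero_of_zero_dvd h4)
    have h8 : (MulAction.orbit H m).ncard = 1 := by
      rcases (by omega : (MulAction.orbit H m).ncard = 1 ∨ (MulAction.orbit H m).ncard = 2 ∨
        (MulAction.orbit H m).ncard = 3) with h8 | h8 | h8
      · exact h8
      · exact absurd (h8 ▸ h4) hodd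
      · exact absurd (h8 ▸ h4) h3
    obtain ⟨m', hm'⟩ := Set.ncard_eq_one.1 h8
    have h9 : m ∈ ({m'} : Set M) := hm' ▸ MulAction.mem_orbit_self m
    have h10 : ρ g m ∈ ({m'} : Set M) := hm' ▸ MulAction.mem_orbit m g
    rw [Set.mem_singleton_iff] at h9 h10
    rw [h10, h9]
  exact (hfix c (by rw [hP]; exact ⟨hc, hcV⟩) v hv).1 (htriv _ _)

/-- `N_C(V) = C_G(V) S` -/
theorem ds {c : G} (hc : c ∈ centralizer (pp p : Set G))
    (hcV : c ∈ normalizer (zj (S : Subgroup G) : Set G)) :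
    ∃ d ∈ centralizer (zj (S : Subgroup G) : Set G), ∃ s ∈ (S : Subgroup G), c = d * s := by
  obtain ⟨P, hP⟩ : ∃ P, P = centralizer (pp p : Set G) ⊓ normalizer (zj (S : Subgroup G) : Set G) := ⟨_, rfl⟩
  have hSP : (S : Subgroup G) ≤ P := hP ▸ h.S_P
  have hPV : P ≤ normalizer (zj (S : Subgroup G) : Set G) := hP ▸ inf_le_right
  have hPC : P ≤ centralizer (pp p : Set G) := hP ▸ inf_le_left
  obtain ⟨M, iM, fM, H, iH, fH, ρ, r, π, R⟩ := exists_rp (P := P) (W := zj (S : Subgroup G)) (F := ⊥) hPV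
    (fun g _ => by rw [normalizer_eq_top_iff.2 (inferInstance : (⊥ : Subgroup G).Normal)]; exact mem_top g) (fun a ha b hb => h.zj_comm ha hb)
  have hconj : ∀ {g w : G}, g ∈ P → w ∈ zj (S : Subgroup G) → g * w * g⁻¹ ∈ zj (S : Subgroup G) :=
    fun hg hw => (mem_normalizer_iff.1 (hPV hg) _).1 hw
  have hfix : ∀ (g : G) (hg : g ∈ P) (w : G) (hw : w ∈ zj (S : Subgroup G)),
      ρ (r ⟨g, hg⟩) (π ⟨w, hw⟩) = π ⟨w, hw⟩ ↔ g * w * g⁻¹ * w⁻¹ = 1 := by
    intro g hg w hw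
    rw [R.act ⟨g, hg⟩ ⟨w, hw⟩ (hconj hg hw), ← mul_inv_eq_one, ← map_inv, ← map_mul, R.π_one]
    exact mem_bot
  have hr1 : ∀ (g : G) (hg : g ∈ P), r ⟨g, hg⟩ = 1 ↔ ∀ w ∈ zj (S : Subgroup G), g * w * g⁻¹ * w⁻¹ = 1 := by
    intro g hg
    constructor
    · intro h1 w hw
      rw [← hfix g hg w hw, h1, map_one]; rfl
    · intro h1
      apply R.inj
      rw [map_one]
      apply MulEquiv.ext
      intro u
      obtain ⟨⟨w, hw⟩, rfl⟩ := R.π_surj u
      exact (hfix g hg w hw).2 (h1 w hw)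
  have hfact : Fact (Nat.Prime 2) := ⟨Nat.prime_two⟩
  have h2 : IsPGroup 2 H := by
    intro y
    obtain ⟨⟨g, hg⟩, rfl⟩ := R.r_surj y
    refine ⟨1, ?_⟩
    rw [pow_one, pow_two, ← map_mul]
    show r ⟨g * g, _⟩ = 1
    rw [hr1]
    intro w hw
    have h1 := h.comm_V (hPC hg) (hPV hg) hw
    obtain ⟨z, hz⟩ : ∃ z, z = g * w * g⁻¹ * w⁻¹ := ⟨_, rfl⟩
    rw [← hz] at h1
    have h3 : g * w * g⁻¹ = z * w := by rw [hz]; group
    have h4 := h.pp_comm h1 (hPC hg)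
    have h5 : z * z = 1 := h.zj_sq (h.pp_le h1)
    calc g * g * w * (g * g)⁻¹ * w⁻¹ = g * (g * w * g⁻¹) * g⁻¹ * w⁻¹ := by group
      _ = (g * z) * w * g⁻¹ * w⁻¹ := by rw [h3]; group
      _ = z * (g * w * g⁻¹) * w⁻¹ := by rw [h4]; group
      _ = z * z := by rw [h3]; group
      _ = 1 := h5
  have h3 : ((S : Subgroup G).subgroupOf P).map r = ⊤ := by
    obtain ⟨n, hn⟩ := h2.index (((S : Subgroup G).subgroupOf P).map r)
    rw [← index_eq_one, hn]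
    rcases Nat.eq_zero_or_pos n with rfl | hn0
    · rfl
    · exfalso
      apply h.not_dvd_rel hSP
      refine (Dvd.dvd.trans ?_ (index_map_dvd ((S : Subgroup G).subgroupOf P) R.r_surj))
      rw [hn]
      exact dvd_pow_self 2 hn0.ne'
  have hcP : c ∈ P := by rw [hP]; exact ⟨hc, hcV⟩
  have h4 : r ⟨c, hcP⟩ ∈ ((S : Subgroup G).subgroupOf P).map r := h3 ▸ mem_top _
  obtain ⟨⟨s, hsP⟩, hs, hrs⟩ := h4
  have hs' : s ∈ (S : Subgroup G) := mem_subgroupOf.1 hs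
  refine ⟨c * s⁻¹, ?_, s, hs', by group⟩
  have h5 : r ⟨c * s⁻¹, mul_mem hcP (inv_mem hsP)⟩ = 1 := by
    have e : (⟨c * s⁻¹, mul_mem hcP (inv_mem hsP)⟩ : P) = ⟨c, hcP⟩ * ⟨s, hsP⟩⁻¹ := rfl
    rw [e, map_mul, map_inv, hrs, mul_inv_cancel]
  rw [hr1] at h5
  refine mem_centralizer_iff.2 fun v hv => ?_
  have h6 := h5 v hv
  calc v * (c * s⁻¹) = (c * s⁻¹ * v * (c * s⁻¹)⁻¹ * v⁻¹)⁻¹ * (c * s⁻¹) * v := by group
    _ = c * s⁻¹ * v := by rw [h6]; group

/-- `N_C(V)` acts on `H_i` by transvections with centre `⟨p i⟩` -/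
theorem hcomm {i : Fin 3} {c q : G} (hc : c ∈ centralizer (pp p : Set G))
    (hcV : c ∈ normalizer (zj (S : Subgroup G) : Set G)) (hq : q ∈ hh S N i) :
    c * q * c⁻¹ = q ∨ c * q * c⁻¹ = p i * q := by
  obtain ⟨d, hd, s, hs, rfl⟩ := h.ds hc hcV
  have h1 : ∀ w ∈ zj (S : Subgroup G), d * w * d⁻¹ = w := fun w hw => by
    rw [← mem_centralizer_iff.1 hd w hw, mul_inv_cancel_right]
  have e : d * s * q * (d * s)⁻¹ = d * (s * q * s⁻¹) * d⁻¹ := by group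
  rw [e]
  rcases h.hh_S hs hq with h2 | h2
  · left; rw [h2, h1 q (h.hh_le i hq)]
  · right; rw [h2, h1 _ (mul_mem (h.pp_le (h.p_pp i)) (h.hh_le i hq))]

/-- an element of `N_C(V)` centralising `H_i` centralises `V` -/
theorem hcent {i : Fin 3} {c : G} (hc : c ∈ centralizer (pp p : Set G))
    (hcV : c ∈ normalizer (zj (S : Subgroup G) : Set G)) (hq : ∀ q ∈ hh S N i, c * q = q * c) :
    ∀ v ∈ zj (S : Subgroup G), c * v = v * c := by
  obtain ⟨d, hd, s, hs, rfl⟩ := h.ds hc hcV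
  have h1 : ∀ w ∈ zj (S : Subgroup G), d * w = w * d := fun w hw => (mem_centralizer_iff.1 hd w hw).symm
  have h2 : ∀ q ∈ hh S N i, s * q = q * s := by
    intro q hq'
    have h3 := hq q hq'
    have h4 := h1 q (h.hh_le i hq')
    calc s * q = d⁻¹ * (d * s * q) := by group
      _ = d⁻¹ * (q * d) * s := by rw [h3]; group
      _ = q * s := by rw [← h4]; group
  have hpi : ∀ j, p j ∈ hh S N j := fun j => h.p_hh j
  have hqi : ∀ j, ξ * p j * ξ⁻¹ ∈ hh S N j := fun j => h.mem_hh.2 (Or.inr (Or.inr (Or.inl rfl)))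
  have hsO : s ∈ O₁ := ((h.np i).memO₁ s (le_sup_right (a := L) hs)).2 ⟨h2 _ (hpi i), h2 _ (hqi i)⟩
  have h3 : ∀ j, ∀ q ∈ hh S N j, s * q = q * s := by
    intro j q hq'
    obtain ⟨h4, h5⟩ := ((h.np j).memO₁ s (le_sup_right (a := L) hs)).1 hsO
    rcases h.mem_hh.1 hq' with rfl | rfl | rfl | rfl
    · rw [mul_one, one_mul]
    · exact h4
    · exact h5
    · calc s * (p j * (ξ * p j * ξ⁻¹)) = (s * p j) * (ξ * p j * ξ⁻¹) := by group
        _ = p j * (s * (ξ * p j * ξ⁻¹)) := by rw [h4, mul_assoc]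
        _ = p j * (ξ * p j * ξ⁻¹) * s := by rw [h5, ← mul_assoc]
  intro v hv
  obtain ⟨a, ha, b, hb, rfl⟩ := h.mem_zj_split (i := 0) (j := 1) (by decide) hv
  have h4 : s * (a * b) = a * b * s := by rw [← mul_assoc, h3 0 a ha, mul_assoc, h3 1 b hb, mul_assoc]
  rw [mul_assoc, h4, ← mul_assoc, h1 _ hv, mul_assoc]

/-- `x` does not normalise `H_i` -/
theorem x_hh (i : Fin 3) : x * (ξ * p i * ξ⁻¹) * x⁻¹ ∉ hh S N i := by
  obtain ⟨q, hq⟩ : ∃ q, q = ξ * p i * ξ⁻¹ := ⟨_, rfl⟩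
  have hn := h.ξ_not i
  have hqN : q ∈ N i := hq ▸ h.hh_le_N i (h.mem_hh.2 (Or.inr (Or.inr (Or.inl rfl))))
  have hxp : x * p i * x⁻¹ = p i := by rw [h.xZ _ (h.p_mem i), mul_inv_cancel_right]
  have hx3 : x * x * x = 1 := by
    have h1 := pow_orderOf_eq_one x
    rw [h.x3, pow_succ, pow_two] at h1
    exact h1
  rw [← hq] at hn ⊢
  have hfix : x * q * x⁻¹ ≠ q := by
    intro h1
    have h2 : x * q = q * x := by
      conv_rhs => rw [← h1]
      group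
    rcases ((h.np i).xfix q hqN).1 h2 with h3 | h3
    · exact hn.1 h3
    · exact hn.2 h3
  intro h1
  have h2 := h.mem_hh.1 h1
  rw [← hq] at h2
  rcases h2 with h2 | h2 | h2 | h2
  · exact hn.1 (conj_eq_one_iff.1 h2)
  · apply hn.2
    calc q = x⁻¹ * (x * q * x⁻¹) * x := by group
      _ = x⁻¹ * (x * p i * x⁻¹) * x := by rw [h2, hxp]
      _ = p i := by group
  · exact hfix h2
  · apply hfix
    have h3 : x * (x * q * x⁻¹) * x⁻¹ = q := by
      rw [h2]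
      calc x * (p i * q) * x⁻¹ = (x * p i * x⁻¹) * (x * q * x⁻¹) := by group
        _ = p i * (p i * q) := by rw [hxp, h2]
        _ = q := by rw [← mul_assoc, h.p_sq, one_mul]
    have h4 : x * q * x⁻¹ = q := by
      calc x * q * x⁻¹ = x * (x * (x * q * x⁻¹) * x⁻¹) * x⁻¹ := by rw [h3]
        _ = (x * x * x) * q * (x * x * x)⁻¹ := by group
        _ = q := by rw [hx3]; group
    exact h4

theorem card_hh (i : Fin 3) : Nat.card (hh S N i) = 4 := by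
  classical
  have hn := h.ξ_not i
  have hpp := h.p_sq i
  have hp1 := h.p_ne i
  obtain ⟨q, hq⟩ : ∃ q, q = ξ * p i * ξ⁻¹ := ⟨_, rfl⟩
  have hset : ((hh S N i : Subgroup G) : Set G) = {1, p i, q, p i * q} := by
    ext n
    rw [SetLike.mem_coe, h.mem_hh, ← hq]
    simp
  rw [← hq] at hn
  have h1 : p i * q ≠ 1 := fun h1 => hn.2 (by
    calc q = p i * p i * q := by rw [hpp, one_mul]
      _ = p i * (p i * q) := mul_assoc _ _ _
      _ = p i := by rw [h1, mul_one])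
  have h2 : p i ≠ p i * q := fun h2 => hn.1 (mul_eq_left.1 h2.symm)
  have h3 : q ≠ p i * q := fun h3 => hp1 (mul_eq_right.1 h3.symm)
  rw [← SetLike.coe_sort_coe, Nat.card_coe_set_eq, hset, Set.ncard_insert_of_notMem, Set.ncard_insert_of_notMem,
    Set.ncard_pair h3]
  · simp only [Set.mem_insert_iff, Set.mem_singleton_iff, not_or]
    exact ⟨hn.2.symm, h2⟩
  · simp only [Set.mem_insert_iff, Set.mem_singleton_iff, not_or]
    exact ⟨hp1.symm, hn.1.symm, h1.symm⟩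

/-- `N i ≤ ⟨H_i^C⟩` -/
theorem N_le_nc (i : Fin 3) : N i ≤ nc (centralizer (pp p : Set G)) (hh S N i) := by
  obtain ⟨X, hX⟩ : ∃ X, X = N i ⊓ nc (centralizer (pp p : Set G)) (hh S N i) := ⟨_, rfl⟩
  have h1 : hh S N i ≤ X := by
    rw [hX]
    exact le_inf (h.hh_le_N i) (le_nc _ _)
  have h2 : x * (ξ * p i * ξ⁻¹) * x⁻¹ ∈ X := by
    have hq : ξ * p i * ξ⁻¹ ∈ hh S N i := h.mem_hh.2 (Or.inr (Or.inr (Or.inl rfl)))
    rw [hX]
    exact ⟨h.conj_N (h.L_le_M h.xL) (h.hh_le_N i hq), Off.conj_mem_nc h.x_C hq⟩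
  have h3 : Nat.card X ∣ 8 := by
    rw [← (h.np i).card]
    exact card_dvd_of_le (by rw [hX]; exact inf_le_left)
  have h4 : 4 ∣ Nat.card X := by
    rw [← h.card_hh i]
    exact card_dvd_of_le h1
  have h5 : Nat.card X ≠ 4 := by
    intro h5
    have h6 : hh S N i = X := eq_of_le_of_card_ge h1 (by rw [h5, h.card_hh])
    exact h.x_hh i (h6 ▸ h2)
  have h6 : Nat.card X = 8 := by
    obtain ⟨k, hk⟩ := h4
    rw [hk] at h3 h5 ⊢
    have h7 : k ∣ 2 := by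
      have : 4 * k ∣ 4 * 2 := h3
      exact Nat.dvd_of_mul_dvd_mul_left (by norm_num) this
    rcases (Nat.dvd_prime Nat.prime_two).1 h7 with rfl | rfl
    · exact absurd rfl h5
    · rfl
  have h7 : X = N i := eq_of_le_of_card_ge (by rw [hX]; exact inf_le_left) (by rw [h6, (h.np i).card])
  rw [← h7, hX]
  exact inf_le_right

end Fin4

end Cfsg.Agent.OddCyclic.BcP
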