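import Cfsg.Agent.OddCyclic.BcP.D4A
import Cfsg.Agent.OddCyclic.BcP.D4B
import Cfsg.Agent.OddCyclic.BcP.D4C
import Cfsg.Agent.OddCyclic.BcP.D4T
import Cfsg.Agent.OddCyclic.Bc.XiNorm

/-!
# S0342, leaf [Bc], type (b'), section 4 (`T = S`): the end

`Fin4.false`: `C = C_G(Z)` acts on `M_i = ⟨H_i^C⟩/⟨p i⟩` with image `C/Kc`, `A` is an offender, so (`D4C`) the image of `⟨x⟩`
is normal and `[M_i, x] = N i/⟨p i⟩` is `C`-invariant: `C ≤ N_G(N i)` for all `i`, `C ≤ N_G(W) = M`, hence `N_G(J) ≤ M`: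
a contradiction.
-/

set_option autoImplicit false
set_option linter.unusedSectionVars false

namespace Cfsg.Agent.OddCyclic.BcP

open Subgroup Cfsg Cfsg.Agent.ZN Cfsg.Agent.MinSimple
open Cfsg.Agent.OddCyclic.L32
open Cfsg.Agent.OddCyclic.RedTy
open Cfsg.Agent.OddCyclic.RedFinal (NoBlk)
open Cfsg.Agent.MinSimple.LemX (nc le_nc nc_le le_normalizer_nc)
open Cfsg.Agent.OddCyclic.T1Module Cfsg.Agent.OddCyclic.FFBasic

universe u

variable {G : Type u} [Group G] [Finite G]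

namespace Fin4

variable {S : Sylow 2 G} {L O₁ O A : Subgroup G} {ξ x : G} {p : Fin 3 → G} {N : Fin 3 → Subgroup G}
  (h : Fin4 S L O₁ O A ξ x p N)
include h

theorem q_hh (i : Fin 3) : ξ * p i * ξ⁻¹ ∈ hh S N i := h.mem_hh.2 (Or.inr (Or.inr (Or.inl rfl)))

theorem q_not (i : Fin 3) : ξ * p i * ξ⁻¹ ∉ pp p := fun hz => by
  rcases h.N_inf_pp (h.hh_le_N i (h.q_hh i)) hz with h1 | h1
  · exact (h.ξ_not i).1 h1
  · exact (h.ξ_not i).2 h1

theorem mem_hh_out {i : Fin 3} {q : G} (hq : q ∈ hh S N i) (hz : q ∉ pp p) :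
    q = ξ * p i * ξ⁻¹ ∨ q = p i * (ξ * p i * ξ⁻¹) := by
  rcases h.mem_hh.1 hq with rfl | rfl | h1 | h1
  · exact absurd (one_mem _) hz
  · exact absurd (h.p_pp i) hz
  · exact Or.inl h1
  · exact Or.inr h1

theorem hh_of (i : Fin 3) :
    D4B.Hh (centralizer (pp p : Set G)) (pp p) (zj (S : Subgroup G)) (hh S N i) (p i) where
  le := h.hh_le i
  pH := h.p_hh i
  pZ := h.p_pp i
  p1 := h.p_ne i
  out := ⟨_, h.q_hh i, h.q_not i⟩
  inZ := fun q hq hz => h.N_inf_pp (h.hh_le_N i hq) hz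
  outZ := by
    intro q hq q' hq' hz hz'
    have hpp := h.p_sq i
    rcases h.mem_hh_out hq hz with h1 | h1 <;> rcases h.mem_hh_out hq' hz' with h2 | h2 <;> rw [h1, h2]
    · exact Or.inl rfl
    · exact Or.inr rfl
    · right; rw [← mul_assoc, hpp, one_mul]
    · exact Or.inl rfl
  comm := fun _ hc hcV _ hq => h.hcomm hc hcV hq
  cent := fun _ hc hcV hq => h.hcent hc hcV hq

theorem in_of {i j : Fin 3} (hij : i ≠ j) :
    D4B.In S (centralizer (pp p : Set G)) (pp p) (zj (S : Subgroup G)) (hh S N i) (hh S N j) (p i) (p j) where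
  SC := h.S_C
  SV := h.S_zj
  cZ := le_rfl
  ZV := h.pp_le
  comm := (D4A.hyp_of h).comm
  fus := (D4A.hyp_of h).fus
  M_le := (D4A.hyp_of h).M_le
  ab := (D4A.hyp_of h).ab
  sq := (D4A.hyp_of h).sq'
  three := (D4A.hyp_of h).three
  h₁ := h.hh_of i
  h₂ := h.hh_of j
  ne := h.p_ne_p hij

theorem x_cube : x * x * x = 1 := by
  have h1 := pow_orderOf_eq_one x
  rw [h.x3, pow_succ, pow_two] at h1
  exact h1

/-- `x` has no fixed points on `N i/⟨p i⟩` -/
theorem x_fix_mod {i : Fin 3} {n : G} (hn : n ∈ N i) (hx : x * n * x⁻¹ = n ∨ x * n * x⁻¹ = p i * n) :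
    n = 1 ∨ n = p i := by
  apply ((h.np i).xfix n hn).1
  have hxp : x * p i * x⁻¹ = p i := by rw [h.xZ _ (h.p_mem i), mul_inv_cancel_right]
  have h1 : x * n * x⁻¹ = n := by
    rcases hx with h1 | h1
    · exact h1
    · have h3 : x * (x * n * x⁻¹) * x⁻¹ = n := by
        rw [h1]
        calc x * (p i * n) * x⁻¹ = (x * p i * x⁻¹) * (x * n * x⁻¹) := by group
          _ = p i * (p i * n) := by rw [hxp, h1]
          _ = n := by rw [← mul_assoc, h.p_sq, one_mul]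
      calc x * n * x⁻¹ = x * (x * (x * n * x⁻¹) * x⁻¹) * x⁻¹ := by rw [h3]
        _ = (x * x * x) * n * (x * x * x)⁻¹ := by group
        _ = n := by rw [h.x_cube]; group
  calc x * n = (x * n * x⁻¹) * x := by group
    _ = n * x := by rw [h1]

/-- `C_G(Z)` normalises `N i` -/
theorem norm_N {i j : Fin 3} (hij : i ≠ j) : centralizer (pp p : Set G) ≤ normalizer (N i : Set G) := by
  have hfact : Fact (Nat.Prime 2) := ⟨Nat.prime_two⟩
  have hfact3 : Fact (Nat.Prime 3) := ⟨Nat.prime_three⟩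
  obtain ⟨C, hC⟩ : ∃ C, C = centralizer (pp p : Set G) := ⟨_, rfl⟩
  have hI := h.in_of hij
  have hCt : C ≠ ⊤ := hC ▸ RedU.ne_top h.nb.cx (D4A.hyp_of h).isTwoLocal
  have hxC : x ∈ C := hC ▸ h.x_C
  have hNn : N i ≤ nc C (hh S N i) := hC ▸ h.N_le_nc i
  rw [← hC] at hI ⊢
  obtain ⟨H, M, iH, iM, fH, fM, ρ, r, μ, lam, R⟩ := hI.exists_rep
  have hSC := hI.SC
  have hOC : O ≤ C := h.O_le.trans hSC
  have hAC : A ≤ C := h.A_mem.2.1.trans hSC
  have hact : ∀ (c : G) (hc : c ∈ C) (m : G) (hm : m ∈ nc C (hh S N i)),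
      ρ (r ⟨c, hc⟩) (μ ⟨m, hm⟩) = μ ⟨c * m * c⁻¹, hI.conj_H hc hm⟩ := fun c hc m hm => R.rp.act ⟨c, hc⟩ ⟨m, hm⟩ _
  have hμ : ∀ (m : G) (hm : m ∈ nc C (hh S N i)) (n : G) (hn : n ∈ nc C (hh S N i)),
      μ ⟨m, hm⟩ = μ ⟨n, hn⟩ ↔ m * n⁻¹ = 1 ∨ m * n⁻¹ = p i := by
    intro m hm n hn
    rw [← mul_inv_eq_one, ← map_inv, ← map_mul, R.rp.π_one, ← hI.mem_p]
    exact Iff.rfl
  obtain ⟨y, hy⟩ : ∃ y, y = r ⟨x, hxC⟩ := ⟨_, rfl⟩
  have hy3 : orderOf y = 3 := by
    apply orderOf_eq_prime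
    · rw [hy, ← map_pow]
      have e : (⟨x, hxC⟩ : C) ^ 3 = 1 := Subtype.ext (by
        show x ^ 3 = 1
        rw [pow_succ, pow_two]; exact h.x_cube)
      rw [e, map_one]
    · intro h1
      rw [hy, R.ker] at h1
      exact hI.three x hxC (D4B.kc_norm h1) h.x3
  have himg : ∀ {D : Subgroup G} (hD : D ≤ C) {d : G} (hd : d ∈ D), r ⟨d, hD hd⟩ ∈ (D.subgroupOf C).map r :=
    fun hD d hd => ⟨⟨d, hD hd⟩, mem_subgroupOf.2 hd, rfl⟩
  have hpre : ∀ {D : Subgroup G} (hD : D ≤ C) {g : H}, g ∈ (D.subgroupOf C).map r →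
      ∃ d, ∃ hd : d ∈ D, g = r ⟨d, hD hd⟩ := by
    rintro D hD _ ⟨⟨d, hdC⟩, hd, rfl⟩
    exact ⟨d, mem_subgroupOf.1 hd, rfl⟩
  have hyO : y ∈ normalizer ((((O.subgroupOf C).map r : Subgroup H)) : Set H) := by
    apply Off.mem_normalizer_of'
    intro g hg
    obtain ⟨d, hd, rfl⟩ := hpre hOC hg
    have h1 : x * d * x⁻¹ ∈ O := (mem_normalizer_iff.1 h.O_x d).1 hd
    have h2 := himg hOC h1
    have e : y * r ⟨d, hOC hd⟩ * y⁻¹ = r ⟨x * d * x⁻¹, hOC h1⟩ := by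
      rw [hy, ← map_inv, ← map_mul, ← map_mul]; rfl
    rw [e]
    exact h2
  have hdat : D4C.Dat ρ (((S : Subgroup G).subgroupOf C).map r) ((O.subgroupOf C).map r) ((A.subgroupOf C).map r) y lam :=
    { hc := T1Structure.oddCyc_of_surjective
        (T1Structure.oddCyc_of_injective h.nb.cx.cyc C.subtype C.subtype_injective) r R.rp.r_surj
      ffc := FFSec.ffc h.nb.cx.cyc h.nb.cx.sec hCt r R.rp.r_surj
      o2 := R.core
      sq := R.sq
      inj := R.rp.inj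
      S2 := R.two
      Si := R.odd
      fix := R.fixS
      f3 := R.f3
      OS := Subgroup.map_mono (comap_mono h.O_le)
      x3 := hy3
      xO := hyO
      inv := by
        intro t ht htO
        obtain ⟨s, hs, rfl⟩ := hpre hSC ht
        have h1 : s ∉ O := fun h1 => htO (himg hOC h1)
        have h2 := h.inv s hs h1
        have h3 := himg hOC h2
        have e : r ⟨s, hSC hs⟩ * y * (r ⟨s, hSC hs⟩)⁻¹ * y = r ⟨s * x * s⁻¹ * x, hOC h2⟩ := by
          rw [hy, ← map_inv, ← map_mul, ← map_mul, ← map_mul]; rfl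
        rw [e]
        exact h3
      AS := Subgroup.map_mono (comap_mono h.A_mem.2.1)
      Asq := by
        intro a ha
        obtain ⟨b, hb, rfl⟩ := hpre hAC ha
        have h1 : b * b = 1 := by rw [← pow_two]; exact h.A_mem.1.2 b hb
        have e : (⟨b, hAC hb⟩ : C) * ⟨b, hAC hb⟩ = 1 := Subtype.ext h1
        rw [← map_mul, e, map_one]
      AO := by
        intro hAO
        obtain ⟨X, hX⟩ : ∃ X, X = ((((O.subgroupOf C).map r).comap r).map C.subtype : Subgroup G) := ⟨_, rfl⟩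
        have hXm : ∀ (c : G) (hc : c ∈ C), r ⟨c, hc⟩ ∈ (O.subgroupOf C).map r → c ∈ X := by
          intro c hc h1
          rw [hX]
          exact ⟨⟨c, hc⟩, h1, rfl⟩
        have hXo : ∀ (c : G) (hc : c ∈ C), c ∈ X → r ⟨c, hc⟩ ∈ (O.subgroupOf C).map r := by
          intro c hc h1
          rw [hX] at h1
          obtain ⟨⟨c', hc'⟩, h2, h3⟩ := h1
          have h3' : c' = c := h3
          subst h3'
          exact h2
        have h1 : x ∈ X := by
          refine (sup_le ?_ ?_ : A ⊔ A.map (MulAut.conj x).toMonoidHom ≤ X) h.gen_x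
          · intro a ha
            exact hXm a (hAC ha) (hAO (himg hAC ha))
          · rintro _ ⟨a, ha, rfl⟩
            have h2 := hAO (himg hAC ha)
            have h3 := (mem_normalizer_iff.1 hyO _).1 h2
            have hm : x * a * x⁻¹ ∈ C := mul_mem (mul_mem hxC (hAC ha)) (inv_mem hxC)
            have e : y * r ⟨a, hAC ha⟩ * y⁻¹ = r ⟨x * a * x⁻¹, hm⟩ := by
              rw [hy, ← map_inv, ← map_mul, ← map_mul]; rfl
            rw [e] at h3
            exact hXm _ hm h3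
        have h2 := hXo x hxC h1
        rw [← hy] at h2
        have h3 : IsPGroup 2 (((O.subgroupOf C).map r : Subgroup H)) :=
          R.two.to_le (Subgroup.map_mono (comap_mono h.O_le))
        obtain ⟨n, hn⟩ := h3 ⟨y, h2⟩
        have h4 : y ^ 2 ^ n = 1 := congrArg Subtype.val hn
        have h5 := orderOf_dvd_of_pow_eq_one h4
        rw [hy3] at h5
        have h6 := Nat.prime_three.dvd_of_dvd_pow h5
        norm_num at h6
      idx := R.off A h.A_mem }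
  obtain ⟨hn, hidx⟩ := hdat.main
  -- `N i/⟨p i⟩ = [M, x]`
  obtain ⟨f, hf⟩ : ∃ f : N i →* M, f = μ.comp (inclusion hNn) := ⟨_, rfl⟩
  have hf' : ∀ (n : G) (hn : n ∈ N i), f ⟨n, hn⟩ = μ ⟨n, hNn hn⟩ := by
    intro n hn; rw [hf]; rfl
  have hfc : Nat.card f.range = 4 := by
    have h1 := f.ker.card_mul_index
    have h2 : f.ker = (zpowers (p i)).subgroupOf (N i) := by
      ext ⟨n, hn⟩
      rw [MonoidHom.mem_ker, hf', mem_subgroupOf, hI.mem_p, R.rp.π_one, hI.mem_p]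
    have h3 : Nat.card f.ker = 2 := by
      rw [h2, Nat.card_congr (subgroupOfEquivOfLe (zpowers_le.2 (h.p_N i))).toEquiv, Nat.card_zpowers]
      exact orderOf_eq_prime (by rw [pow_two]; exact h.p_sq i) (h.p_ne i)
    rw [index_ker, h3, (h.np i).card] at h1
    omega
  have hcm : Nat.card (cm ρ y).range = 4 := by rw [card_range_cm, hidx]
  obtain ⟨g, hg⟩ : ∃ g : f.range →* M, g = (cm ρ y).comp f.range.subtype := ⟨_, rfl⟩
  have hg' : ∀ (n : G) (hn : n ∈ N i), g ⟨f ⟨n, hn⟩, ⟨n, hn⟩, rfl⟩ = ρ y (μ ⟨n, hNn hn⟩) * (μ ⟨n, hNn hn⟩)⁻¹ := by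
    intro n hn
    rw [hg, ← hf' n hn]
    rfl
  have hxN : ∀ n ∈ N i, x * n * x⁻¹ ∈ N i := fun n hn => h.conj_N (h.L_le_M h.xL) hn
  have hginj : Function.Injective g := by
    rw [injective_iff_map_eq_one]
    rintro ⟨_, ⟨⟨n, hn⟩, rfl⟩⟩ h1
    rw [hg', mul_inv_eq_one, hy, hact, hμ] at h1
    have h2 : x * n * x⁻¹ = n ∨ x * n * x⁻¹ = p i * n := by
      rcases h1 with h1 | h1
      · exact Or.inl (mul_inv_eq_one.1 h1)
      · right; rw [← h1]; group
    apply Subtype.ext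
    show f ⟨n, hn⟩ = 1
    rw [hf', R.rp.π_one, hI.mem_p]
    exact h.x_fix_mod hn h2
  have hgc : Nat.card g.range = 4 := by
    rw [← hfc]
    exact Nat.card_congr (g.ofInjective hginj).symm.toEquiv
  have h1 : g.range ≤ f.range := by
    rintro _ ⟨⟨_, ⟨⟨n, hn⟩, rfl⟩⟩, rfl⟩
    rw [hg', hy, hact, ← map_inv, ← map_mul]
    refine ⟨⟨x * n * x⁻¹ * n⁻¹, mul_mem (hxN n hn) (inv_mem hn)⟩, ?_⟩
    rw [hf']
    rfl
  have h2 : g.range ≤ (cm ρ y).range := by
    rintro _ ⟨u, rfl⟩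
    rw [hg]
    exact ⟨u, rfl⟩
  have h3 : g.range = f.range := eq_of_le_of_card_ge h1 (by rw [hgc, hfc])
  have h4 : g.range = (cm ρ y).range := eq_of_le_of_card_ge h2 (by rw [hgc, hcm])
  have h5 : f.range = (cm ρ y).range := by rw [← h3, h4]
  -- the end
  refine Block.le_normalizer_of_forall fun c hc n hn => ?_
  have h6 : μ ⟨n, hNn hn⟩ ∈ (cm ρ y).range := by
    rw [← h5, ← hf' n hn]
    exact ⟨_, rfl⟩
  have h7 := Bc.XiNorm.inv_V₁ hy3 ‹(zpowers y).Normal› (r ⟨c, hc⟩) h6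
  rw [← h5, hact] at h7
  obtain ⟨⟨n', hn'⟩, h8⟩ := h7
  rw [hf', eq_comm, hμ (c * n * c⁻¹) _ n' (hNn hn')] at h8
  have e : c * n * c⁻¹ = (c * n * c⁻¹ * n'⁻¹) * n' := by group
  rw [e]
  rcases h8 with h8 | h8 <;> rw [h8]
  · exact mul_mem (one_mem _) hn'
  · exact mul_mem (h.p_N i) hn'

/-- `C_G(Z) ≤ M` -/
theorem C_le : centralizer (pp p : Set G) ≤ normalizer (L : Set G) := by
  rw [← h.norm_ww_eq]
  refine Block.le_normalizer_of_forall fun g hg w hw => ?_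
  obtain ⟨a, ha, b, hb, rfl⟩ := h.mem_ww (i := 0) (j := 1) (by decide) hw
  have h0 := (mem_normalizer_iff.1 (h.norm_N (i := 0) (j := 1) (by decide) hg) a).1 ha
  have h1 := (mem_normalizer_iff.1 (h.norm_N (i := 1) (j := 0) (by decide) hg) b).1 hb
  have e : g * (a * b) * g⁻¹ = (g * a * g⁻¹) * (g * b * g⁻¹) := by group
  rw [e]
  exact mul_mem (h.N_le_ww 0 h0) (h.N_le_ww 1 h1)

/-- **the end of type (b')** -/
theorem false : False := by
  apply h.c2
  rw [h.zc_eq]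
  refine ⟨fun g hg => ?_, h.C_le⟩
  obtain ⟨k, hk, hkz⟩ := h.six g hg
  have hkM : k ∈ normalizer (L : Set G) := (zpowers_le.2 (h.L_le_M h.ξL)) hk
  have h1 : k * g ∈ centralizer (pp p : Set G) := mem_centralizer_iff.2 fun z hz => (hkz z hz).symm
  have e : g = k⁻¹ * (k * g) := by group
  rw [e]
  exact mul_mem (inv_mem hkM) (h.C_le h1)

end Fin4

end Cfsg.Agent.OddCyclic.BcP
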