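import Cfsg.Agent.OddCyclic.L32.Conf

/-!
# S0342, leaf [Bc], type (b'): three points

`Tr S T L O₁ O A ξ x p N`: the configuration with three points `p 0, p 1, p 2 = p 0 p 1` of `Ω₁Z(T)` and their natural
modules `N 0`, `N 1`, `N 2`; `W = N 0 × N 1`, `M = N_G(L) = N_G(W)`.
-/

set_option autoImplicit false
set_option linter.unusedSectionVars false

namespace Cfsg.Agent.OddCyclic.BcP

open Subgroup Cfsg Cfsg.Agent.ZN Cfsg.Agent.MinSimple
open Cfsg.Agent.OddCyclic.L32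
open Cfsg.Agent.OddCyclic.RedTy

universe u

variable {G : Type u} [Group G] [Finite G]

/-- three points with their natural modules -/
structure Tr (S : Sylow 2 G) (T L O₁ O A : Subgroup G) (ξ x : G) (p : Fin 3 → G) (N : Fin 3 → Subgroup G) : Prop
    extends Conf S T L O₁ O A ξ x where
  p_mem : ∀ i, p i ∈ zc T
  p_ne : ∀ i, p i ≠ 1
  mul : p 0 * p 1 = p 2
  np : ∀ i, Np S T L O₁ O A (N i) ξ x (p i)

/-- `W = N 0 N 1` -/
def ww (N : Fin 3 → Subgroup G) : Subgroup G := N 0 ⊔ N 1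

/-- `P = ⟨p 0, p 1⟩` -/
def pp (p : Fin 3 → G) : Subgroup G := zpowers (p 0) ⊔ zpowers (p 1)

theorem exists_lev {S : Sylow 2 G} {T L O₁ O A : Subgroup G} {ξ x : G} (c : Conf S T L O₁ O A ξ x) :
    YC (normalizer (L : Set G)) T (RedX.mod (normalizer (L : Set G)) T) := by
  obtain ⟨L₀, h⟩ := c.lev
  exact h.yc

/-- the module of `M` is elementary abelian -/
theorem mod_comm {S : Sylow 2 G} {T L O₁ O A : Subgroup G} {ξ x : G} (c : Conf S T L O₁ O A ξ x) {a b : G}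
    (ha : a ∈ RedX.mod (normalizer (L : Set G)) T) (hb : b ∈ RedX.mod (normalizer (L : Set G)) T) : a * b = b * a := by
  have h := exists_lev c
  have h1 := h.le ha
  have h2 := h.le hb
  rw [ZN.mem_zc] at h1 h2
  exact h2.2.1 a h1.1

theorem mod_sq {S : Sylow 2 G} {T L O₁ O A : Subgroup G} {ξ x : G} (c : Conf S T L O₁ O A ξ x) {a : G}
    (ha : a ∈ RedX.mod (normalizer (L : Set G)) T) : a * a = 1 := by
  have h := exists_lev c
  have h1 := h.le ha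
  rw [ZN.mem_zc] at h1
  rw [← pow_two]
  exact h1.2.2

namespace Tr

variable {S : Sylow 2 G} {T L O₁ O A : Subgroup G} {ξ x : G} {p : Fin 3 → G} {N : Fin 3 → Subgroup G}

theorem p_N (h : Tr S T L O₁ O A ξ x p N) (i : Fin 3) : p i ∈ N i := (h.np i).pN

theorem comm (h : Tr S T L O₁ O A ξ x p N) {i j : Fin 3} {a b : G} (ha : a ∈ N i) (hb : b ∈ N j) : a * b = b * a :=
  mod_comm h.toConf ((h.np i).le ha) ((h.np j).le hb)

theorem p_sq (h : Tr S T L O₁ O A ξ x p N) (i : Fin 3) : p i * p i = 1 := (h.np i).sq _ (h.p_N i)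

theorem p_mul (h : Tr S T L O₁ O A ξ x p N) {i j k : Fin 3} (hij : i ≠ j) (hik : i ≠ k) (hjk : j ≠ k) :
    p i * p j = p k := by
  have c01 := h.comm (h.p_N 0) (h.p_N 1)
  have c02 := h.comm (h.p_N 0) (h.p_N 2)
  have c12 := h.comm (h.p_N 1) (h.p_N 2)
  have h02 : p 0 * p 2 = p 1 := by rw [← h.mul, ← mul_assoc, h.p_sq, one_mul]
  have h12 : p 1 * p 2 = p 0 := by rw [← h.mul, c01, ← mul_assoc, h.p_sq, one_mul]
  have h01 := h.mul
  have h10 : p 1 * p 0 = p 2 := by rw [← c01]; exact h01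
  have h20 : p 2 * p 0 = p 1 := by rw [← c02]; exact h02
  have h21 : p 2 * p 1 = p 0 := by rw [← c12]; exact h12
  fin_cases i <;> fin_cases j <;> fin_cases k <;> first | exact absurd rfl hij | exact absurd rfl hik | exact absurd rfl hjk | assumption

theorem exists_third {i j : Fin 3} (hij : i ≠ j) : ∃ k, i ≠ k ∧ j ≠ k := by
  revert i j; decide

theorem p_ne_p (h : Tr S T L O₁ O A ξ x p N) {i j : Fin 3} (hij : i ≠ j) : p i ≠ p j := by
  obtain ⟨k, hik, hjk⟩ := exists_third hij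
  intro he
  apply h.p_ne k
  rw [← h.p_mul hij hik hjk, he, h.p_sq]

theorem L_le_M (_ : Tr S T L O₁ O A ξ x p N) : L ≤ normalizer (L : Set G) := le_normalizer

theorem T_le_M (h : Tr S T L O₁ O A ξ x p N) : T ≤ normalizer (L : Set G) := by rw [h.T_eq]; exact inf_le_right

theorem conj_N (h : Tr S T L O₁ O A ξ x p N) {i : Fin 3} {g n : G} (hg : g ∈ normalizer (L : Set G)) (hn : n ∈ N i) :
    g * n * g⁻¹ ∈ N i := (mem_normalizer_iff.1 ((h.np i).norm hg) n).1 hn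

theorem disj (h : Tr S T L O₁ O A ξ x p N) {i j : Fin 3} (hij : i ≠ j) {n : G} (hi : n ∈ N i) (hj : n ∈ N j) : n = 1 := by
  by_contra hn
  rcases ((h.np i).mem n).1 hi with h1 | ⟨l, hl, hln⟩
  · exact hn h1
  · have h2 : p i ∈ N j := by
      have h3 := h.conj_N (inv_mem (h.L_le_M hl)) hj
      rw [hln, inv_inv] at h3
      have e : l⁻¹ * (l * p i * l⁻¹) * l = p i := by group
      rwa [e] at h3
    exact h.p_ne_p hij ((h.np j).eq_p _ h2 (h.p_ne i) (h.np i).pT)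

theorem inf_eq (h : Tr S T L O₁ O A ξ x p N) {i j : Fin 3} (hij : i ≠ j) : N i ⊓ N j = ⊥ := by
  rw [eq_bot_iff]
  rintro n ⟨hi, hj⟩
  exact Subgroup.mem_bot.2 (h.disj hij hi hj)

theorem N_le (h : Tr S T L O₁ O A ξ x p N) {i j : Fin 3} (hij : i ≠ j) (k : Fin 3) : N k ≤ N i ⊔ N j := by
  rcases eq_or_ne i k with rfl | hik
  · exact le_sup_left
  rcases eq_or_ne j k with rfl | hjk
  · exact le_sup_right
  intro n hn
  rcases ((h.np k).mem n).1 hn with rfl | ⟨l, hl, rfl⟩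
  · exact one_mem _
  · have e : l * p k * l⁻¹ = (l * p i * l⁻¹) * (l * p j * l⁻¹) := by
      rw [← h.p_mul hij hik hjk]; group
    rw [e]
    exact mul_mem (le_sup_left (a := N i) (h.conj_N (h.L_le_M hl) (h.p_N i)))
      (le_sup_right (a := N i) (h.conj_N (h.L_le_M hl) (h.p_N j)))

theorem sup_eq (h : Tr S T L O₁ O A ξ x p N) {i j : Fin 3} (hij : i ≠ j) : N i ⊔ N j = ww N :=
  le_antisymm (sup_le (h.N_le (by decide) i) (h.N_le (by decide) j)) (sup_le (h.N_le hij 0) (h.N_le hij 1))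

theorem N_le_ww (h : Tr S T L O₁ O A ξ x p N) (i : Fin 3) : N i ≤ ww N := h.N_le (by decide) i

theorem mem_sup (h : Tr S T L O₁ O A ξ x p N) {i j : Fin 3} {w : G} (hw : w ∈ N i ⊔ N j) :
    ∃ a ∈ N i, ∃ b ∈ N j, w = a * b := by
  have hle : N i ⊔ N j ≤
      { carrier := {w : G | ∃ a ∈ N i, ∃ b ∈ N j, w = a * b}
        one_mem' := ⟨1, one_mem _, 1, one_mem _, by simp⟩
        mul_mem' := by
          rintro _ _ ⟨a, ha, b, hb, rfl⟩ ⟨c, hc, d, hd, rfl⟩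
          refine ⟨a * c, mul_mem ha hc, b * d, mul_mem hb hd, ?_⟩
          have h1 := h.comm hc hb
          calc a * b * (c * d) = a * (b * c) * d := by group
            _ = a * c * (b * d) := by rw [← h1]; group
        inv_mem' := by
          rintro _ ⟨a, ha, b, hb, rfl⟩
          refine ⟨a⁻¹, inv_mem ha, b⁻¹, inv_mem hb, ?_⟩
          rw [mul_inv_rev]
          exact h.comm (inv_mem hb) (inv_mem ha) } :=
    sup_le (fun a ha => ⟨a, ha, 1, one_mem _, (mul_one a).symm⟩) (fun b hb => ⟨1, one_mem _, b, hb, (one_mul b).symm⟩)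
  exact hle hw

theorem mem_ww (h : Tr S T L O₁ O A ξ x p N) {i j : Fin 3} (hij : i ≠ j) {w : G} (hw : w ∈ ww N) :
    ∃ a ∈ N i, ∃ b ∈ N j, w = a * b := h.mem_sup (by rw [h.sup_eq hij]; exact hw)

theorem ww_le_mod (h : Tr S T L O₁ O A ξ x p N) : ww N ≤ RedX.mod (normalizer (L : Set G)) T :=
  sup_le (h.np 0).le (h.np 1).le

theorem ww_comm (h : Tr S T L O₁ O A ξ x p N) {a b : G} (ha : a ∈ ww N) (hb : b ∈ ww N) : a * b = b * a :=
  mod_comm h.toConf (h.ww_le_mod ha) (h.ww_le_mod hb)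

theorem ww_sq (h : Tr S T L O₁ O A ξ x p N) {a : G} (ha : a ∈ ww N) : a * a = 1 := mod_sq h.toConf (h.ww_le_mod ha)

theorem p_mem_ww (h : Tr S T L O₁ O A ξ x p N) (i : Fin 3) : p i ∈ ww N := h.N_le_ww i (h.p_N i)

theorem ww_two (h : Tr S T L O₁ O A ξ x p N) : IsPGroup 2 (ww N) := fun a =>
  ⟨1, Subtype.ext (by rw [pow_one, pow_two]; exact h.ww_sq a.2)⟩

theorem ww_ne_bot (h : Tr S T L O₁ O A ξ x p N) : ww N ≠ ⊥ := fun hb =>
  h.p_ne 0 (Subgroup.mem_bot.1 (hb ▸ h.p_mem_ww 0))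

/-- `M ≤ N_G(W)` -/
theorem norm_ww (h : Tr S T L O₁ O A ξ x p N) : normalizer (L : Set G) ≤ normalizer (ww N : Set G) := by
  refine Block.le_normalizer_of_forall fun g hg w hw => ?_
  obtain ⟨a, ha, b, hb, rfl⟩ := h.mem_ww (i := 0) (j := 1) (by decide) hw
  have e : g * (a * b) * g⁻¹ = (g * a * g⁻¹) * (g * b * g⁻¹) := by group
  rw [e]
  exact mul_mem (h.N_le_ww 0 (h.conj_N hg ha)) (h.N_le_ww 1 (h.conj_N hg hb))

/-- `N_G(W) = N_G(L)` -/
theorem norm_ww_eq (h : Tr S T L O₁ O A ξ x p N) : normalizer (ww N : Set G) = normalizer (L : Set G) := by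
  refine le_antisymm (h.uniq _ ?_ (h.L_le_M.trans h.norm_ww) (h.sev.norm.trans h.norm_ww)) h.norm_ww
  intro hb
  apply h.ww_ne_bot
  rw [eq_bot_iff, ← hb]
  exact Block.le_o2 h.ww_two le_normalizer le_rfl

theorem conj_ww (h : Tr S T L O₁ O A ξ x p N) {g w : G} (hg : g ∈ normalizer (L : Set G)) (hw : w ∈ ww N) :
    g * w * g⁻¹ ∈ ww N := (mem_normalizer_iff.1 (h.norm_ww hg) w).1 hw

/-- `g ∈ M` commutes with `a b`, `a ∈ N i`, `b ∈ N j`: it commutes with `a` and `b` -/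
theorem split (h : Tr S T L O₁ O A ξ x p N) {i j : Fin 3} (hij : i ≠ j) {g a b : G} (hg : g ∈ normalizer (L : Set G))
    (ha : a ∈ N i) (hb : b ∈ N j) (hab : g * (a * b) = a * b * g) : g * a = a * g ∧ g * b = b * g := by
  have h1 : (g * a * g⁻¹) * (g * b * g⁻¹) = a * b := by
    calc (g * a * g⁻¹) * (g * b * g⁻¹) = g * (a * b) * g⁻¹ := by group
      _ = a * b := by rw [hab]; group
  have h2 : a⁻¹ * (g * a * g⁻¹) = b * (g * b * g⁻¹)⁻¹ := by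
    calc a⁻¹ * (g * a * g⁻¹) = a⁻¹ * ((g * a * g⁻¹) * (g * b * g⁻¹)) * (g * b * g⁻¹)⁻¹ := by group
      _ = b * (g * b * g⁻¹)⁻¹ := by rw [h1]; group
  have h3 : a⁻¹ * (g * a * g⁻¹) = 1 := by
    apply h.disj hij (mul_mem (inv_mem ha) (h.conj_N hg ha))
    rw [h2]
    exact mul_mem hb (inv_mem (h.conj_N hg hb))
  have h4 : g * a * g⁻¹ = a := (inv_mul_eq_one.1 h3).symm
  rw [h3] at h2
  have h5 : g * b * g⁻¹ = b := (mul_inv_eq_one.1 h2.symm).symm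
  exact ⟨by conv_rhs => rw [← h4]
            group, by conv_rhs => rw [← h5]
                      group⟩

/-- `C_M(N i) = C_M(W)` -/
theorem cent_ww (h : Tr S T L O₁ O A ξ x p N) {i : Fin 3} {g : G} (hg : g ∈ normalizer (L : Set G))
    (hc : ∀ n ∈ N i, g * n = n * g) {w : G} (hw : w ∈ ww N) : g * w = w * g := by
  have hfix : ∀ n ∈ N i, g * n * g⁻¹ = n := fun n hn => by rw [hc n hn, mul_inv_cancel_right]
  -- `g` commutes with `L` modulo `o2 L`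
  have hcomm : ∀ l ∈ L, ∀ j : Fin 3, ∀ n ∈ N j, (g * l * g⁻¹) * n * (g * l * g⁻¹)⁻¹ = l * n * l⁻¹ := by
    intro l hl j n hn
    have hgl : g * l * g⁻¹ ∈ L := (mem_normalizer_iff.1 hg l).1 hl
    have h1 : l⁻¹ * (g * l * g⁻¹) ∈ L ⊓ centralizer (N i : Set G) := by
      refine ⟨L.mul_mem (L.inv_mem hl) hgl, mem_centralizer_iff.2 fun m hm => ?_⟩
      have hm1 : l * m * l⁻¹ ∈ N i := h.conj_N (h.L_le_M hl) hm
      have h2 := hfix _ hm1
      have h3 : g⁻¹ * m * g = m := by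
        conv_lhs => rw [← hfix m hm]
        group
      have h4 : (l⁻¹ * (g * l * g⁻¹)) * m * (l⁻¹ * (g * l * g⁻¹))⁻¹ = m := by
        calc (l⁻¹ * (g * l * g⁻¹)) * m * (l⁻¹ * (g * l * g⁻¹))⁻¹
            = l⁻¹ * (g * (l * (g⁻¹ * m * g) * l⁻¹) * g⁻¹) * l := by group
          _ = m := by rw [h3, h2]; group
      calc m * (l⁻¹ * (g * l * g⁻¹)) = ((l⁻¹ * (g * l * g⁻¹)) * m * (l⁻¹ * (g * l * g⁻¹))⁻¹) * (l⁻¹ * (g * l * g⁻¹)) := by
            rw [h4]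
        _ = (l⁻¹ * (g * l * g⁻¹)) * m := by group
    rw [(h.np i).faith, ← (h.np j).faith] at h1
    have h2 := mem_centralizer_iff.1 h1.2 n hn
    have e : (g * l * g⁻¹) = l * (l⁻¹ * (g * l * g⁻¹)) := by group
    rw [e]
    calc l * (l⁻¹ * (g * l * g⁻¹)) * n * (l * (l⁻¹ * (g * l * g⁻¹)))⁻¹
        = l * ((l⁻¹ * (g * l * g⁻¹)) * n) * (l⁻¹ * (g * l * g⁻¹))⁻¹ * l⁻¹ := by group
      _ = l * n * l⁻¹ := by rw [← h2]; group
  -- `g` fixes `p j`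
  have hp : ∀ j, g * p j * g⁻¹ = p j := by
    intro j
    have h1 : g * p j * g⁻¹ ∈ N j := h.conj_N hg (h.p_N j)
    have h2 := hcomm x h.xL j _ h1
    have hxp : x * p j * x⁻¹ = p j := by rw [h.xZ _ (h.p_mem j), mul_inv_cancel_right]
    have h3 : (g * x * g⁻¹) * (g * p j * g⁻¹) * (g * x * g⁻¹)⁻¹ = g * p j * g⁻¹ := by
      calc (g * x * g⁻¹) * (g * p j * g⁻¹) * (g * x * g⁻¹)⁻¹ = g * (x * p j * x⁻¹) * g⁻¹ := by group
        _ = _ := by rw [hxp]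
    rw [h3] at h2
    have h4 : x * (g * p j * g⁻¹) = (g * p j * g⁻¹) * x := by
      conv_rhs => rw [h2]
      group
    rcases ((h.np j).xfix _ h1).1 h4 with h5 | h5
    · exfalso
      apply h.p_ne j
      have e : p j = g⁻¹ * (g * p j * g⁻¹) * g := by group
      rw [e, h5]; group
    · exact h5
  -- `g` fixes `N j`
  have hN : ∀ j, ∀ n ∈ N j, g * n = n * g := by
    intro j n hn
    rcases ((h.np j).mem n).1 hn with rfl | ⟨l, hl, rfl⟩
    · rw [mul_one, one_mul]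
    · have h1 := hcomm l hl j (p j) (h.p_N j)
      have h2 : g * (l * p j * l⁻¹) * g⁻¹ = l * p j * l⁻¹ := by
        calc g * (l * p j * l⁻¹) * g⁻¹ = (g * l * g⁻¹) * (g * p j * g⁻¹) * (g * l * g⁻¹)⁻¹ := by group
          _ = l * p j * l⁻¹ := by rw [hp j, h1]
      conv_rhs => rw [← h2]
      group
  obtain ⟨a, ha, b, hb, rfl⟩ := h.mem_ww (i := 0) (j := 1) (by decide) hw
  rw [← mul_assoc, hN 0 a ha, mul_assoc, hN 1 b hb, mul_assoc]

theorem mem_pp (h : Tr S T L O₁ O A ξ x p N) {z : G} : z ∈ pp p ↔ z = 1 ∨ ∃ i, z = p i := by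
  constructor
  · intro hz
    have hle : pp p ≤
        { carrier := {z : G | z = 1 ∨ ∃ i, z = p i}
          one_mem' := Or.inl rfl
          mul_mem' := by
            rintro _ _ (rfl | ⟨i, rfl⟩) (rfl | ⟨j, rfl⟩)
            · exact Or.inl (mul_one 1)
            · exact Or.inr ⟨j, one_mul _⟩
            · exact Or.inr ⟨i, mul_one _⟩
            · rcases eq_or_ne i j with rfl | hij
              · exact Or.inl (h.p_sq i)
              · obtain ⟨k, hik, hjk⟩ := exists_third hij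
                exact Or.inr ⟨k, h.p_mul hij hik hjk⟩
          inv_mem' := by
            rintro _ (rfl | ⟨i, rfl⟩)
            · exact Or.inl inv_one
            · exact Or.inr ⟨i, inv_eq_of_mul_eq_one_left (h.p_sq i)⟩ } :=
      sup_le (by rw [zpowers_le]; exact Or.inr ⟨0, rfl⟩) (by rw [zpowers_le]; exact Or.inr ⟨1, rfl⟩)
    exact hle hz
  · rintro (rfl | ⟨i, rfl⟩)
    · exact one_mem _
    · have h0 : p 0 ∈ pp p := le_sup_left (a := zpowers (p 0)) (mem_zpowers _)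
      have h1 : p 1 ∈ pp p := le_sup_right (a := zpowers (p 0)) (mem_zpowers _)
      have h2 : p 2 ∈ pp p := by rw [← h.mul]; exact mul_mem h0 h1
      fin_cases i <;> assumption

theorem pp_le_zc (h : Tr S T L O₁ O A ξ x p N) : pp p ≤ zc T :=
  sup_le (by rw [zpowers_le]; exact h.p_mem 0) (by rw [zpowers_le]; exact h.p_mem 1)

theorem pp_le_ww (h : Tr S T L O₁ O A ξ x p N) : pp p ≤ ww N :=
  sup_le (by rw [zpowers_le]; exact h.p_mem_ww 0) (by rw [zpowers_le]; exact h.p_mem_ww 1)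

/-- `N i ∩ ⟨p 0, p 1⟩ = ⟨p i⟩` -/
theorem N_inf_pp (h : Tr S T L O₁ O A ξ x p N) {i : Fin 3} {z : G} (hz : z ∈ N i) (hp : z ∈ pp p) : z = 1 ∨ z = p i := by
  rcases h.mem_pp.1 hp with h1 | ⟨j, rfl⟩
  · exact Or.inl h1
  · rcases eq_or_ne j i with rfl | hij
    · exact Or.inr rfl
    · exact absurd (h.disj hij (h.p_N j) hz) (h.p_ne j)

theorem card_inf (h : Tr S T L O₁ O A ξ x p N) (i : Fin 3) : Nat.card (N i ⊓ pp p : Subgroup G) = 2 := by
  have e : N i ⊓ pp p = zpowers (p i) := by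
    apply le_antisymm
    · rintro z ⟨h1, h2⟩
      rcases h.N_inf_pp h1 h2 with rfl | rfl
      · exact one_mem _
      · exact mem_zpowers _
    · rw [zpowers_le]
      exact ⟨h.p_N i, h.mem_pp.2 (Or.inr ⟨i, rfl⟩)⟩
  rw [e, Nat.card_zpowers]
  exact orderOf_eq_prime (by rw [pow_two]; exact h.p_sq i) (h.p_ne i)

/-- `C_W(T) = ⟨p 0, p 1⟩` -/
theorem T_fix (h : Tr S T L O₁ O A ξ x p N) {w : G} (hw : w ∈ ww N) (hT : ∀ t ∈ T, t * w = w * t) : w ∈ pp p := by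
  obtain ⟨a, ha, b, hb, rfl⟩ := h.mem_ww (i := 0) (j := 1) (by decide) hw
  have h1 := fun t (ht : t ∈ T) => h.split (i := 0) (j := 1) (by decide) (h.T_le_M ht) ha hb (hT t ht)
  have ha' : a ∈ pp p := by
    rcases eq_or_ne a 1 with rfl | ha1
    · exact one_mem _
    · rw [(h.np 0).eq_p a ha ha1 fun t ht => (h1 t ht).1]
      exact h.mem_pp.2 (Or.inr ⟨0, rfl⟩)
  have hb' : b ∈ pp p := by
    rcases eq_or_ne b 1 with rfl | hb1
    · exact one_mem _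
    · rw [(h.np 1).eq_p b hb hb1 fun t ht => (h1 t ht).2]
      exact h.mem_pp.2 (Or.inr ⟨1, rfl⟩)
  exact mul_mem ha' hb'

/-- `C_W(x) = ⟨p 0, p 1⟩` -/
theorem x_fix (h : Tr S T L O₁ O A ξ x p N) {w : G} (hw : w ∈ ww N) : x * w = w * x ↔ w ∈ pp p := by
  constructor
  · intro hx
    obtain ⟨a, ha, b, hb, rfl⟩ := h.mem_ww (i := 0) (j := 1) (by decide) hw
    have h1 := h.split (i := 0) (j := 1) (by decide) (h.L_le_M h.xL) ha hb hx
    have ha' : a ∈ pp p := by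
      rcases ((h.np 0).xfix a ha).1 h1.1 with rfl | rfl
      · exact one_mem _
      · exact h.mem_pp.2 (Or.inr ⟨0, rfl⟩)
    have hb' : b ∈ pp p := by
      rcases ((h.np 1).xfix b hb).1 h1.2 with rfl | rfl
      · exact one_mem _
      · exact h.mem_pp.2 (Or.inr ⟨1, rfl⟩)
    exact mul_mem ha' hb'
  · intro hp
    exact h.xZ _ (h.pp_le_zc hp)

/-- `C_{N i}(J) ∩ C(ξ) = 1` -/
theorem ξ_fix_N (h : Tr S T L O₁ O A ξ x p N) {i : Fin 3} {n : G} (hn : n ∈ N i)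
    (hJ : ∀ j ∈ jj (S : Subgroup G), j * n = n * j) (hξ : ξ * n = n * ξ) : n = 1 := by
  have hs := (h.np i).sum
  have hx := (h.np i).xp
  have hξn : ξ * n * ξ⁻¹ = n := by rw [hξ, mul_inv_cancel_right]
  rcases ((h.np i).plane n hn).1 hJ with h1 | h1 | h1 | h1
  · exact h1
  · exact absurd (h1 ▸ hξ) hx
  · exfalso
    apply hx
    have h2 : ξ * (ξ * p i * ξ⁻¹) * ξ⁻¹ = ξ * p i * ξ⁻¹ := by rw [← h1]; exact hξn
    have h3 : ξ * p i * ξ⁻¹ = p i := by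
      calc ξ * p i * ξ⁻¹ = ξ⁻¹ * (ξ * (ξ * p i * ξ⁻¹) * ξ⁻¹) * ξ := by group
        _ = ξ⁻¹ * (ξ * p i * ξ⁻¹) * ξ := by rw [h2]
        _ = p i := by group
    calc ξ * p i = (ξ * p i * ξ⁻¹) * ξ := by group
      _ = p i * ξ := by rw [h3]
  · exfalso
    apply hx
    have h2 : n = (ξ * ξ * p i * (ξ * ξ)⁻¹)⁻¹ := by rw [h1]; exact eq_inv_of_mul_eq_one_left hs
    have h3 : ξ * ξ * p i * (ξ * ξ)⁻¹ = n⁻¹ := by rw [h2, inv_inv]
    have h4 : ξ * n⁻¹ * ξ⁻¹ = n⁻¹ := by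
      calc ξ * n⁻¹ * ξ⁻¹ = (ξ * n * ξ⁻¹)⁻¹ := by group
        _ = n⁻¹ := by rw [hξn]
    have h5 : p i = n⁻¹ := by
      calc p i = ξ⁻¹ * (ξ⁻¹ * (ξ * ξ * p i * (ξ * ξ)⁻¹) * ξ) * ξ := by group
        _ = ξ⁻¹ * (ξ⁻¹ * n⁻¹ * ξ) * ξ := by rw [h3]
        _ = n⁻¹ := by
          have h6 : ξ⁻¹ * n⁻¹ * ξ = n⁻¹ := by
            conv_lhs => rw [← h4]
            group
          rw [h6, h6]
    rw [h5]
    calc ξ * n⁻¹ = (ξ * n⁻¹ * ξ⁻¹) * ξ := by group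
      _ = n⁻¹ * ξ := by rw [h4]

/-- `C_W(J) ∩ C(ξ) = 1` -/
theorem ξ_fix (h : Tr S T L O₁ O A ξ x p N) {w : G} (hw : w ∈ ww N)
    (hJ : ∀ j ∈ jj (S : Subgroup G), j * w = w * j) (hξ : ξ * w = w * ξ) : w = 1 := by
  obtain ⟨a, ha, b, hb, rfl⟩ := h.mem_ww (i := 0) (j := 1) (by decide) hw
  have h1 := h.split (i := 0) (j := 1) (by decide) (h.L_le_M h.ξL) ha hb hξ
  have h2 := fun j hj => h.split (i := 0) (j := 1) (by decide) (h.sev.norm hj) ha hb (hJ j hj)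
  rw [h.ξ_fix_N ha (fun j hj => (h2 j hj).1) h1.1, h.ξ_fix_N hb (fun j hj => (h2 j hj).2) h1.2, mul_one]

end Tr

/-- existence: two points -/
theorem exists_tr {S : Sylow 2 G} {T L O₁ O A : Subgroup G} {ξ x : G} (c : Conf S T L O₁ O A ξ x) {p₁ p₂ : G}
    (h1 : p₁ ∈ zc T) (h2 : p₂ ∈ zc T) (h1' : p₁ ≠ 1) (h2' : p₂ ≠ 1) (h12 : p₁ ≠ p₂) (r1 : rz ξ p₁ = 1)
    (r2 : rz ξ p₂ = 1) : ∃ (p : Fin 3 → G) (N : Fin 3 → Subgroup G), p 0 = p₁ ∧ p 1 = p₂ ∧ Tr S T L O₁ O A ξ x p N := by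
  obtain ⟨N₁, n1⟩ := c.nat p₁ h1 h1' r1
  obtain ⟨N₂, n2⟩ := c.nat p₂ h2 h2' r2
  have hL : L ≤ normalizer (L : Set G) := le_normalizer
  have hc : ∀ {a b : G}, a ∈ N₁ → b ∈ N₂ → a * b = b * a := fun ha hb => mod_comm c (n1.le ha) (n2.le hb)
  have hm : ∀ {g : G}, g ∈ L → g * p₁ * g⁻¹ ∈ N₁ := fun hg => (mem_normalizer_iff.1 (n1.norm (hL hg)) _).1 n1.pN
  have hm' : ∀ {g : G}, g ∈ L → g * p₂ * g⁻¹ ∈ N₂ := fun hg => (mem_normalizer_iff.1 (n2.norm (hL hg)) _).1 n2.pN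
  have h3 : p₁ * p₂ ≠ 1 := by
    intro h
    apply h12
    have h4 : p₂ * p₂ = 1 := n2.sq _ n2.pN
    calc p₁ = p₁ * p₂ * p₂ := by rw [mul_assoc, h4, mul_one]
      _ = p₂ := by rw [h, one_mul]
  have r3 : rz ξ (p₁ * p₂) = 1 := by
    have e1 := hc (hm (mul_mem c.ξL c.ξL)) n2.pN
    have e2 := hc (hm c.ξL) n2.pN
    have e3 := hc (hm (mul_mem c.ξL c.ξL)) (hm' c.ξL)
    unfold rz at r1 r2 ⊢
    calc p₁ * p₂ * (ξ * (p₁ * p₂) * ξ⁻¹) * (ξ * ξ * (p₁ * p₂) * (ξ * ξ)⁻¹)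
        = p₁ * (p₂ * (ξ * p₁ * ξ⁻¹)) * ((ξ * p₂ * ξ⁻¹) * (ξ * ξ * p₁ * (ξ * ξ)⁻¹)) * (ξ * ξ * p₂ * (ξ * ξ)⁻¹) := by group
      _ = p₁ * (ξ * p₁ * ξ⁻¹) * (p₂ * (ξ * ξ * p₁ * (ξ * ξ)⁻¹)) * (ξ * p₂ * ξ⁻¹) * (ξ * ξ * p₂ * (ξ * ξ)⁻¹) := by
          rw [← e2, ← e3]; group
      _ = (p₁ * (ξ * p₁ * ξ⁻¹) * (ξ * ξ * p₁ * (ξ * ξ)⁻¹)) * (p₂ * (ξ * p₂ * ξ⁻¹) * (ξ * ξ * p₂ * (ξ * ξ)⁻¹)) := by
          rw [← e1]; group
      _ = 1 := by rw [r1, r2, one_mul]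
  obtain ⟨N₃, n3⟩ := c.nat (p₁ * p₂) (mul_mem h1 h2) h3 r3
  refine ⟨![p₁, p₂, p₁ * p₂], ![N₁, N₂, N₃], rfl, rfl, ?_⟩
  refine { toConf := c, p_mem := ?_, p_ne := ?_, mul := rfl, np := ?_ }
  · intro i
    fin_cases i
    · exact h1
    · exact h2
    · exact mul_mem h1 h2
  · intro i
    fin_cases i
    · exact h1'
    · exact h2'
    · exact h3
  · intro i
    fin_cases i
    · exact n1
    · exact n2
    · exact n3

end Cfsg.Agent.OddCyclic.BcP
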