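import Cfsg.Agent.OddCyclic.BcP.Coset
import Cfsg.Agent.OddCyclic.BcP.Two
import Cfsg.Agent.OddCyclic.EN.S7Grp
import Cfsg.Agent.SmallSimple.S1000.FrameAut

/-!
# S0342, [Bc], type (b'): the instance of `Coset.In`

`Dat S T L N₁ N₂ f` : two isomorphic natural modules `N₁`, `N₂` of order 8 for `L`, `L/O₂(L)` simple of order 168.
`Dat.exists_in` : three conjugates of `J` under `L` as in `Coset.In`.
-/

set_option autoImplicit false
set_option linter.unusedSectionVars false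
set_option linter.unusedVariables false
set_option maxHeartbeats 400000

namespace Cfsg.Agent.OddCyclic.BcP.Conj

open Subgroup Cfsg Cfsg.Agent.ZN.ChoiceBase
open Cfsg.Agent.ZN (jj zj)
open Cfsg.Agent.OddCyclic.L32.FD (comm_of_sq inv_of_sq)
open Cfsg.Agent.SmallSimple.S1000.FrameAut (Frame exists_aut exists_frame_of_pair card_mulAut)
open Cfsg.Agent.OddCyclic.UniStruct
open scoped commutatorElement

universe u

/-! ### the simple group `Aut(N)` -/

section aut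

variable {G : Type u} [Group G] [Finite G] {L N : Subgroup G}

/-- the action on `N` -/
def act (N L : Subgroup G) (h : L ≤ normalizer (N : Set G)) : L →* MulAut N :=
  (N.normalizerMonoidHom).comp (Subgroup.inclusion h)

theorem act_apply (h : L ≤ normalizer (N : Set G)) (l : L) (n : N) :
    ((act N L h l n : N) : G) = l * n * (l : G)⁻¹ := rfl

/-- `L` perfect, `L/O₂(L)` simple of order 168, `L → Aut(N)` surjective, `|N| = 8` -/
theorem simple_aut (hs : TS L) (hc : Nat.card (L ⧸ pCore 2 L) = 168) (hLN : L ≤ normalizer (N : Set G))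
    (hN : Nat.card N = 8) (hsq : ∀ n ∈ N, n * n = 1)
    (full : ∀ φ : MulAut N, ∃ l ∈ L, ∀ n : N, ((φ n : N) : G) = l * n * l⁻¹) :
    IsSimpleGroup (MulAut N) ∧ (act N L hLN).ker = pCore 2 L := by
  have hq : (pCore 2 L).Normal := Lib.Cores.pCore_normal 2
  have h168 : Nat.card (MulAut N) = 168 := card_mulAut (fun x => Subtype.ext (hsq x x.2)) hN
  have hsurj : Function.Surjective (act N L hLN) := by
    intro φ
    obtain ⟨l, hl, h⟩ := full φ
    refine ⟨⟨l, hl⟩, ?_⟩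
    ext n
    rw [h n]; rfl
  have e := QuotientGroup.quotientKerEquivOfSurjective _ hsurj
  have hcard : Nat.card (L ⧸ (act N L hLN).ker) = 168 := by rw [Nat.card_congr e.toEquiv, h168]
  have hle : (act N L hLN).ker ≤ pCore 2 L := by
    have h1 : ((act N L hLN).ker.map (QuotientGroup.mk' (pCore 2 L))).Normal :=
      (MonoidHom.normal_ker _).map _ (QuotientGroup.mk'_surjective _)
    have hs' : IsSimpleGroup (L ⧸ pCore 2 L) := hs
    rcases h1.eq_bot_or_eq_top with h | h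
    · rwa [Subgroup.map_eq_bot_iff, QuotientGroup.ker_mk'] at h
    · exfalso
      have h2 : (act N L hLN).ker ⊔ pCore 2 L = ⊤ := by
        have h3 := congrArg (Subgroup.comap (QuotientGroup.mk' (pCore 2 L))) h
        rwa [Subgroup.comap_map_eq, QuotientGroup.ker_mk', Subgroup.comap_top] at h3
      have hf : Fact (Nat.Prime 2) := ⟨Nat.prime_two⟩
      have h4 : (pCore 2 L).map (act N L hLN) = ⊤ := by
        rw [← MonoidHom.range_eq_top.2 hsurj, MonoidHom.range_eq_map, ← h2, Subgroup.map_sup,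
          (Subgroup.map_eq_bot_iff _).2 le_rfl, bot_sup_eq]
      have h5 : IsPGroup 2 (⊤ : Subgroup (MulAut N)) := by
        rw [← h4]
        exact (Lib.Cores.pCore_isPGroup 2).map _
      obtain ⟨k, hk⟩ := IsPGroup.iff_card.1 h5
      rw [Subgroup.card_top, h168] at hk
      have h7 : 7 ∣ 2 ^ k := by rw [← hk]; norm_num
      have := (Nat.prime_dvd_prime_iff_eq (by norm_num) Nat.prime_two).1 ((by norm_num : Nat.Prime 7).dvd_of_dvd_pow h7)
      omega
  have heq : (act N L hLN).ker = pCore 2 L := by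
    apply Subgroup.eq_of_le_of_card_ge hle
    have h1 := Subgroup.card_eq_card_quotient_mul_card_subgroup (act N L hLN).ker
    have h2 := Subgroup.card_eq_card_quotient_mul_card_subgroup (pCore 2 L)
    rw [hcard] at h1
    rw [hc] at h2
    omega
  refine ⟨?_, heq⟩
  have hs' : IsSimpleGroup (L ⧸ pCore 2 L) := hs
  exact ((QuotientGroup.quotientMulEquivOfEq heq).symm.trans e).symm.isSimpleGroup

end aut

/-! ### three transvection groups generate -/

section gen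

variable {V : Type u} [Group V]

/-- the orbit of `v` under `B ≤ Aut(V)` has `n` elements: `n ∣ |B|` -/
theorem dvd_card [Finite V] {B : Subgroup (MulAut V)} {v : V} {s : Set V} (h : ∀ w ∈ s, ∃ b ∈ B, b v = w)
    (h' : ∀ b ∈ B, b v ∈ s) : s.ncard ∣ Nat.card B := by
  have e : MulAction.orbit B v = s := by
    ext w
    constructor
    · rintro ⟨b, rfl⟩
      exact h' b b.2
    · intro hw
      obtain ⟨b, hb, hbw⟩ := h w hw
      exact ⟨⟨b, hb⟩, hbw⟩
  rw [← e, ← MulAction.index_stabilizer]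
  exact Subgroup.index_dvd_card _

/-- three groups of all transvections with non-concurrent axes generate `Aut(V)` -/
theorem eq_top [Finite V] (hs : IsSimpleGroup (MulAut V)) (hsq : ∀ x : V, x * x = 1) (hc : Nat.card V = 8) {a b c : V}
    (hf : Frame a b c) {B : Subgroup (MulAut V)}
    (h1 : ∀ h, (h = 1 ∨ h = a ∨ h = b ∨ h = a * b) → ∃ σ ∈ B, σ a = a ∧ σ b = b ∧ σ c = c * h)
    (h2 : ∀ h, (h = 1 ∨ h = a ∨ h = c ∨ h = a * c) → ∃ σ ∈ B, σ a = a ∧ σ c = c ∧ σ b = b * h)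
    (h3 : ∀ h, (h = 1 ∨ h = c ∨ h = b ∨ h = c * b) → ∃ σ ∈ B, σ c = c ∧ σ b = b ∧ σ a = a * h) : B = ⊤ := by
  have hco := SmallSimple.S1000.FrameAut.comm_of_sq hsq
  have h168 := card_mulAut hsq hc
  -- 7 divides `|B|`
  have h7 : 7 ∣ Nat.card B := by
    have e : ({w : V | w ≠ 1}).ncard = 7 := by
      have h4 : ({w : V | w ≠ 1}) = ({1} : Set V)ᶜ := rfl
      have h5 := Set.ncard_add_ncard_compl ({1} : Set V)
      rw [Set.ncard_singleton, hc] at h5
      rw [h4]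
      omega
    rw [← e]
    refine dvd_card (v := a * b * c) (fun w hw => ?_) (fun σ _ h => ?_)
    · rcases hf.cases hsq hc w with rfl | rfl | rfl | rfl | rfl | rfl | rfl | rfl
      · exact absurd rfl hw
      · obtain ⟨σ, hσ, e1, e2, e3⟩ := h3 (c * b) (by simp)
        refine ⟨σ, hσ, ?_⟩
        rw [map_mul, map_mul, e1, e2, e3, mul_assoc, hco b c, mul_assoc, hsq, mul_one]
      · obtain ⟨σ, hσ, e1, e2, e3⟩ := h2 (a * c) (by simp)
        refine ⟨σ, hσ, ?_⟩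
        rw [map_mul, map_mul, e1, e2, e3]
        calc a * (w * (a * c)) * c = a * w * a * (c * c) := by group
          _ = w * (a * a) := by rw [hsq, mul_one, hco a w, mul_assoc]
          _ = w := by rw [hsq, mul_one]
      · obtain ⟨σ, hσ, e1, e2, e3⟩ := h2 c (by simp)
        refine ⟨σ, hσ, ?_⟩
        rw [map_mul, map_mul, e1, e2, e3]
        calc a * (b * c) * c = a * b * (c * c) := by group
          _ = a * b := by rw [hsq, mul_one]
      · obtain ⟨σ, hσ, e1, e2, e3⟩ := h1 (a * b) (by simp)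
        refine ⟨σ, hσ, ?_⟩
        rw [map_mul, map_mul, e1, e2, e3, ← mul_assoc, hco (a * b) w, mul_assoc, hsq, mul_one]
      · obtain ⟨σ, hσ, e1, e2, e3⟩ := h1 b (by simp)
        refine ⟨σ, hσ, ?_⟩
        rw [map_mul, map_mul, e1, e2, e3]
        calc a * b * (c * b) = a * b * (b * c) := by rw [hco c b]
          _ = a * (b * b) * c := by group
          _ = a * c := by rw [hsq, mul_one]
      · obtain ⟨σ, hσ, e1, e2, e3⟩ := h2 a (by simp)
        refine ⟨σ, hσ, ?_⟩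
        rw [map_mul, map_mul, e1, e2, e3]
        calc a * (b * a) * c = a * (a * b) * c := by rw [hco b a]
          _ = (a * a) * b * c := by group
          _ = b * c := by rw [hsq, one_mul]
      · exact ⟨1, one_mem _, rfl⟩
    · rw [← map_one σ] at h
      have h4 := σ.injective h
      have h5 : c = a * b := by
        calc c = (a * b)⁻¹ * (a * b * c) := by group
          _ = (a * b)⁻¹ := by rw [h4, mul_one]
          _ = a * b := inv_eq_of_mul_eq_one_left (hsq _)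
      exact hf.cab h5
  -- 4 divides `|B|`
  have h4 : 4 ∣ Nat.card B := by
    let B' : Subgroup (MulAut V) :=
      { carrier := {σ | σ ∈ B ∧ σ a = a ∧ σ b = b}
        mul_mem' := fun {σ τ} hσ hτ => ⟨mul_mem hσ.1 hτ.1, by rw [MulAut.mul_apply, hτ.2.1, hσ.2.1],
          by rw [MulAut.mul_apply, hτ.2.2, hσ.2.2]⟩
        one_mem' := ⟨one_mem _, rfl, rfl⟩
        inv_mem' := fun {σ} hσ => ⟨inv_mem hσ.1,
          σ.injective ((MulAut.apply_inv_self _ σ a).trans hσ.2.1.symm),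
          σ.injective ((MulAut.apply_inv_self _ σ b).trans hσ.2.2.symm)⟩ }
    have hB' : B' ≤ B := fun σ hσ => hσ.1
    refine dvd_trans ?_ (Subgroup.card_dvd_of_le hB')
    let s : Set V := {w | w ≠ 1 ∧ w ≠ a ∧ w ≠ b ∧ w ≠ a * b}
    have e : s.ncard = 4 := by
      have h5 : sᶜ = {1, a, b, a * b} := by
        ext w
        simp only [s, Set.mem_compl_iff, Set.mem_ofPred_eq, Set.mem_insert_iff, Set.mem_singleton_iff]
        tauto
      have h6 := Set.ncard_add_ncard_compl s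
      have hab : a * b ≠ b := fun h => hf.a1 (mul_eq_right.1 h)
      have hab' : a * b ≠ a := fun h => hf.b1 (mul_eq_left.1 h)
      have hab1 : a * b ≠ 1 := fun h => hf.ba (by
        rw [← inv_eq_of_mul_eq_one_left h]; exact (inv_eq_of_mul_eq_one_left (hsq b)).symm)
      have h7 : ({1, a, b, a * b} : Set V).ncard = 4 := by
        rw [Set.ncard_insert_of_notMem, Set.ncard_insert_of_notMem, Set.ncard_pair hab.symm]
        · simp only [Set.mem_insert_iff, Set.mem_singleton_iff, not_or]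
          exact ⟨hf.ba.symm, hab'.symm⟩
        · simp only [Set.mem_insert_iff, Set.mem_singleton_iff, not_or]
          exact ⟨hf.a1.symm, hf.b1.symm, hab1.symm⟩
      rw [h5, h7, hc] at h6
      omega
    rw [← e]
    refine dvd_card (v := c) (fun w hw => ?_) (fun σ hσ => ?_)
    · obtain ⟨w1, w2, w3, w4⟩ := hw
      have key : ∀ h, (h = 1 ∨ h = a ∨ h = b ∨ h = a * b) → ∃ σ ∈ B', σ c = c * h := fun h hh => by
        obtain ⟨σ, hσ, e1, e2, e3⟩ := h1 h hh
        exact ⟨σ, ⟨hσ, e1, e2⟩, e3⟩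
      rcases hf.cases hsq hc w with rfl | rfl | rfl | rfl | rfl | rfl | rfl | rfl
      · exact absurd rfl w1
      · exact absurd rfl w2
      · exact absurd rfl w3
      · exact absurd rfl w4
      · obtain ⟨σ, hσ, h⟩ := key 1 (by simp)
        exact ⟨σ, hσ, by rw [h, mul_one]⟩
      · obtain ⟨σ, hσ, h⟩ := key a (by simp)
        exact ⟨σ, hσ, by rw [h, hco]⟩
      · obtain ⟨σ, hσ, h⟩ := key b (by simp)
        exact ⟨σ, hσ, by rw [h, hco]⟩
      · obtain ⟨σ, hσ, h⟩ := key (a * b) (by simp)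
        exact ⟨σ, hσ, by rw [h, hco]⟩
    · obtain ⟨-, ha, hb⟩ := hσ
      refine ⟨fun h => ?_, fun h => ?_, fun h => ?_, fun h => ?_⟩
      · exact hf.c1 (σ.injective (h.trans (map_one σ).symm))
      · exact hf.ca (σ.injective (h.trans ha.symm))
      · exact hf.cb (σ.injective (h.trans hb.symm))
      · exact hf.cab (σ.injective (by rw [h, map_mul, ha, hb]))
  have h28 : 28 ∣ Nat.card B := Nat.Coprime.mul_dvd_of_dvd_of_dvd (by norm_num : Nat.Coprime 4 7) h4 h7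
  by_contra hne
  have h32 : FFThree.L32 (MulAut V) := COneSeven.l32 hs h168
  refine EN.S7Grp.not_index_le h32 hne ?_
  have h5 := B.card_mul_index
  rw [h168] at h5
  obtain ⟨k, hk⟩ := h28
  rw [hk] at h5
  refine ⟨k, ?_⟩
  have h6 : 28 * (B.index * k) = 28 * 6 := by rw [← mul_assoc, mul_comm 28 B.index, mul_assoc, mul_comm B.index, h5]
  omega

end gen

/-! ### planes -/

section planes

variable {G : Type u} [Group G] [Finite G]

/-- three planes of an elementary abelian group of order 8 with trivial intersection -/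
theorem planes {N A₁ A₂ A₃ : Subgroup G} (hN : Nat.card N = 8) (hsq : ∀ n ∈ N, n * n = 1) (h1 : A₁ ≤ N) (h2 : A₂ ≤ N)
    (h3 : A₃ ≤ N) (c1 : Nat.card A₁ = 4) (c2 : Nat.card A₂ = 4) (c3 : Nat.card A₃ = 4)
    (h : ∀ n ∈ A₁, n ∈ A₂ → n ∈ A₃ → n = 1) :
    A₁ ⊔ A₂ = N ∧ A₁ ⊔ A₃ = N ∧ (A₁ ⊓ A₂) ⊔ (A₁ ⊓ A₃) = A₁ := by
  have hn : ∀ X Y : Subgroup G, X ≤ N → Y ≤ N → X ≤ normalizer (Y : Set G) := fun X Y hX hY =>
    le_trans (fun a ha => mem_centralizer_iff.2 fun b hb => comm_of_sq hsq (hY hb) (hX ha))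
      (centralizer_le_normalizer _)
  have e12 := T1Tools.card_sup_mul (hn A₂ A₁ h2 h1)
  have e13 := T1Tools.card_sup_mul (hn A₃ A₁ h3 h1)
  have e := T1Tools.card_sup_mul (hn (A₁ ⊓ A₃) (A₁ ⊓ A₂) (inf_le_left.trans h1) (inf_le_left.trans h1))
  have b1 : (A₁ ⊓ A₂) ⊓ (A₁ ⊓ A₃) = ⊥ := by
    rw [eq_bot_iff]
    rintro n ⟨⟨hn1, hn2⟩, -, hn3⟩
    exact mem_bot.2 (h n hn1 hn2 hn3)
  rw [b1, Subgroup.card_bot, mul_one] at e
  rw [c1, c2] at e12
  rw [c1, c3] at e13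
  have l12 : Nat.card (A₁ ⊔ A₂ : Subgroup G) ≤ 8 := hN ▸ Subgroup.card_le_of_le (sup_le h1 h2)
  have l13 : Nat.card (A₁ ⊔ A₃ : Subgroup G) ≤ 8 := hN ▸ Subgroup.card_le_of_le (sup_le h1 h3)
  have l : Nat.card ((A₁ ⊓ A₂) ⊔ (A₁ ⊓ A₃) : Subgroup G) ≤ 4 :=
    c1 ▸ Subgroup.card_le_of_le (sup_le inf_le_left inf_le_left)
  have m12 : 2 ≤ Nat.card (A₁ ⊓ A₂ : Subgroup G) := by
    by_contra hc
    have : Nat.card (A₁ ⊓ A₂ : Subgroup G) ≤ 1 := by omega
    nlinarith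
  have m13 : 2 ≤ Nat.card (A₁ ⊓ A₃ : Subgroup G) := by
    by_contra hc
    have : Nat.card (A₁ ⊓ A₃ : Subgroup G) ≤ 1 := by omega
    nlinarith
  have k12 : Nat.card (A₁ ⊓ A₂ : Subgroup G) = 2 := by nlinarith
  have k13 : Nat.card (A₁ ⊓ A₃ : Subgroup G) = 2 := by nlinarith
  refine ⟨?_, ?_, ?_⟩
  · apply Subgroup.eq_of_le_of_card_ge (sup_le h1 h2)
    rw [hN]; rw [k12] at e12; omega
  · apply Subgroup.eq_of_le_of_card_ge (sup_le h1 h3)
    rw [hN]; rw [k13] at e13; omega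
  · apply Subgroup.eq_of_le_of_card_ge (sup_le inf_le_left inf_le_left)
    rw [e, k12, k13, c1]

end planes

/-! ### the configuration -/

section dat

variable {G : Type u} [Group G] [Finite G] {S : Sylow 2 G} {T L O₁ O A : Subgroup G} {ξ x : G} {p : Fin 3 → G}
  {N : Fin 3 → Subgroup G}

theorem jj_eq (h : Tr S T L O₁ O A ξ x p N) : jj T = jj (S : Subgroup G) := by
  obtain ⟨L₀, hl⟩ := h.lev
  exact hl.jj_eq

theorem T_two (h : Tr S T L O₁ O A ξ x p N) : IsPGroup 2 T := by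
  rw [h.T_eq]
  exact S.isPGroup'.to_le inf_le_left

theorem X_le (h : Tr S T L O₁ O A ξ x p N) : L ⊔ T ≤ normalizer (L : Set G) := sup_le h.L_le_M h.T_le_M

theorem T_max (h : Tr S T L O₁ O A ξ x p N) {Q : Subgroup G} (hQ : Q ≤ normalizer (L : Set G)) (hQ2 : IsPGroup 2 Q)
    (hTQ : T ≤ Q) : Q = T := by
  have hf : Fact (Nat.Prime 2) := ⟨Nat.prime_two⟩
  have h1 : T.relIndex Q ∣ T.relIndex (normalizer (L : Set G)) := by
    rw [← Subgroup.relIndex_mul_relIndex T Q _ hTQ hQ]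
    exact Dvd.intro _ rfl
  obtain ⟨n, hn⟩ := (hQ2.index (T.subgroupOf Q))
  have h2 : T.relIndex Q = 2 ^ n := hn
  rcases Nat.eq_zero_or_pos n with rfl | hpos
  · rw [pow_zero, relIndex_eq_one] at h2
    exact le_antisymm h2 hTQ
  · exfalso
    apply h.syl
    refine dvd_trans ?_ h1
    rw [h2]
    exact dvd_pow_self 2 hpos.ne'

/-- `C_{LT}(N i)` is a 2-group -/
theorem isPGroup_cent (h : Tr S T L O₁ O A ξ x p N) (i : Fin 3) :
    IsPGroup 2 ((L ⊔ T) ⊓ centralizer (N i : Set G) : Subgroup G) := by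
  have hn : (L.subgroupOf (L ⊔ T)).Normal := normal_subgroupOf_of_le_normalizer (X_le h)
  have hq : IsPGroup 2 ((L ⊔ T : Subgroup G) ⧸ L.subgroupOf (L ⊔ T)) := by
    refine (T_two h).of_surjective ((QuotientGroup.mk' (L.subgroupOf (L ⊔ T))).comp
      (Subgroup.inclusion (le_sup_right : T ≤ L ⊔ T))) ?_
    intro x
    obtain ⟨⟨x, hx⟩, rfl⟩ := QuotientGroup.mk'_surjective _ x
    obtain ⟨t, ht, l, hl, rfl⟩ := MinSimple.FFBlock.mem_sup_of_le_normalizer h.T_le_M (by rwa [sup_comm] at hx)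
    refine ⟨⟨t, ht⟩, ?_⟩
    rw [MonoidHom.comp_apply, QuotientGroup.mk'_eq_mk']
    exact ⟨⟨l, mem_sup_left hl⟩, hl, rfl⟩
  have h2 : IsPGroup 2 (ZN.o2 L) := ZN.Block.o2_isPGroup L
  rintro ⟨x, hx, hxc⟩
  obtain ⟨k, hk⟩ := hq (QuotientGroup.mk' _ ⟨x, hx⟩)
  rw [← map_pow, ← MonoidHom.mem_ker, QuotientGroup.ker_mk'] at hk
  have h3 : x ^ 2 ^ k ∈ ZN.o2 L := by
    rw [← (h.np i).faith]
    exact ⟨hk, pow_mem hxc _⟩
  obtain ⟨m, hm⟩ := h2 ⟨_, h3⟩
  refine ⟨k + m, Subtype.ext ?_⟩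
  have h4 : (x ^ 2 ^ k) ^ 2 ^ m = 1 := congrArg Subtype.val hm
  show x ^ 2 ^ (k + m) = 1
  rw [pow_add, pow_mul, h4]

/-- `C_T(W) = C_{LT}(N i)` -/
theorem q_eq (h : Tr S T L O₁ O A ξ x p N) (i : Fin 3) :
    T ⊓ centralizer (ww N : Set G) = (L ⊔ T) ⊓ centralizer (N i : Set G) := by
  have hf : Fact (Nat.Prime 2) := ⟨Nat.prime_two⟩
  have hX := X_le h
  apply le_antisymm
  · exact inf_le_inf le_sup_right (centralizer_le (h.N_le_ww i))
  · refine le_inf ?_ fun g hg => mem_centralizer_iff.2 fun w hw =>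
      (h.cent_ww (hX hg.1) (fun n hn => (mem_centralizer_iff.1 hg.2 n hn).symm) hw).symm
    have h1 : T ≤ normalizer (((L ⊔ T) ⊓ centralizer (N i : Set G) : Subgroup G) : Set G) := by
      intro t ht
      have ht' : t ∈ L ⊔ T := mem_sup_right ht
      rw [mem_normalizer_iff_cj, cj_inf, cj_centralizer, cj_eq_of_mem_normalizer ((h.np i).norm (hX ht')),
        cj_eq_of_mem_normalizer (le_normalizer ht')]
    have h2 : IsPGroup 2 (T ⊔ ((L ⊔ T) ⊓ centralizer (N i : Set G)) : Subgroup G) :=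
      IsPGroup.to_sup_of_normal_right' (T_two h) (isPGroup_cent h i) h1
    have h3 := T_max h (sup_le h.T_le_M (inf_le_left.trans hX)) h2 le_sup_left
    exact le_trans le_sup_right (le_of_eq h3)

theorem LQ (h : Tr S T L O₁ O A ξ x p N) :
    L ≤ normalizer ((T ⊓ centralizer (ww N : Set G) : Subgroup G) : Set G) := by
  rw [q_eq h 0]
  intro l hl
  have hl' : l ∈ L ⊔ T := mem_sup_left hl
  rw [mem_normalizer_iff_cj, cj_inf, cj_centralizer, cj_eq_of_mem_normalizer ((h.np 0).norm (X_le h hl')),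
    cj_eq_of_mem_normalizer (le_normalizer hl')]

theorem ww_le_T (h : Tr S T L O₁ O A ξ x p N) : ww N ≤ T := by
  have hf : Fact (Nat.Prime 2) := ⟨Nat.prime_two⟩
  have h1 := T_max h (sup_le h.T_le_M (?_ : ww N ≤ _)) (IsPGroup.to_sup_of_normal_right' (T_two h) h.ww_two
    (h.T_le_M.trans h.norm_ww)) le_sup_left
  · exact le_trans le_sup_right (le_of_eq h1)
  · have h2 : ww N ≤ normalizer (ww N : Set G) := le_normalizer
    rwa [h.norm_ww_eq] at h2

/-- `C_{N i}(L) = 1` -/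
theorem fixed (h : Tr S T L O₁ O A ξ x p N) {i : Fin 3} {n : G} (hn : n ∈ N i) (hL : n ∈ centralizer (L : Set G)) :
    n = 1 := by
  rcases ((h.np i).mem n).1 hn with h1 | ⟨l, hl, rfl⟩
  · exact h1
  · exfalso
    have e : l * p i * l⁻¹ = p i := by
      have h2 := mem_centralizer_iff.1 hL l hl
      calc l * p i * l⁻¹ = l⁻¹ * (l * (l * p i * l⁻¹)) := by group
        _ = l⁻¹ * ((l * p i * l⁻¹) * l) := by rw [h2]
        _ = p i := by group
    rw [e] at hL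
    exact (h.np i).xp (mem_centralizer_iff.1 hL ξ h.ξL)

/-- the conditions on `a, b` of a frame -/
theorem ncard_four {V : Type*} [Group V] {a b : V} (ha : a ≠ 1) (hb : b ≠ 1) (hba : b ≠ a) (hbb : b * b = 1) :
    ({1, a, b, a * b} : Set V).ncard = 4 := by
  have hab : a * b ≠ b := fun h => ha (mul_eq_right.1 h)
  have hab' : a * b ≠ a := fun h => hb (mul_eq_left.1 h)
  have hab1 : a * b ≠ 1 := fun h => hba (by
    rw [← inv_eq_of_mul_eq_one_left h]; exact (inv_eq_of_mul_eq_one_left hbb).symm)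
  rw [Set.ncard_insert_of_notMem, Set.ncard_insert_of_notMem, Set.ncard_pair hab.symm]
  · simp only [Set.mem_insert_iff, Set.mem_singleton_iff, not_or]
    exact ⟨hba.symm, hab'.symm⟩
  · simp only [Set.mem_insert_iff, Set.mem_singleton_iff, not_or]
    exact ⟨ha.symm, hb.symm, hab1.symm⟩

theorem mem_plane (h : Tr S T L O₁ O A ξ x p N) {i : Fin 3} {n : G} :
    n ∈ N i ⊓ centralizer (jj T : Set G) ↔
      n = 1 ∨ n = p i ∨ n = ξ * p i * ξ⁻¹ ∨ n = p i * (ξ * p i * ξ⁻¹) := by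
  have hξN : ξ * p i * ξ⁻¹ ∈ N i := h.conj_N (h.L_le_M h.ξL) (h.p_N i)
  rw [jj_eq h]
  constructor
  · rintro ⟨hn, hc⟩
    exact ((h.np i).plane n hn).1 fun j hj => mem_centralizer_iff.1 hc j hj
  · intro hn
    have hnN : n ∈ N i := by
      rcases hn with rfl | rfl | rfl | rfl
      · exact one_mem _
      · exact h.p_N i
      · exact hξN
      · exact mul_mem (h.p_N i) hξN
    exact ⟨hnN, mem_centralizer_iff.2 fun j hj => ((h.np i).plane n hnN).2 hn j hj⟩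

theorem b_ne (h : Tr S T L O₁ O A ξ x p N) (i : Fin 3) : ξ * p i * ξ⁻¹ ≠ 1 ∧ ξ * p i * ξ⁻¹ ≠ p i := by
  refine ⟨fun e => h.p_ne i ?_, fun e => (h.np i).xp ?_⟩
  · calc p i = ξ⁻¹ * (ξ * p i * ξ⁻¹) * ξ := by group
      _ = 1 := by rw [e]; group
  · calc ξ * p i = (ξ * p i * ξ⁻¹) * ξ := by group
      _ = p i * ξ := by rw [e]

theorem plane_card (h : Tr S T L O₁ O A ξ x p N) (i : Fin 3) :
    Nat.card (N i ⊓ centralizer (jj T : Set G) : Subgroup G) = 4 := by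
  have e : ((N i ⊓ centralizer (jj T : Set G) : Subgroup G) : Set G) =
      {1, p i, ξ * p i * ξ⁻¹, p i * (ξ * p i * ξ⁻¹)} := by
    ext n
    rw [SetLike.mem_coe, mem_plane h]
    rfl
  have h1 := b_ne h i
  have h2 := ncard_four (h.p_ne i) h1.1 h1.2
    ((h.np i).sq _ (h.conj_N (h.L_le_M h.ξL) (h.p_N i)))
  rw [← e] at h2
  exact h2

/-! ### the three conjugates -/

/-- `P = ⟨J, J₂, J₃⟩` -/
abbrev P3 (T : Subgroup G) (l₂ l₃ : G) : Subgroup G := jj T ⊔ cj l₂ (jj T) ⊔ cj l₃ (jj T)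

theorem jX : jj T ≤ L ⊔ T := (jj_le T).trans le_sup_right

theorem P3_le {l₂ l₃ : G} (h2 : l₂ ∈ L) (h3 : l₃ ∈ L) : P3 T l₂ l₃ ≤ L ⊔ T := by
  have hc : ∀ l ∈ L, cj l (jj T) ≤ L ⊔ T := by
    intro l hl g hg
    rw [mem_cj] at hg
    have e : g = l * (l⁻¹ * g * l) * l⁻¹ := by group
    rw [e]
    have hl' : l ∈ L ⊔ T := mem_sup_left hl
    exact mul_mem (mul_mem hl' (jX hg)) (inv_mem hl')
  exact sup_le (sup_le jX (hc _ h2)) (hc _ h3)

/-- `⟨J, J₂, J₃⟩` induces `Aut(N 0)` -/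
theorem gen_of (h : Tr S T L O₁ O A ξ x p N) {l₂ l₃ : G} (hl2 : l₂ ∈ L) (hl3 : l₃ ∈ L)
    (hact : ∀ g ∈ L, ∃ q ∈ P3 T l₂ l₃, q⁻¹ * g ∈ centralizer (N 0 : Set G)) : L ≤ P3 T l₂ l₃ := by
  obtain ⟨P, hP⟩ : ∃ P, P = P3 T l₂ l₃ := ⟨_, rfl⟩
  rw [← hP] at hact ⊢
  have hPX : P ≤ L ⊔ T := by rw [hP]; exact P3_le hl2 hl3
  have hJP : jj T ≤ P := by rw [hP]; exact le_sup_left.trans le_sup_left
  have hJn : T ≤ normalizer (jj T : Set G) := le_normalizer.trans (ZN.normalizer_le_normalizer_jj T)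
  -- conjugates of `J`
  have hcj : ∀ g ∈ L, ∀ j ∈ jj T, g * j * g⁻¹ ∈ P := by
    intro g hg j hj
    obtain ⟨q, hq, hc⟩ := hact g hg
    have h1 : q⁻¹ * g ∈ (L ⊔ T) ⊓ centralizer (N 0 : Set G) :=
      ⟨(L ⊔ T).mul_mem ((L ⊔ T).inv_mem (hPX hq)) (mem_sup_left hg), hc⟩
    rw [← q_eq h 0] at h1
    have h2 := (mem_normalizer_iff.1 (hJn h1.1) j).1 hj
    have e : g * j * g⁻¹ = q * ((q⁻¹ * g) * j * (q⁻¹ * g)⁻¹) * q⁻¹ := by group
    rw [e]
    exact mul_mem (mul_mem hq (hJP h2)) (inv_mem hq)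
  have h1 : ⁅L, jj (S : Subgroup G)⁆ ≤ P := by
    rw [Subgroup.commutator_le]
    intro g hg j hj
    rw [← jj_eq h] at hj
    have e : ⁅g, j⁆ = (g * j * g⁻¹) * j⁻¹ := by rw [commutatorElement_def]
    rw [e]
    exact mul_mem (hcj g hg j hj) (inv_mem (hJP hj))
  have h2 : ⁅L, jj (S : Subgroup G)⁆ ≤ L := by
    rw [Subgroup.commutator_le]
    intro g hg j hj
    have e : ⁅g, j⁆ = g * (j * g⁻¹ * j⁻¹) := by rw [commutatorElement_def]; group
    rw [e]
    exact mul_mem hg ((mem_normalizer_iff.1 (h.sev.norm hj) _).1 (inv_mem hg))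
  have h3 : L ≤ normalizer ((⁅L, jj (S : Subgroup G)⁆ : Subgroup G) : Set G) :=
    Lib.CoprimeCommutator.left_le_normalizer_commutator _ _
  have h4 : ¬ IsPGroup 2 (⁅L, jj (S : Subgroup G)⁆ : Subgroup G) := fun h5 =>
    h.sev.moved (ZN.Block.le_o2 h5 h2 h3)
  rw [← L32.eq_of_normal h.sev.perf h.sev.simp h2 h3 h4]
  exact h1

/-- `J` induces all transvections with axis `H = {1, a, b, ab}` -/
theorem exists_tr (h : Tr S T L O₁ O A ξ x p N) {i : Fin 3} {c : G} (hc : c ∈ N i)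
    (hcH : c ∉ centralizer (jj T : Set G)) {y : G} (hy : y ∈ N i ⊓ centralizer (jj T : Set G)) :
    ∃ g ∈ jj T, g * c * g⁻¹ = c * y := by
  rw [jj_eq h] at hcH hy ⊢
  obtain ⟨a, ha, h1⟩ := (h.np i).tr y hy.1 fun j hj => mem_centralizer_iff.1 hy.2 j hj
  refine ⟨a, le_jj h.A_mem ha, ?_⟩
  rw [h1 c hc fun h2 => hcH (mem_centralizer_iff.2 h2)]
  exact h.comm hy.1 hc

/-- **the three conjugates of `J`** -/
theorem exists_gen (h : Tr S T L O₁ O A ξ x p N) : ∃ l₂ ∈ L, ∃ l₃ ∈ L, L ≤ P3 T l₂ l₃ := by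
  have hX := X_le h
  have hXN : L ⊔ T ≤ normalizer (N 0 : Set G) := hX.trans (h.np 0).norm
  have hLN : L ≤ normalizer (N 0 : Set G) := h.L_le_M.trans (h.np 0).norm
  have hsq : ∀ v : N 0, v * v = 1 := fun v => Subtype.ext ((h.np 0).sq v v.2)
  have hc8 : Nat.card (N 0) = 8 := (h.np 0).card
  have hξN : ξ * p 0 * ξ⁻¹ ∈ N 0 := h.conj_N (h.L_le_M h.ξL) (h.p_N 0)
  obtain ⟨a, ha⟩ : ∃ a : N 0, a = ⟨p 0, h.p_N 0⟩ := ⟨_, rfl⟩
  obtain ⟨b, hb⟩ : ∃ b : N 0, b = ⟨ξ * p 0 * ξ⁻¹, hξN⟩ := ⟨_, rfl⟩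
  have hav : (a : G) = p 0 := by rw [ha]
  have hbv : (b : G) = ξ * p 0 * ξ⁻¹ := by rw [hb]
  have ha1 : a ≠ 1 := fun e => h.p_ne 0 (by rw [← hav, e]; rfl)
  have hb1 : b ≠ 1 := fun e => (b_ne h 0).1 (by rw [← hbv, e]; rfl)
  have hba : b ≠ a := fun e => (b_ne h 0).2 (by rw [← hbv, e, hav])
  obtain ⟨c, hf⟩ := exists_frame_of_pair hc8 ha1 hb1 hba
  have hH : ∀ v : N 0, (v : G) ∈ centralizer (jj T : Set G) ↔ v = 1 ∨ v = a ∨ v = b ∨ v = a * b := by
    intro v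
    have h1 := mem_plane h (i := 0) (n := (v : G))
    constructor
    · intro h2
      rcases h1.1 ⟨v.2, h2⟩ with h3 | h3 | h3 | h3
      · exact Or.inl (Subtype.ext h3)
      · exact Or.inr (Or.inl (Subtype.ext (h3.trans hav.symm)))
      · exact Or.inr (Or.inr (Or.inl (Subtype.ext (h3.trans hbv.symm))))
      · refine Or.inr (Or.inr (Or.inr (Subtype.ext (h3.trans ?_))))
        rw [← hbv, ← hav]; rfl
    · intro h2
      refine (h1.2 ?_).2
      rcases h2 with rfl | rfl | rfl | rfl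
      · exact Or.inl rfl
      · exact Or.inr (Or.inl hav)
      · exact Or.inr (Or.inr (Or.inl hbv))
      · refine Or.inr (Or.inr (Or.inr ?_))
        rw [← hbv, ← hav]; rfl
  have hcH : (c : G) ∉ centralizer (jj T : Set G) := by
    intro h1
    rcases (hH c).1 h1 with h2 | h2 | h2 | h2
    · exact hf.c1 h2
    · exact hf.ca h2
    · exact hf.cb h2
    · exact hf.cab h2
  have hco := SmallSimple.S1000.FrameAut.comm_of_sq hsq
  -- `φ₂ : a ↦ a, b ↔ c`, `φ₃ : b ↦ b, a ↔ c`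
  have hf2 : Frame a c b := ⟨hf.a1, hf.c1, hf.ca, hf.b1, hf.ba, hf.cb.symm, fun e => hf.cab (by
    rw [e, ← mul_assoc, hsq, one_mul])⟩
  have hf3 : Frame c b a := ⟨hf.c1, hf.b1, hf.cb.symm, hf.a1, hf.ca.symm, hf.ba.symm, fun e => hf.cab (by
    rw [e, mul_assoc, hsq, mul_one])⟩
  obtain ⟨φ₂, e2a, e2b, e2c⟩ := exists_aut hsq hc8 hf hf2
  obtain ⟨φ₃, e3a, e3b, e3c⟩ := exists_aut hsq hc8 hf hf3
  obtain ⟨l₂, hl2, hφ2⟩ := (h.np 0).full φ₂
  obtain ⟨l₃, hl3, hφ3⟩ := (h.np 0).full φ₃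
  refine ⟨l₂, hl2, l₃, hl3, gen_of h hl2 hl3 ?_⟩
  obtain ⟨θ, hθ⟩ : ∃ θ, θ = act (N 0) (L ⊔ T) hXN := ⟨_, rfl⟩
  have hθa : ∀ (g : (L ⊔ T : Subgroup G)) (n : N 0), ((θ g n : N 0) : G) = g * n * (g : G)⁻¹ := by
    intro g n; rw [hθ]; rfl
  obtain ⟨B, hB⟩ : ∃ B, B = ((P3 T l₂ l₃).subgroupOf (L ⊔ T)).map θ := ⟨_, rfl⟩
  have hmemB : ∀ g (hg : g ∈ P3 T l₂ l₃), θ ⟨g, P3_le hl2 hl3 hg⟩ ∈ B := by
    intro g hg
    rw [hB]
    exact ⟨⟨g, P3_le hl2 hl3 hg⟩, hg, rfl⟩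
  -- the transvections of `J`
  have hJ : ∀ y, (y = 1 ∨ y = a ∨ y = b ∨ y = a * b) → ∃ g, ∃ hg : g ∈ jj T,
      θ ⟨g, jX hg⟩ a = a ∧ θ ⟨g, jX hg⟩ b = b ∧ θ ⟨g, jX hg⟩ c = c * y := by
    intro y hy
    obtain ⟨g, hg, h1⟩ := exists_tr h c.2 hcH ⟨y.2, (hH y).2 hy⟩
    refine ⟨g, hg, Subtype.ext ?_, Subtype.ext ?_, Subtype.ext ?_⟩
    · rw [hθa]
      have h2 := mem_centralizer_iff.1 ((hH a).2 (by simp)) g hg
      show g * (a : G) * g⁻¹ = a
      rw [h2, mul_inv_cancel_right]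
    · rw [hθa]
      have h2 := mem_centralizer_iff.1 ((hH b).2 (by simp)) g hg
      show g * (b : G) * g⁻¹ = b
      rw [h2, mul_inv_cancel_right]
    · rw [hθa]; exact h1
  have hcon : ∀ (l : G) (hl : l ∈ L) (g : G) (hg : g ∈ jj T), l * g * l⁻¹ ∈ cj l (jj T) := fun l hl g hg => by
    rw [mem_cj]
    have e : l⁻¹ * (l * g * l⁻¹) * l = g := by group
    rwa [e]
  have htop : B = ⊤ := by
    refine eq_top (simple_aut h.sev.simp h.sev.card hLN hc8 (h.np 0).sq (h.np 0).full).1 hsq hc8 hf ?_ ?_ ?_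
    · intro y hy
      obtain ⟨g, hg, k1, k2, k3⟩ := hJ y hy
      exact ⟨_, hmemB g (le_sup_left (a := jj T ⊔ _) (le_sup_left (a := jj T) hg)), k1, k2, k3⟩
    · intro y hy
      obtain ⟨y', rfl⟩ := φ₂.surjective y
      have hy' : y' = 1 ∨ y' = a ∨ y' = b ∨ y' = a * b := by
        rcases hy with h1 | h1 | h1 | h1
        · exact Or.inl (φ₂.injective (h1.trans (map_one _).symm))
        · exact Or.inr (Or.inl (φ₂.injective (h1.trans e2a.symm)))
        · exact Or.inr (Or.inr (Or.inl (φ₂.injective (h1.trans e2b.symm))))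
        · exact Or.inr (Or.inr (Or.inr (φ₂.injective (h1.trans (by rw [map_mul, e2a, e2b])))))
      obtain ⟨g, hg, k1, k2, k3⟩ := hJ y' hy'
      have hgP : l₂ * g * l₂⁻¹ ∈ P3 T l₂ l₃ :=
        le_sup_left (a := jj T ⊔ cj l₂ (jj T)) (le_sup_right (a := jj T) (hcon l₂ hl2 g hg))
      have key : ∀ v w : N 0, θ ⟨g, jX hg⟩ v = w → θ ⟨l₂ * g * l₂⁻¹, P3_le hl2 hl3 hgP⟩ (φ₂ v) = φ₂ w := by
        intro v w hvw
        apply Subtype.ext
        rw [hθa, hφ2 v, hφ2 w]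
        have h2 := hθa ⟨g, jX hg⟩ v
        rw [hvw] at h2
        rw [h2]
        show l₂ * g * l₂⁻¹ * (l₂ * v * l₂⁻¹) * (l₂ * g * l₂⁻¹)⁻¹ = l₂ * (g * v * g⁻¹) * l₂⁻¹
        group
      refine ⟨_, hmemB _ hgP, ?_, ?_, ?_⟩
      · have := key a a k1
        rwa [e2a] at this
      · have := key b b k2
        rwa [e2b] at this
      · have := key c _ k3
        rwa [map_mul, e2c] at this
    · intro y hy
      obtain ⟨y', rfl⟩ := φ₃.surjective y
      have hy' : y' = 1 ∨ y' = a ∨ y' = b ∨ y' = a * b := by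
        rcases hy with h1 | h1 | h1 | h1
        · exact Or.inl (φ₃.injective (h1.trans (map_one _).symm))
        · exact Or.inr (Or.inl (φ₃.injective (h1.trans e3a.symm)))
        · exact Or.inr (Or.inr (Or.inl (φ₃.injective (h1.trans e3b.symm))))
        · exact Or.inr (Or.inr (Or.inr (φ₃.injective (h1.trans (by rw [map_mul, e3a, e3b])))))
      obtain ⟨g, hg, k1, k2, k3⟩ := hJ y' hy'
      have hgP : l₃ * g * l₃⁻¹ ∈ P3 T l₂ l₃ :=
        le_sup_right (a := jj T ⊔ cj l₂ (jj T)) (hcon l₃ hl3 g hg)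
      have key : ∀ v w : N 0, θ ⟨g, jX hg⟩ v = w → θ ⟨l₃ * g * l₃⁻¹, P3_le hl2 hl3 hgP⟩ (φ₃ v) = φ₃ w := by
        intro v w hvw
        apply Subtype.ext
        rw [hθa, hφ3 v, hφ3 w]
        have h2 := hθa ⟨g, jX hg⟩ v
        rw [hvw] at h2
        rw [h2]
        show l₃ * g * l₃⁻¹ * (l₃ * v * l₃⁻¹) * (l₃ * g * l₃⁻¹)⁻¹ = l₃ * (g * v * g⁻¹) * l₃⁻¹
        group
      refine ⟨_, hmemB _ hgP, ?_, ?_, ?_⟩
      · have := key a a k1
        rwa [e3a] at this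
      · have := key b b k2
        rwa [e3b] at this
      · have := key c _ k3
        rwa [map_mul, e3c] at this
  intro g hg
  have h1 : θ ⟨g, mem_sup_left hg⟩ ∈ B := by rw [htop]; trivial
  rw [hB] at h1
  obtain ⟨⟨q, hqX⟩, hq, hqe⟩ := h1
  refine ⟨q, hq, mem_centralizer_iff.2 fun n hn => ?_⟩
  have h2 := congrArg (fun φ : MulAut (N 0) => ((φ ⟨n, hn⟩ : N 0) : G)) hqe
  have h3 : q * n * q⁻¹ = g * n * g⁻¹ := by
    have e1 := hθa ⟨q, hqX⟩ ⟨n, hn⟩
    have e2 := hθa ⟨g, mem_sup_left hg⟩ ⟨n, hn⟩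
    exact e1.symm.trans (h2.trans e2)
  calc n * (q⁻¹ * g) = q⁻¹ * (q * n * q⁻¹) * g := by group
    _ = q⁻¹ * g * n := by rw [h3]; group

/-- the planes of `N i` -/
theorem planes_i (h : Tr S T L O₁ O A ξ x p N) {l₂ l₃ : G} (hl2 : l₂ ∈ L) (hl3 : l₃ ∈ L) (hg : L ≤ P3 T l₂ l₃)
    (i : Fin 3) :
    (N i ⊓ centralizer (jj T : Set G)) ⊔ (N i ⊓ centralizer (cj l₂ (jj T) : Set G)) = N i ∧
    (N i ⊓ centralizer (jj T : Set G)) ⊔ (N i ⊓ centralizer (cj l₃ (jj T) : Set G)) = N i ∧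
    ((N i ⊓ centralizer (jj T : Set G)) ⊓ (N i ⊓ centralizer (cj l₂ (jj T) : Set G))) ⊔
      ((N i ⊓ centralizer (jj T : Set G)) ⊓ (N i ⊓ centralizer (cj l₃ (jj T) : Set G))) =
      N i ⊓ centralizer (jj T : Set G) := by
  have hc : ∀ l ∈ L, Nat.card (N i ⊓ centralizer (cj l (jj T) : Set G) : Subgroup G) = 4 := by
    intro l hl
    have e : N i ⊓ centralizer (cj l (jj T) : Set G) = cj l (N i ⊓ centralizer (jj T : Set G)) := by
      rw [cj_inf, cj_centralizer, cj_eq_of_mem_normalizer ((h.np i).norm (h.L_le_M hl))]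
    rw [e, card_cj, plane_card h]
  refine planes (h.np i).card (h.np i).sq inf_le_left inf_le_left inf_le_left (plane_card h i) (hc _ hl2) (hc _ hl3) ?_
  rintro n ⟨hn, h1⟩ ⟨-, h2⟩ ⟨-, h3⟩
  refine fixed h hn ?_
  have h4 : P3 T l₂ l₃ ≤ centralizer ({n} : Set G) := by
    refine sup_le (sup_le ?_ ?_) ?_ <;> intro g hg <;> rw [mem_centralizer_iff] <;> rintro _ rfl
    · exact (mem_centralizer_iff.1 h1 g hg).symm
    · exact (mem_centralizer_iff.1 h2 g hg).symm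
    · exact (mem_centralizer_iff.1 h3 g hg).symm
  exact mem_centralizer_iff.2 fun g hgL => (mem_centralizer_iff.1 (h4 (hg hgL)) n rfl).symm

/-- `C_W(J) = C_{N 0}(J) C_{N 1}(J)` -/
theorem mem_wj (h : Tr S T L O₁ O A ξ x p N) {w : G} (hw : w ∈ ww N ⊓ centralizer (jj T : Set G)) :
    ∃ a ∈ N 0 ⊓ centralizer (jj T : Set G), ∃ b ∈ N 1 ⊓ centralizer (jj T : Set G), w = a * b := by
  obtain ⟨a, ha, b, hb, rfl⟩ := h.mem_ww (i := 0) (j := 1) (by decide) hw.1
  have h1 := fun j (hj : j ∈ jj T) => h.split (i := 0) (j := 1) (by decide) (h.T_le_M (jj_le T hj)) ha hb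
    (mem_centralizer_iff.1 hw.2 j hj)
  exact ⟨a, ⟨ha, mem_centralizer_iff.2 fun j hj => (h1 j hj).1⟩, b,
    ⟨hb, mem_centralizer_iff.2 fun j hj => (h1 j hj).2⟩, rfl⟩

theorem card_ww (h : Tr S T L O₁ O A ξ x p N) : Nat.card (ww N) = 64 := by
  have h1 := T1Tools.card_sup_mul (K := N 0) (H := N 1)
    (le_trans (fun b hb => mem_centralizer_iff.2 fun a ha => h.comm ha hb) (centralizer_le_normalizer _))
  rw [h.inf_eq (by decide), Subgroup.card_bot, mul_one, (h.np 0).card, (h.np 1).card] at h1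
  exact h1

theorem card_wj_le (h : Tr S T L O₁ O A ξ x p N) :
    Nat.card (ww N ⊓ centralizer (jj T : Set G) : Subgroup G) ≤ 16 := by
  have h1 := T1Tools.card_sup_mul (K := N 0 ⊓ centralizer (jj T : Set G)) (H := N 1 ⊓ centralizer (jj T : Set G))
    (le_trans (fun b hb => mem_centralizer_iff.2 fun a ha => h.comm ha.1 hb.1) (centralizer_le_normalizer _))
  rw [plane_card h, plane_card h] at h1
  have h2 : ww N ⊓ centralizer (jj T : Set G) ≤
      (N 0 ⊓ centralizer (jj T : Set G)) ⊔ (N 1 ⊓ centralizer (jj T : Set G)) := by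
    intro w hw
    obtain ⟨a, ha, b, hb, rfl⟩ := mem_wj h hw
    exact mul_mem (mem_sup_left ha) (mem_sup_right hb)
  refine (Subgroup.card_le_of_le h2).trans ?_
  have h3 : 0 < Nat.card ((N 0 ⊓ centralizer (jj T : Set G)) ⊓ (N 1 ⊓ centralizer (jj T : Set G)) : Subgroup G) :=
    Nat.card_pos
  nlinarith

theorem off (h : Tr S T L O₁ O A ξ x p N) {A' : Subgroup G} (hA : A' ∈ AA T)
    (hc : ¬ A' ≤ centralizer (ww N : Set G)) :
    (A' ⊓ centralizer (ww N : Set G)).relIndex A' ≤ (ww N ⊓ centralizer (A' : Set G)).relIndex (ww N) := by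
  obtain ⟨L₀, hl⟩ := h.lev
  have hYW : centralizer (RedX.mod (normalizer (L : Set G)) T : Set G) ≤ centralizer (ww N : Set G) :=
    centralizer_le h.ww_le_mod
  have h1 := (hl.bc.img A' hA).resolve_left fun h2 => hc (h2.trans hYW)
  have h4 := hl.bc.four
  -- left hand side
  have h5 : (A' ⊓ centralizer (ww N : Set G)).relIndex A' ≤ 4 := by
    rw [inf_relIndex_left]
    calc (centralizer (ww N : Set G)).relIndex A' ≤ (centralizer (ww N : Set G)).relIndex (jj T) :=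
          relIndex_le_of_le_right (le_jj hA) (by rw [relIndex]; exact Subgroup.index_ne_zero_of_finite)
      _ ≤ (centralizer (RedX.mod (normalizer (L : Set G)) T : Set G)).relIndex (jj T) :=
          relIndex_le_of_le_left hYW (by rw [relIndex]; exact Subgroup.index_ne_zero_of_finite)
      _ = 4 := by rw [← inf_relIndex_left]; exact h4
  -- right hand side
  have h6 : ww N ⊓ centralizer (A' : Set G) ≤ ww N ⊓ centralizer (jj T : Set G) := by
    refine le_inf inf_le_left fun w hw => ?_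
    have h7 : A' ⊔ (normalizer (L : Set G) ⊓ centralizer (RedX.mod (normalizer (L : Set G)) T : Set G)) ≤
        centralizer ({w} : Set G) := by
      refine sup_le ?_ ?_ <;> intro g hg <;> rw [mem_centralizer_iff] <;> rintro _ rfl
      · exact (mem_centralizer_iff.1 hw.2 g hg).symm
      · exact mem_centralizer_iff.1 (hYW hg.2) _ hw.1
    exact mem_centralizer_iff.2 fun g hg => (mem_centralizer_iff.1 (h7 (h1 hg)) w rfl).symm
  have h7 := Subgroup.card_le_of_le h6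
  have h8 := card_wj_le h
  have h9 := T1Tools.card_mul_relIndex (inf_le_left : ww N ⊓ centralizer (A' : Set G) ≤ ww N)
  rw [card_ww h] at h9
  by_contra hlt
  push Not at hlt
  have h10 : (ww N ⊓ centralizer (A' : Set G)).relIndex (ww N) ≤ 3 := by omega
  have h11 : Nat.card (ww N ⊓ centralizer (A' : Set G) : Subgroup G) ≤ 16 := h7.trans h8
  have h12 := Nat.mul_le_mul h11 h10
  omega

/-- **the input of the coset trick** -/
theorem exists_in (h : Tr S T L O₁ O A ξ x p N) : ∃ l₂ l₃, Coset.In T (ww N) L l₂ l₃ := by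
  obtain ⟨l₂, hl2, l₃, hl3, hg⟩ := exists_gen h
  have hpl := planes_i h hl2 hl3 hg
  refine ⟨l₂, l₃, ?_⟩
  have e0 : ∀ {X : Subgroup G} (i : Fin 3), N i ⊓ X ≤ ww N ⊓ X := fun i => inf_le_inf_right _ (h.N_le_ww i)
  exact
    { wsq := fun w hw => h.ww_sq hw
      wT := ww_le_T h
      TW := h.T_le_M.trans h.norm_ww
      LW := h.L_le_M.trans h.norm_ww
      LQ := LQ h
      off := fun A' hA hc => off h hA hc
      l2 := hl2
      l3 := hl3
      s12 := by
        refine sup_le ?_ ?_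
        · conv_lhs => rw [← (hpl 0).1]
          exact sup_le_sup (e0 0) (e0 0)
        · conv_lhs => rw [← (hpl 1).1]
          exact sup_le_sup (e0 1) (e0 1)
      s13 := by
        refine sup_le ?_ ?_
        · conv_lhs => rw [← (hpl 0).2.1]
          exact sup_le_sup (e0 0) (e0 0)
        · conv_lhs => rw [← (hpl 1).2.1]
          exact sup_le_sup (e0 1) (e0 1)
      s123 := by
        have key : ∀ i : Fin 3, N i ⊓ centralizer (jj T : Set G) ≤
            (ww N ⊓ centralizer (jj T : Set G) ⊓ centralizer (cj l₂ (jj T) : Set G)) ⊔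
              (ww N ⊓ centralizer (jj T : Set G) ⊓ centralizer (cj l₃ (jj T) : Set G)) := by
          intro i
          conv_lhs => rw [← (hpl i).2.2]
          exact sup_le_sup (inf_le_inf (e0 i) inf_le_right) (inf_le_inf (e0 i) inf_le_right)
        intro w hw
        obtain ⟨a, ha, b, hb, rfl⟩ := mem_wj h hw
        exact mul_mem (key 0 ha) (key 1 hb)
      gen := hg }

/-- `C_{W_J}(ξ) = 1` -/
theorem wj_ξ (h : Tr S T L O₁ O A ξ x p N) : ∀ w ∈ Coset.In.wj T (ww N), ξ * w = w * ξ → w = 1 := by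
  intro w hw hc
  refine h.ξ_fix hw.1 (fun j hj => ?_) hc
  rw [← jj_eq h] at hj
  exact mem_centralizer_iff.1 hw.2 j hj

theorem ξJ (h : Tr S T L O₁ O A ξ x p N) : ξ ∈ normalizer (jj T : Set G) := by rw [jj_eq h]; exact h.ξJ

/-- **(1.2)** `Z_J = W_J × I`, `I = C_{Z_J}(LJ) = C_{Z_J}(ξ)` -/
theorem main (h : Tr S T L O₁ O A ξ x p N) :
    zj (S : Subgroup G) = Coset.In.wj T (ww N) ⊔ Coset.In.ii T L ∧ Coset.In.wj T (ww N) ⊓ Coset.In.ii T L = ⊥ ∧
      zj (S : Subgroup G) ⊓ centralizer ({ξ} : Set G) = Coset.In.ii T L ∧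
      (∀ v ∈ zj (S : Subgroup G), ξ * v * ξ⁻¹ * v⁻¹ ∈ Coset.In.wj T (ww N)) ∧
      ∀ w ∈ Coset.In.wj T (ww N), ∃ v ∈ Coset.In.wj T (ww N), w = ξ * v * ξ⁻¹ * v⁻¹ := by
  obtain ⟨l₂, l₃, hi⟩ := exists_in h
  rw [← zj_congr (jj_eq h)]
  exact ⟨hi.zj_eq, Coset.In.disj h.ξL (wj_ξ h), hi.inv_eq h.ξL (wj_ξ h), fun v hv => hi.comm_mem h.ξL (ξJ h) hv,
    fun w hw => hi.exists_comm h.ξL (ξJ h) (wj_ξ h) hw⟩

end dat

end Cfsg.Agent.OddCyclic.BcP.Conj
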