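import Mathlib
import Cfsg.Agent.OddCyclic.FFPsl
import Cfsg.Agent.OddCyclic.FFOuter
import Cfsg.Agent.OddCyclic.EmpE.Kill
import Cfsg.Agent.OddCyclic.CompMain
import Cfsg.Agent.OddCyclic.PumpPsl
import Cfsg.Agent.Lib.PSL2Outer

/-!
# S0342, leaf [Bc], type (b'): LEMMA K (2A)

`H` faithful on the elementary abelian 2-group `V`, `K ⊴ H` in the list `KZero`, `x ∈ K` of order 3, `e` an
involution inverting `x` with `|V : C_V(e)| ≤ 4`;

* (a) an element of order 3 normalising `D ≤ C_V(e)` centralises `D`;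
* (b) `1 ≠ f ∈ C_V(x)`: `C_H(f)` normalises `⟨x⟩`.

This is impossible.
-/

set_option autoImplicit false
set_option linter.unusedSectionVars false

namespace Cfsg.Agent.OddCyclic.BcP.LemK

open Subgroup Matrix Cfsg.Agent.Lib.SL2Mat Cfsg.Agent.OddCyclic.T1Module Cfsg.Agent.OddCyclic.FFBasic
  Cfsg.Agent.OddCyclic.FFSl2 Cfsg.Agent.OddCyclic.FFPslMat Cfsg.Agent.OddCyclic.PGLTorus
open Cfsg.Agent.OddCyclic.T1Defs (OddCyc)
open Cfsg.Agent.OddCyclic.PumpMain (KZero)
open Cfsg.Agent.OddCyclic.FFOuter (ac e_ac ac_coe ac_eq_iff)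

/-- the hypotheses of Lemma K, without `K` being in the list -/
structure Hyp {H : Type*} [Group H] {V : Type*} [CommGroup V] (ρ : H →* MulAut V) (K : Subgroup H) (x e : H) :
    Prop where
  inj : Function.Injective ρ
  sq : ∀ v : V, v * v = 1
  cyc : OddCyc H
  hx : x ∈ K
  hx3 : orderOf x = 3
  he : e * e = 1
  hex : e * x * e⁻¹ = x⁻¹
  hi : (fx ρ e).index ≤ 4
  ha : ∀ y : H, orderOf y = 3 → ∀ D : Subgroup V, D ≤ fx ρ e → (∀ d ∈ D, ρ y d ∈ D) → ∀ d ∈ D, ρ y d = d
  hb : ∀ f : V, f ≠ 1 → ρ x f = f → ∀ h : H, ρ h f = f → h ∈ normalizer (zpowers x : Set H)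

variable {H : Type*} [Group H] [Finite H] {V : Type*} [CommGroup V] [Finite V] {ρ : H →* MulAut V}
  {K : Subgroup H} {x e : H}

theorem Hyp.moved (h : Hyp ρ K x e) {y : H} (hy : y ≠ 1) : ∃ v, ρ y v ≠ v := by
  by_contra hcon
  push Not at hcon
  apply hy
  apply h.inj
  rw [map_one]
  exact MulEquiv.ext hcon

theorem Hyp.x_ne (h : Hyp ρ K x e) : x * x ≠ 1 := by
  intro h1
  have h2 : orderOf x ∣ 2 := orderOf_dvd_of_pow_eq_one (by rw [pow_two, h1])
  rw [h.hx3] at h2
  omega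

/-- (0) no element of order 3 commutes with `e` -/
theorem Hyp.zero (h : Hyp ρ K x e) {y : H} (hy : orderOf y = 3) (hc : e * y = y * e) : False := by
  have hinv := inv_eq_self h.sq
  have hee : ∀ v, ρ e (ρ e v) = v := by
    intro v
    rw [← MulAut.mul_apply, ← map_mul, h.he, map_one]; rfl
  have hcv : ∀ v, ρ e (ρ y v) = ρ y (ρ e v) := by
    intro v
    rw [← MulAut.mul_apply, ← MulAut.mul_apply, ← map_mul, ← map_mul, hc]
  have h1 := h.ha y hy (fx ρ e) le_rfl (fun d hd => by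
    rw [mem_fx] at hd ⊢
    rw [hcv, hd])
  have h2 : ∀ v, ρ y (ρ e v * v) = ρ e v * v := by
    intro v
    apply h1
    rw [mem_fx, map_mul, hee, mul_comm]
  have h3 : ∀ v, ρ y (ρ y v * v) = ρ y v * v := by
    intro v
    apply h1
    rw [mem_fx, map_mul, hcv]
    have h4 := h2 v
    rw [map_mul] at h4
    -- `ρ y (ρ e v) = ρ e v * v * (ρ y v)⁻¹`
    have h5 : ρ y (ρ e v) = ρ e v * v * ρ y v := by
      rw [← h4, mul_assoc, h.sq, mul_one]
    rw [h5]
    calc ρ e v * v * ρ y v * ρ e v = (ρ e v * ρ e v) * (v * ρ y v) := by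
          rw [mul_comm (ρ e v * v * ρ y v) (ρ e v), mul_assoc (ρ e v) v, ← mul_assoc]
      _ = ρ y v * v := by rw [h.sq, one_mul, mul_comm]
  have h4 : y * y = 1 := by
    apply h.inj
    rw [map_one]
    refine MulEquiv.ext fun v => ?_
    rw [map_mul, MulAut.mul_apply]
    have h5 := h3 v
    rw [map_mul] at h5
    have h6 : ρ y (ρ y v) = ρ y v * v * ρ y v := by rw [← h5, mul_assoc, h.sq, mul_one]
    rw [h6, mul_comm (ρ y v) v, mul_assoc, h.sq, mul_one]; rfl
  have h5 : orderOf y ∣ 2 := orderOf_dvd_of_pow_eq_one (by rw [pow_two, h4])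
  rw [hy] at h5
  omega

omit [Finite V] [Finite H] in
/-- an involution has a fixed point on an invariant subgroup -/
theorem step (hV : ∀ v : V, v * v = 1) {t : H} (ht : t * t = 1) {W : Subgroup V} (hW : W ≠ ⊥)
    (hst : ∀ w ∈ W, ρ t w ∈ W) : W ⊓ fx ρ t ≠ ⊥ := by
  obtain ⟨⟨w, hw⟩, hw1⟩ := Subgroup.ne_bot_iff_exists_ne_one.1 hW
  have hw1' : w ≠ 1 := fun h => hw1 (Subtype.ext h)
  have htt : ρ t (ρ t w) = w := by
    rw [← MulAut.mul_apply, ← map_mul, ht, map_one]; rfl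
  intro hbot
  by_cases h1 : ρ t w = w
  · have h2 : w ∈ W ⊓ fx ρ t := ⟨hw, h1⟩
    rw [hbot, mem_bot] at h2
    exact hw1' h2
  · have h2 : ρ t w * w ∈ W ⊓ fx ρ t := by
      refine ⟨mul_mem (hst w hw) hw, ?_⟩
      show ρ t (ρ t w * w) = ρ t w * w
      rw [map_mul, htt, mul_comm]
    rw [hbot, mem_bot] at h2
    exact h1 (eq_of_mul_eq_one hV h2)

/-- elements of order 3 generate conjugate subgroups -/
theorem conj_three (hc : OddCyc H) {y z : H} (hy : orderOf y = 3) (hz : orderOf z = 3) :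
    ∃ g : H, z ∈ zpowers (g * y * g⁻¹) ∧ g * y * g⁻¹ ∈ zpowers z := by
  have hf : Fact (Nat.Prime 3) := ⟨Nat.prime_three⟩
  have hp : ∀ y : H, orderOf y = 3 → ∃ P : Sylow 3 H, y ∈ P := by
    intro y hy
    have h1 : IsPGroup 3 (Subgroup.zpowers y) := IsPGroup.of_card (n := 1) (by rw [Nat.card_zpowers, hy, pow_one])
    obtain ⟨P, hP⟩ := h1.exists_le_sylow
    exact ⟨P, hP (Subgroup.mem_zpowers y)⟩
  obtain ⟨P, hP⟩ := hp y hy
  obtain ⟨Q, hQ⟩ := hp z hz
  obtain ⟨g, hg⟩ := MulAction.exists_smul_eq H P Q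
  have h1 : g * y * g⁻¹ ∈ (Q : Subgroup H) := by
    rw [← hg, Sylow.coe_subgroup_smul]
    exact ⟨y, hP, rfl⟩
  have h2 : orderOf (g * y * g⁻¹) = orderOf z := by
    rw [hz, ← hy]
    exact orderOf_injective (MulAut.conj g).toMonoidHom (MulAut.conj g).injective y
  have hcQ := hc 3 Q Nat.prime_three (by norm_num)
  exact ⟨g, T1SzComp.mem_zpowers_of_cyclic hcQ hQ h1 h2.symm, T1SzComp.mem_zpowers_of_cyclic hcQ h1 hQ h2⟩

/-- (i) `e` acts as an involution `k` of an `A₄` of `K` -/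
theorem Hyp.tet (h : Hyp ρ K x e) {k j w : H} (hk : k ∈ K) (hj : j ∈ K) (hw : w ∈ K) (hkk : k * k = 1)
    (hk1 : k ≠ 1) (h1 : w⁻¹ * k * w = j) (h2 : w⁻¹ * j * w = k * j) (hw3 : orderOf w = 3)
    (hke : ∀ l ∈ K, e * l * e⁻¹ = k * l * k⁻¹) : False := by
  have hei : e⁻¹ = e := inv_eq_of_mul_eq_one_left h.he
  have hki : k⁻¹ = k := inv_eq_of_mul_eq_one_left hkk
  have hek : e * k * e⁻¹ = k := by
    rw [hke k hk, hki, hkk, one_mul]
  have hjj : j * j = 1 := by
    rw [← h1]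
    calc w⁻¹ * k * w * (w⁻¹ * k * w) = w⁻¹ * (k * k) * w := by group
      _ = 1 := by rw [hkk]; group
  have hji : j⁻¹ = j := inv_eq_of_mul_eq_one_left hjj
  have hkj : (k * j) * (k * j) = 1 := by
    rw [← h2]
    calc w⁻¹ * j * w * (w⁻¹ * j * w) = w⁻¹ * (j * j) * w := by group
      _ = 1 := by rw [hjj]; group
  have hcomm : k * j = j * k := by
    have h3 : k * j = (k * j)⁻¹ := eq_inv_of_mul_eq_one_left hkj
    rw [h3, _root_.mul_inv_rev, hki, hji]
  obtain ⟨c, hc⟩ : ∃ c, c = e * k := ⟨_, rfl⟩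
  have hcl : ∀ l ∈ K, c * l = l * c := by
    intro l hl
    have h3 := hke (k * l * k⁻¹) (mul_mem (mul_mem hk hl) (inv_mem hk))
    have h4 : k * (k * l * k⁻¹) * k⁻¹ = l := by
      rw [hki]
      calc k * (k * l * k) * k = (k * k) * l * (k * k) := by group
        _ = l := by rw [hkk]; group
    rw [h4] at h3
    rw [hc]
    calc e * k * l = e * (k * l * k⁻¹) * e⁻¹ * (e * k) := by group
      _ = l * (e * k) := by rw [h3]
  have hcc : c * c = 1 := by
    rw [hc]
    calc e * k * (e * k) = (e * k * e⁻¹) * k * (k⁻¹ * e * e * k) := by group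
      _ = 1 := by rw [hek, hkk, mul_assoc k⁻¹, h.he]; group
  have hecomp : e = c * k := by
    rw [hc, mul_assoc, hkk, mul_one]
  -- the common fixed points of `c`, `k`, `j`
  have hcv : ∀ l ∈ K, ∀ v, ρ c (ρ l v) = ρ l (ρ c v) := by
    intro l hl v
    rw [← MulAut.mul_apply, ← MulAut.mul_apply, ← map_mul, ← map_mul, hcl l hl]
  have hV1 : (⊤ : Subgroup V) ≠ ⊥ := by
    intro htop
    obtain ⟨v, hv⟩ := h.moved (y := x) (fun h3 => h.x_ne (by rw [h3, one_mul]))
    have h3 : ∀ v : V, v = 1 := fun v => by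
      have : v ∈ (⊤ : Subgroup V) := mem_top v
      rwa [htop, mem_bot] at this
    apply hv
    rw [h3 (ρ x v), h3 v]
  have d1 : (⊤ : Subgroup V) ⊓ fx ρ c ≠ ⊥ := step h.sq hcc hV1 (fun _ _ => mem_top _)
  have d2 : (⊤ : Subgroup V) ⊓ fx ρ c ⊓ fx ρ k ≠ ⊥ := by
    refine step h.sq hkk d1 fun v hv => ⟨mem_top _, ?_⟩
    have h3 : ρ c v = v := hv.2
    show ρ c (ρ k v) = ρ k v
    rw [hcv k hk, h3]
  have d3 : (⊤ : Subgroup V) ⊓ fx ρ c ⊓ fx ρ k ⊓ fx ρ j ≠ ⊥ := by
    refine step h.sq hjj d2 fun v hv => ⟨⟨mem_top _, ?_⟩, ?_⟩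
    · have h3 : ρ c v = v := hv.1.2
      show ρ c (ρ j v) = ρ j v
      rw [hcv j hj, h3]
    · have h3 : ρ k v = v := hv.2
      show ρ k (ρ j v) = ρ j v
      rw [← MulAut.mul_apply, ← map_mul, hcomm, map_mul, MulAut.mul_apply, h3]
  obtain ⟨D, hD⟩ : ∃ D, D = (⊤ : Subgroup V) ⊓ fx ρ c ⊓ fx ρ k ⊓ fx ρ j := ⟨_, rfl⟩
  have hDm : ∀ d, d ∈ D ↔ ρ c d = d ∧ ρ k d = d ∧ ρ j d = d := by
    intro d
    rw [hD]
    exact ⟨fun hd => ⟨hd.1.1.2, hd.1.2, hd.2⟩, fun hd => ⟨⟨⟨mem_top _, hd.1⟩, hd.2.1⟩, hd.2.2⟩⟩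
  rw [← hD] at d3
  have hwk : k * w = w * j := by rw [← h1]; group
  have hwj : j * w = w * (k * j) := by rw [← h2]; group
  have hDe : D ≤ fx ρ e := by
    intro d hd
    obtain ⟨hd1, hd2, -⟩ := (hDm d).1 hd
    rw [mem_fx, hecomp, map_mul, MulAut.mul_apply, hd2, hd1]
  have hDw : ∀ d ∈ D, ρ w d ∈ D := by
    intro d hd
    obtain ⟨hd1, hd2, hd3⟩ := (hDm d).1 hd
    refine (hDm _).2 ⟨?_, ?_, ?_⟩
    · rw [hcv w hw, hd1]
    · rw [← MulAut.mul_apply, ← map_mul, hwk, map_mul, MulAut.mul_apply, hd3]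
    · rw [← MulAut.mul_apply, ← map_mul, hwj, map_mul, MulAut.mul_apply, map_mul, MulAut.mul_apply, hd3, hd2]
  obtain ⟨⟨d, hd⟩, hd1'⟩ := Subgroup.ne_bot_iff_exists_ne_one.1 d3
  have hd1 : d ≠ 1 := fun h => hd1' (Subtype.ext h)
  have hwd := h.ha w hw3 D hDe hDw d hd
  obtain ⟨g, hg, hg'⟩ := conj_three h.cyc hw3 h.hx3
  -- (b) for `f = ρ g d`
  have hcj : ∀ u, ρ u d = d → ρ (g * u * g⁻¹) (ρ g d) = ρ g d := by
    intro u hu
    rw [← MulAut.mul_apply, ← map_mul, inv_mul_cancel_right, map_mul, MulAut.mul_apply, hu]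
  have hf1 : ρ g d ≠ 1 := by
    intro h3
    apply hd1
    apply (ρ g).injective
    rw [h3, map_one]
  have hfx : ρ x (ρ g d) = ρ g d := FFPsl.fx_le_of_mem ρ hg (hcj w hwd)
  have hn := h.hb (ρ g d) hf1 hfx (g * k * g⁻¹) (hcj k ((hDm d).1 hd).2.1)
  -- `k w k⁻¹ ∈ ⟨w⟩`
  have h3 : g * (k * w * k⁻¹) * g⁻¹ ∈ zpowers (g * w * g⁻¹) := by
    have h4 : zpowers x = zpowers (g * w * g⁻¹) :=
      le_antisymm (zpowers_le.2 hg) (zpowers_le.2 hg')
    rw [h4] at hn
    have h5 := (mem_normalizer_iff.1 hn (g * w * g⁻¹)).1 (mem_zpowers _)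
    have h6 : g * k * g⁻¹ * (g * w * g⁻¹) * (g * k * g⁻¹)⁻¹ = g * (k * w * k⁻¹) * g⁻¹ := by group
    rwa [h6] at h5
  have h4 : k * w * k⁻¹ ∈ zpowers w := by
    obtain ⟨n, hn⟩ := h3
    refine ⟨n, ?_⟩
    have h5 : g * w ^ n * g⁻¹ = g * (k * w * k⁻¹) * g⁻¹ := by
      rw [← hn]
      show g * w ^ n * g⁻¹ = (g * w * g⁻¹) ^ n
      rw [conj_zpow]
    exact mul_left_cancel (mul_right_cancel h5)
  have h5 : j ∈ zpowers w := by
    have h6 : k * w * k⁻¹ * w⁻¹ ∈ zpowers w := mul_mem h4 (inv_mem (mem_zpowers w))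
    -- `w k w⁻¹ = k j`
    have h8 : k * w * k⁻¹ * w⁻¹ = j := by
      have h9 : w * k * w⁻¹ = k * j := by
        have h10 : w⁻¹ * (k * j) * w = k := by
          have h11 : w⁻¹ * (k * j) * w = (w⁻¹ * k * w) * (w⁻¹ * j * w) := by group
          rw [h11, h1, h2, hcomm, ← mul_assoc, hjj, one_mul]
        have h11 : w * k * w⁻¹ = w * (w⁻¹ * (k * j) * w) * w⁻¹ := by rw [h10]
        rw [h11]; group
      have h10 : k * w * k⁻¹ * w⁻¹ = k * (w * k⁻¹ * w⁻¹) := by group
      rw [h10, hki, h9, ← mul_assoc, hkk, one_mul]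
    rwa [h8] at h6
  have h6 : j ^ 3 = 1 := by
    obtain ⟨n, rfl⟩ := h5
    show (w ^ n) ^ 3 = 1
    rw [← zpow_natCast, ← _root_.zpow_mul, mul_comm, _root_.zpow_mul, zpow_natCast]
    have := pow_orderOf_eq_one w
    rw [hw3] at this
    rw [this, _root_.one_zpow]
  have h7 : j = 1 := by
    rw [pow_succ, pow_two, hjj, one_mul] at h6
    exact h6
  apply hk1
  have h8 : k = w * j * w⁻¹ := by rw [← h1]; group
  rw [h8, h7]; group

/-! ### `A₄` in `PSL₂(q)` -/

theorem exists_tet_psl {L : Type*} [Group L] {F : Type*} [Field F] [Finite F] (R : Cfsg.Agent.GH.L2Aut.Rep F L)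
    (h3 : (3 : F) ≠ 0) {k : L} (hk : k * k = 1) (hk1 : k ≠ 1) :
    ∃ j w : L, w⁻¹ * k * w = j ∧ w⁻¹ * j * w = k * j ∧ orderOf w = 3 := by
  classical
  have := Fintype.ofFinite F
  have h2 := R.two
  have hodd : Odd (Fintype.card F) := by
    rw [Nat.odd_iff, ← Nat.card_eq_fintype_card]
    exact Cfsg.Agent.Lib.PSL2Torus.odd_card h2
  obtain ⟨a, b, hab⟩ := Cfsg.Agent.LFourR.Mat2.exists_norm hodd (1 : F) (-1) one_ne_zero
  have hab' : a * a + b * b = -1 := by linear_combination hab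
  have h4 : (4 : F) ≠ 0 := by
    have : (4 : F) = 2 * 2 := by norm_num
    rw [this]; exact mul_ne_zero h2 h2
  let I := Cfsg.Agent.Lib.PSL2Torus.jm F
  -- `i * j`
  let J : Matrix.SpecialLinearGroup (Fin 2) F := mk (-b) a a b (by linear_combination -hab')
  let W : Matrix.SpecialLinearGroup (Fin 2) F := mk ((1 + a - b) / 2) ((-1 + b + a) / 2) ((1 + b + a) / 2)
    ((1 - a + b) / 2) (by field_simp; linear_combination (-2) * hab')
  have e1 : I * W = W * J := by
    refine ext_ent ?_ ?_ ?_ ?_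
    · rw [ent_mul, ent_mul]
      show 0 * ((1 + a - b) / 2) + (-1) * ((1 + b + a) / 2) = ((1 + a - b) / 2) * (-b) + ((-1 + b + a) / 2) * a
      field_simp
      linear_combination -hab'
    · rw [ent_mul, ent_mul]
      show 0 * ((-1 + b + a) / 2) + (-1) * ((1 - a + b) / 2) = ((1 + a - b) / 2) * a + ((-1 + b + a) / 2) * b
      field_simp
      linear_combination -hab'
    · rw [ent_mul, ent_mul]
      show 1 * ((1 + a - b) / 2) + 0 * ((1 + b + a) / 2) = ((1 + b + a) / 2) * (-b) + ((1 - a + b) / 2) * a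
      field_simp
      linear_combination hab'
    · rw [ent_mul, ent_mul]
      show 1 * ((-1 + b + a) / 2) + 0 * ((1 - a + b) / 2) = ((1 + b + a) / 2) * a + ((1 - a + b) / 2) * b
      field_simp
      linear_combination -hab'
  have e2 : J * W = -(W * (I * J)) := by
    refine ext_ent ?_ ?_ ?_ ?_
    · rw [Cfsg.Agent.Lib.PSL2Outer.neg_ent, ent_mul, ent_mul, ent_mul, ent_mul]
      show (-b) * ((1 + a - b) / 2) + a * ((1 + b + a) / 2) =
        -(((1 + a - b) / 2) * (0 * (-b) + (-1) * a) + ((-1 + b + a) / 2) * (1 * (-b) + 0 * a))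
      field_simp
      ring
    · rw [Cfsg.Agent.Lib.PSL2Outer.neg_ent, ent_mul, ent_mul, ent_mul, ent_mul]
      show (-b) * ((-1 + b + a) / 2) + a * ((1 - a + b) / 2) =
        -(((1 + a - b) / 2) * (0 * a + (-1) * b) + ((-1 + b + a) / 2) * (1 * a + 0 * b))
      field_simp
      ring
    · rw [Cfsg.Agent.Lib.PSL2Outer.neg_ent, ent_mul, ent_mul, ent_mul, ent_mul]
      show a * ((1 + a - b) / 2) + b * ((1 + b + a) / 2) =
        -(((1 + b + a) / 2) * (0 * (-b) + (-1) * a) + ((1 - a + b) / 2) * (1 * (-b) + 0 * a))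
      field_simp
      ring
    · rw [Cfsg.Agent.Lib.PSL2Outer.neg_ent, ent_mul, ent_mul, ent_mul, ent_mul]
      show a * ((-1 + b + a) / 2) + b * ((1 - a + b) / 2) =
        -(((1 + b + a) / 2) * (0 * a + (-1) * b) + ((1 - a + b) / 2) * (1 * a + 0 * b))
      field_simp
      ring
  have e3 : R.π W ^ 3 = 1 ∧ R.π W ≠ 1 := by
    apply order_three_one R h3
    show (1 + a - b) / 2 + (1 - a + b) / 2 = 1
    field_simp
    ring
  have hII : I * I = -1 := by
    refine ext_ent ?_ ?_ ?_ ?_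
    · rw [ent_mul]; show 0 * 0 + (-1) * 1 = -(1 : F); ring
    · rw [ent_mul]; show 0 * (-1) + (-1) * 0 = -(0 : F); ring
    · rw [ent_mul]; show 1 * 0 + 0 * 1 = -(0 : F); ring
    · rw [ent_mul]; show 1 * (-1) + 0 * 0 = -(1 : F); ring
  have hI2 : R.π I * R.π I = 1 := by
    rw [← map_mul, hII, R.ker]
    exact Or.inr rfl
  have hI1 : R.π I ≠ 1 := by
    intro h1
    rw [R.ker] at h1
    rcases h1 with h1 | h1
    · have := congrArg (fun w => ent w 1 0) h1
      simp only [I, Cfsg.Agent.Lib.PSL2Torus.jm_10, ent_one_10] at this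
      exact one_ne_zero this
    · have h3 : (1 : F) = -0 := congrArg (fun w => ent w 1 0) h1
      rw [neg_zero] at h3
      exact one_ne_zero h3
  obtain ⟨g, hg⟩ := Cfsg.Agent.Lib.PSL2Torus.conj_inv_hom R.π R.two R.surj R.ker hI1 hI2 hk1 hk
  have e1' : R.π I * R.π W = R.π W * R.π J := by rw [← map_mul, e1, map_mul]
  have e2' : R.π J * R.π W = R.π W * (R.π I * R.π J) := by
    rw [← map_mul, e2, R.π_neg, map_mul, map_mul]
  refine ⟨g * R.π J * g⁻¹, g * R.π W * g⁻¹, ?_, ?_, ?_⟩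
  · rw [← hg]
    calc (g * R.π W * g⁻¹)⁻¹ * (g * R.π I * g⁻¹) * (g * R.π W * g⁻¹) =
        g * ((R.π W)⁻¹ * (R.π I * R.π W)) * g⁻¹ := by group
      _ = _ := by rw [e1']; group
  · rw [← hg]
    calc (g * R.π W * g⁻¹)⁻¹ * (g * R.π J * g⁻¹) * (g * R.π W * g⁻¹) =
        g * ((R.π W)⁻¹ * (R.π J * R.π W)) * g⁻¹ := by group
      _ = _ := by rw [e2']; group
  · have hf : Fact (Nat.Prime 3) := ⟨Nat.prime_three⟩
    have h5 : orderOf (R.π W) = 3 := orderOf_eq_prime e3.1 e3.2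
    rw [← h5]
    exact orderOf_injective (MulAut.conj g).toMonoidHom (MulAut.conj g).injective _

theorem exists_tet_sl {F : Type*} [Field F] [Fintype F] [CharP F 2] {m : F} (hm : m * m + m + 1 = 0)
    {k : Matrix.SpecialLinearGroup (Fin 2) F} (hk : k * k = 1) (hk1 : k ≠ 1) :
    ∃ j w : Matrix.SpecialLinearGroup (Fin 2) F, w⁻¹ * k * w = j ∧ w⁻¹ * j * w = k * j ∧ orderOf w = 3 := by
  obtain ⟨g, t, rfl⟩ := T1Sl2.exists_conj_up hk
  have h2 : (2 : F) = 0 := CharTwo.two_eq_zero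
  have hm0 : m ≠ 0 := by
    rintro rfl
    apply one_ne_zero (α := F)
    linear_combination hm
  have hm1 : m ≠ 1 := by
    rintro rfl
    apply one_ne_zero (α := F)
    linear_combination hm - h2
  have hm3 : m * m * m = 1 := by linear_combination (m - 1) * hm
  let w := dg m hm0
  -- `w up(t) w⁻¹ = up(m² t)`, `w⁻¹ up(t) w = up(m t)`
  have hw : ∀ s : F, w⁻¹ * up s * w = up (m * s) := by
    intro s
    have h3 : w * up (m * s) = up s * w := by
      rw [dg_up]
      congr 2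
      linear_combination s * hm3
    rw [mul_assoc, ← h3]; group
  have hw3 : orderOf w = 3 := by
    have hf : Fact (Nat.Prime 3) := ⟨Nat.prime_three⟩
    apply orderOf_eq_prime
    · refine ext_ent ?_ ?_ ?_ ?_
      · rw [pow_succ, pow_two, ent_mul, ent_mul, ent_mul]
        show (m * m + 0 * 0) * m + (m * 0 + 0 * m⁻¹) * 0 = 1
        linear_combination hm3
      · rw [pow_succ, pow_two, ent_mul, ent_mul, ent_mul]
        show (m * m + 0 * 0) * 0 + (m * 0 + 0 * m⁻¹) * m⁻¹ = 0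
        ring
      · rw [pow_succ, pow_two, ent_mul, ent_mul, ent_mul]
        show (0 * m + m⁻¹ * 0) * m + (0 * 0 + m⁻¹ * m⁻¹) * 0 = 0
        ring
      · rw [pow_succ, pow_two, ent_mul, ent_mul, ent_mul]
        show (0 * m + m⁻¹ * 0) * 0 + (0 * 0 + m⁻¹ * m⁻¹) * m⁻¹ = 1
        have : m⁻¹ * m⁻¹ * m⁻¹ = 1 := by rw [← mul_inv, ← mul_inv, hm3, inv_one]
        linear_combination this
    · intro h3
      have := congrArg (fun y => ent y 0 0) h3
      exact hm1 this
  refine ⟨g * up (m * t) * g⁻¹, g * w * g⁻¹, ?_, ?_, ?_⟩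
  · calc (g * w * g⁻¹)⁻¹ * (g * up t * g⁻¹) * (g * w * g⁻¹) = g * (w⁻¹ * up t * w) * g⁻¹ := by group
      _ = _ := by rw [hw]
  · calc (g * w * g⁻¹)⁻¹ * (g * up (m * t) * g⁻¹) * (g * w * g⁻¹) = g * (w⁻¹ * up (m * t) * w) * g⁻¹ := by group
      _ = g * (up t * up (m * t)) * g⁻¹ := by
        rw [hw, up_mul]
        congr 3
        linear_combination t * hm - (t + m * t) * h2
      _ = _ := by
        show g * (T1Sl2.up t * up (m * t)) * g⁻¹ = _
        group
  · rw [← hw3]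
    exact orderOf_injective (MulAut.conj g).toMonoidHom (MulAut.conj g).injective _

/-! ### The three families -/

variable [K.Normal]

theorem psi_ne (h : Hyp ρ K x e) : (MulAut.conjNormal e : MulAut K) ≠ 1 := by
  intro h1
  have h2 := congrArg (fun α : MulAut K => ((α ⟨x, h.hx⟩ : K) : H)) h1
  simp only [MulAut.conjNormal_apply, MulAut.one_apply] at h2
  rw [h.hex] at h2
  exact h.x_ne (by have h3 := inv_mul_cancel x; rwa [h2] at h3)

theorem psi_sq (h : Hyp ρ K x e) : (MulAut.conjNormal e : MulAut K) * MulAut.conjNormal e = 1 := by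
  rw [← map_mul, h.he, map_one]

/-- `e` acts on `K` as the conjugation by `y ∈ K` -/
theorem tet_of_inner (h : Hyp ρ K x e) (hZ : Subgroup.center K = ⊥) {y : K}
    (hy : MulAut.conj y = (MulAut.conjNormal e : MulAut K))
    (ht : y * y = 1 → y ≠ 1 → ∃ j w : K, w⁻¹ * y * w = j ∧ w⁻¹ * j * w = y * j ∧ orderOf w = 3) : False := by
  have hyy : y * y = 1 := by
    have h1 : y * y ∈ Subgroup.center K := by
      rw [Subgroup.mem_center_iff]
      intro g
      have h2 : MulAut.conj (y * y) g = g := by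
        rw [map_mul, hy, psi_sq h]; rfl
      rw [MulAut.conj_apply] at h2
      exact (mul_inv_eq_iff_eq_mul.1 h2).symm
    rwa [hZ, mem_bot] at h1
  have hy1 : y ≠ 1 := by
    rintro rfl
    rw [map_one] at hy
    exact psi_ne h hy.symm
  obtain ⟨j, w, h1, h2, h3⟩ := ht hyy hy1
  refine h.tet (k := y) (j := j) (w := w) y.2 j.2 w.2 (congrArg Subtype.val hyy)
    (fun h4 => hy1 (Subtype.ext h4)) (congrArg Subtype.val h1) (congrArg Subtype.val h2)
    (by rw [Subgroup.orderOf_coe, h3]) fun l hl => ?_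
  have h4 := congrArg (fun α : MulAut K => ((α ⟨l, hl⟩ : K) : H)) hy
  simp only [MulAut.conjNormal_apply, MulAut.conj_apply] at h4
  exact h4.symm

/-- 3 is not a square if `|F|` is 5 or 17 -/
theorem three_nsq {F : Type*} [Field F] [Finite F] (hF : Nat.card F = 5 ∨ Nat.card F = 17) (h3 : (3 : F) ≠ 0) :
    ¬ IsSquare (3 : F) := by
  classical
  have := Fintype.ofFinite F
  have hp : (Nat.card F).Prime := by rcases hF with h | h <;> rw [h] <;> norm_num
  have hch := FFPsl.charP hp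
  have hr : ringChar F ≠ 2 := by
    rw [ringChar.eq F (Nat.card F)]
    rcases hF with h | h <;> omega
  rw [FiniteField.isSquare_iff hr h3, ← Nat.card_eq_fintype_card]
  have hc : ((Nat.card F : ℕ) : F) = 0 := CharP.cast_eq_zero F (Nat.card F)
  have h2 : (2 : F) ≠ 0 := by
    intro h
    have h1 : ((2 : ℕ) : F) = 0 := by exact_mod_cast h
    rw [CharP.cast_eq_zero_iff F (Nat.card F)] at h1
    have := Nat.le_of_dvd (by norm_num) h1
    omega
  rcases hF with h | h
  · rw [h] at hc ⊢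
    intro h4
    apply h2
    have h5 : (5 : F) = 0 := by exact_mod_cast hc
    norm_num at h4
    linear_combination 2 * h5 - h4
  · rw [h] at hc ⊢
    intro h4
    apply h2
    have h5 : (17 : F) = 0 := by exact_mod_cast hc
    norm_num at h4
    linear_combination 386 * h5 - h4

/-- `K ≅ PSL₂(p)` -/
theorem false_psl (h : Hyp ρ K x e) {F : Type*} [Field F] [Finite F] (hF : (Nat.card F).Prime)
    (h5 : 5 ≤ Nat.card F) (R : Cfsg.Agent.GH.L2Aut.Rep F K) : False := by
  have h3F : (3 : F) ≠ 0 := by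
    have hch := FFPsl.charP hF
    intro h
    have h1 : ((3 : ℕ) : F) = 0 := by exact_mod_cast h
    rw [CharP.cast_eq_zero_iff F (Nat.card F)] at h1
    have := Nat.le_of_dvd (by norm_num) h1
    omega
  obtain ⟨γ, hγ⟩ := R.mem_PGL.1 (mem_PGL_of_prime R hF (MulAut.conjNormal e : MulAut K))
  have hγ0 : γ.1.trace = 0 := by
    apply trace_of_sq R
    · rw [← hγ]; exact psi_ne h
    · rw [← hγ]; exact psi_sq h
  by_cases hs : IsSquare γ.1.det
  · obtain ⟨y, hy⟩ := R.gl_mem_inn.2 hs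
    rw [← hγ] at hy
    exact tet_of_inner h R.center_eq_bot hy (exists_tet_psl R h3F)
  have hfaith : ∀ l : K, (l : H) ≠ 1 → ∃ v, ρ (l : H) v ≠ v := fun l hl => h.moved hl
  by_cases hs' : IsSquare (-γ.1.det)
  · -- split
    obtain ⟨s, hs'⟩ := hs'
    obtain ⟨u, hu1, hup, hui⟩ := split_inv R hγ0 hs'.symm
    have hch := FFPsl.charP hF
    have hfact : Fact (Nat.card F).Prime := ⟨hF⟩
    have h1 := hup (Nat.card F) (CharP.cast_eq_zero F (Nat.card F))
    have h2 : orderOf ((R.π u : K) : H) = Nat.card F := by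
      rw [Subgroup.orderOf_coe]
      exact orderOf_eq_prime (by rw [← map_pow, h1, map_one]) hu1
    rw [← hγ] at hui
    have h3 := FFPsl.conj_of_psi hui
    have h4 : ((R.π u : K) : H) ≠ 1 := fun h => hu1 (Subtype.ext h)
    have h6 : Nat.card F = 5 := by
      rcases (FFPsl.small h.sq h.he hF (by omega) h2 (hfaith _ h4) h3 h.hi).1 with h5 | h5 <;> omega
    apply hs
    have := Fintype.ofFinite F
    have h7 : IsSquare (-1 : F) := by
      rw [FiniteField.isSquare_neg_one_iff, ← Nat.card_eq_fintype_card, h6]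
      norm_num
    obtain ⟨i, hi⟩ := h7
    exact ⟨i * s, by linear_combination -hs' + s * s * hi⟩
  -- nonsplit
  have hm1 : IsSquare (-1 : F) := by
    obtain ⟨s, hs2⟩ := Cfsg.Agent.GH.L2Aut.isSquare_mul_of_not hs' hs
    refine ⟨s / γ.1.det, ?_⟩
    have hd := FFPsl.det_ne γ
    field_simp
    linear_combination hs2
  have hmod : Nat.card F % 4 ≠ 3 := by
    have := Fintype.ofFinite F
    have h4 := FiniteField.isSquare_neg_one_iff.1 hm1
    rwa [← Nat.card_eq_fintype_card] at h4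
  obtain ⟨y, hyL, hy3, hay⟩ := FFPsl.exists_three R h3F hγ0 hγ.symm
  have hiy : (fx ρ y).index ≤ 16 := (half' ρ (by rw [hy3]; decide) hay).trans (Nat.pow_le_pow_left h.hi 2)
  have hall : ∀ z : H, orderOf z = 3 → (fx ρ z).index ≤ 16 := fun z hz => by
    rw [← FFPsl.index_eq_of_orderOf ρ h.cyc Nat.prime_three (by norm_num) hy3 hz]; exact hiy
  have h2F := R.two
  have hdz : (0 : F) * 1 - (-(1 / 2)) * 2 = 1 := by field_simp; ring
  have hdz' : (-1 : F) * 2 - (-(3 / 2)) * 2 = 1 := by field_simp; ring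
  let z : Matrix.SpecialLinearGroup (Fin 2) F := mk 0 (-(1 / 2)) 2 1 hdz
  let z' : Matrix.SpecialLinearGroup (Fin 2) F := mk (-1) (-(3 / 2)) 2 2 hdz'
  have hz : orderOf ((R.π z : K) : H) = 3 := FFPsl.orderOf_three R h3F (by simp only [z, mk_00, mk_11]; ring)
  have hz' : orderOf ((R.π z' : K) : H) = 3 := FFPsl.orderOf_three R h3F (by simp only [z', mk_00, mk_11]; ring)
  have hzz : z * z' = -up 1 := by
    refine ext_ent ?_ ?_ ?_ ?_
    · rw [ent_mul]; show 0 * (-1) + (-(1 / 2)) * 2 = -(1 : F); field_simp; ring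
    · rw [ent_mul]; show 0 * (-(3 / 2)) + (-(1 / 2)) * 2 = -(1 : F); field_simp; ring
    · rw [ent_mul]; show 2 * (-1) + 1 * 2 = -(0 : F); ring
    · rw [ent_mul]; show 2 * (-(3 / 2)) + 1 * 2 = -(1 : F); field_simp; ring
  have hu : ((R.π (up 1) : K) : H) = (R.π z : K) * (R.π z' : K) := by
    rw [← Subgroup.coe_mul, ← map_mul, hzz, R.π_neg]
  have hiu : (fx ρ ((R.π (up 1) : K) : H)).index ≤ 256 := by
    rw [hu]
    exact (FFPsl.index_mul_le ρ _ _).trans (Nat.mul_le_mul (hall _ hz) (hall _ hz'))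
  have hou := FFPsl.orderOf_u R hF
  have hune : ((R.π (up 1) : K) : H) ≠ 1 := by
    intro h1
    rw [h1, orderOf_one] at hou
    omega
  obtain ⟨d, hd, hd1, hd2⟩ := prim (ρ := ρ) h.sq hF (by omega) hou (h.moved hune)
  have hd8 : d ≤ 8 := by
    rw [hd1] at hiu
    have : (2 : ℕ) ^ d ≤ 2 ^ 8 := hiu
    exact (Nat.pow_le_pow_iff_right (by norm_num)).1 this
  have h517 : Nat.card F = 5 ∨ Nat.card F = 17 := by
    have hpr := hF
    clear hiu hd1 hou h3F hF hune hm1 hall hiy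
    generalize Nat.card F = n at *
    have hmem : n ∈ Nat.primeFactors (2 ^ d - 1) := by
      rw [Nat.mem_primeFactors]
      refine ⟨hpr, hd2, ?_⟩
      have : 2 ^ 1 ≤ 2 ^ d := Nat.pow_le_pow_right (by norm_num) hd
      omega
    have hall : ∀ d, 0 < d → d ≤ 8 → ∀ n ∈ Nat.divisors (2 ^ d - 1), Nat.Prime n → 5 ≤ n → n % 4 ≠ 3 →
        n = 5 ∨ n = 17 := by
      intro d hd hd8
      interval_cases d <;> decide +kernel
    refine hall d hd hd8 n ?_ hpr h5 hmod
    rw [Nat.mem_divisors]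
    refine ⟨hd2, ?_⟩
    have : 2 ^ 1 ≤ 2 ^ d := Nat.pow_le_pow_right (by norm_num) hd
    omega
  -- an element of order 3 commuting with `γ`
  obtain ⟨s, hs3⟩ := Cfsg.Agent.GH.L2Aut.isSquare_mul_of_not (three_nsq h517 h3F) hs
  have hd0 := FFPsl.det_ne γ
  rw [Matrix.trace_fin_two] at hγ0
  have hdet := Matrix.det_fin_two γ.1
  set D := γ.1.det with hD
  obtain ⟨m, hm⟩ : ∃ m : F, 2 * m = 1 := ⟨1 / 2, by field_simp⟩
  obtain ⟨c, hc⟩ : ∃ c : F, c * D = s * m := ⟨s * m / D, by field_simp⟩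
  have hcD : c * c * D = 3 * m * m := by
    apply mul_right_cancel₀ hd0
    linear_combination (c * D + s * m) * hc - m * m * hs3
  have hdet2 : (m + c * γ.1 0 0) * (m + c * γ.1 1 1) - (c * γ.1 0 1) * (c * γ.1 1 0) = 1 := by
    linear_combination (m * c) * hγ0 + hcD - c * c * hdet + (2 * m + 1) * hm
  let t : Matrix.SpecialLinearGroup (Fin 2) F := mk (m + c * γ.1 0 0) (c * γ.1 0 1)
    (c * γ.1 1 0) (m + c * γ.1 1 1) hdet2
  have ht3 : orderOf ((R.π t : K) : H) = 3 := by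
    apply FFPsl.orderOf_three R h3F
    simp only [t, mk_00, mk_11]
    linear_combination c * hγ0 + hm
  have htc : R.gl γ (R.π t) = R.π t := by
    rw [R.gl_apply]
    congr 1
    apply Subtype.ext
    rw [conjGL_val]
    have h6 : γ.1 * t.1 = t.1 * γ.1 := by
      have h7 : t.1 = m • (1 : Matrix (Fin 2) (Fin 2) F) + c • γ.1 := by
        ext i j
        fin_cases i <;> fin_cases j
        · show m + c * γ.1 0 0 = _
          simp
        · show c * γ.1 0 1 = _
          simp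
        · show c * γ.1 1 0 = _
          simp
        · show m + c * γ.1 1 1 = _
          simp
      rw [h7]
      simp only [Matrix.mul_add, Matrix.add_mul, Matrix.mul_smul, Matrix.smul_mul, Matrix.mul_one, Matrix.one_mul]
    rw [h6, Matrix.mul_assoc]
    have : γ.1 * γ⁻¹.1 = 1 := by rw [← Units.val_mul, mul_inv_cancel]; rfl
    rw [this, Matrix.mul_one]
  rw [← hγ] at htc
  have h8 := FFPsl.conj_of_psi htc
  exact h.zero ht3 (mul_inv_eq_iff_eq_mul.1 h8)

/-- `K ≅ SL₂(q)`, `q` even -/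
theorem false_sl (h : Hyp ρ K x e) {F : Type*} [Field F] [Fintype F] [CharP F 2] (h4 : 4 ≤ Fintype.card F)
    (φ : Matrix.SpecialLinearGroup (Fin 2) F ≃* K) : False := by
  obtain ⟨α, hα⟩ : ∃ α, α = (MulAut.conjNormal e : MulAut K) := ⟨_, rfl⟩
  have hαc : ∀ y : K, ((α y : K) : H) = e * y * e⁻¹ := by
    intro y
    rw [hα, MulAut.conjNormal_apply]
  have hαα : ∀ y, α (α y) = y := by
    intro y
    rw [hα, ← MulAut.mul_apply, psi_sq h]; rfl
  by_cases hg : ∃ g : GL (Fin 2) F, ∀ x, α (φ x) = φ (conjGL g x)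
  · obtain ⟨g, hg⟩ := hg
    obtain ⟨s, hs⟩ := L2Model.exists_conj g
    have hy : MulAut.conj (φ s) = (MulAut.conjNormal e : MulAut K) := by
      rw [← hα]
      refine MulEquiv.ext fun y => ?_
      obtain ⟨z, rfl⟩ := φ.surjective y
      rw [hg, hs, MulAut.conj_apply, MulAut.conj_apply, map_mul, map_mul, map_inv]
    have hZ : Subgroup.center K = ⊥ := by
      rw [eq_bot_iff]
      intro z hz
      have h1 : φ.symm z ∈ Subgroup.center (Matrix.SpecialLinearGroup (Fin 2) F) := by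
        rw [Subgroup.mem_center_iff] at hz ⊢
        intro w
        apply φ.injective
        rw [map_mul, map_mul, φ.apply_symm_apply]
        exact hz _
      rw [center_sl2, mem_bot] at h1
      rw [mem_bot, ← φ.apply_symm_apply z, h1, map_one]
    refine tet_of_inner h hZ hy fun hyy hy1 => ?_
    have hss : s * s = 1 := φ.injective (by rw [map_mul, hyy, map_one])
    have hs1 : s ≠ 1 := fun h1 => hy1 (by rw [h1, map_one])
    -- `q = 4`
    obtain ⟨ρ', hρ'⟩ : ∃ ρ' : Matrix.SpecialLinearGroup (Fin 2) F →* MulAut V,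
      ρ' = ρ.comp (K.subtype.comp φ.toMonoidHom) := ⟨_, rfl⟩
    have hρ'' : ∀ z, ρ' z = ρ (φ z : H) := fun z => by rw [hρ']; rfl
    obtain ⟨y, hy, hay, hq⟩ := sl2_exists h4 h.sq ρ' (by
      obtain ⟨v, hv⟩ := h.moved (y := x) (fun h3 => h.x_ne (by rw [h3, one_mul]))
      refine ⟨φ.symm ⟨x, h.hx⟩, v, ?_⟩
      rw [hρ'', φ.apply_symm_apply]
      exact hv) hss hs1
    have hfx : fx ρ' y = fx ρ (φ y : H) := by
      ext v
      rw [mem_fx, mem_fx, hρ'']
    have hoy : Odd (orderOf (φ y : H)) := by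
      rw [Subgroup.orderOf_coe, MulEquiv.orderOf_eq]; exact hy
    have hey : e * (φ y : H) * e⁻¹ = (φ y : H)⁻¹ := by
      rw [← hαc, hg, hs, MulAut.conj_apply, hay, map_inv]; rfl
    have h6 := half' ρ hoy hey
    rw [hfx] at hq
    have h7 : Fintype.card F ^ 2 ≤ 4 ^ 2 := hq.trans (h6.trans (Nat.pow_le_pow_left h.hi 2))
    have h8 : Fintype.card F = 4 := by
      have := (Nat.pow_le_pow_iff_left (by norm_num)).1 h7
      omega
    -- a primitive cube root of 1
    obtain ⟨m, hm⟩ : ∃ m : F, m * m + m + 1 = 0 := by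
      classical
      have hcu : Fintype.card Fˣ = 3 := by rw [Fintype.card_units, h8]
      have : Fact (Nat.Prime 3) := ⟨Nat.prime_three⟩
      obtain ⟨m, hm⟩ := exists_prime_orderOf_dvd_card (G := Fˣ) 3 (by rw [hcu])
      refine ⟨m, ?_⟩
      have h9 : m ^ 3 = 1 := by rw [← hm]; exact pow_orderOf_eq_one m
      have h10 : (m : F) ^ 3 = 1 := by rw [← Units.val_pow_eq_pow_val, h9, Units.val_one]
      have h11 : (m : F) - 1 ≠ 0 := by
        intro h12
        have h13 : m = 1 := Units.ext (sub_eq_zero.1 h12)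
        rw [h13, orderOf_one] at hm
        omega
      have h12 : ((m : F) - 1) * ((m : F) * m + m + 1) = 0 := by linear_combination h10
      exact (mul_eq_zero.1 h12).resolve_left h11
    obtain ⟨j, w, t1, t2, t3⟩ := exists_tet_sl hm hss hs1
    refine ⟨φ j, φ w, ?_, ?_, ?_⟩
    · rw [← t1, map_mul, map_mul, map_inv]
    · rw [← map_inv, ← map_mul, ← map_mul, t2, map_mul]
    · rw [MulEquiv.orderOf_eq, t3]
  · obtain ⟨K₀, f, hcard, hf, hfix⟩ := PumpPsl.exists_fix (π := φ.toMonoidHom) φ.bijective hαα hg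
    -- an element of order 3 of `SL₂(K₀)`
    let z : Matrix.SpecialLinearGroup (Fin 2) K₀ := mk 0 (-1) 1 (-1) (by ring)
    have hz : orderOf z = 3 := by
      have : Fact (Nat.Prime 3) := ⟨Nat.prime_three⟩
      apply orderOf_eq_prime
      · refine ext_ent ?_ ?_ ?_ ?_
        · rw [pow_succ, pow_two, ent_mul, ent_mul, ent_mul]
          show ((0 : K₀) * 0 + (-1) * 1) * 0 + (0 * (-1) + (-1) * (-1)) * 1 = 1
          ring
        · rw [pow_succ, pow_two, ent_mul, ent_mul, ent_mul]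
          show ((0 : K₀) * 0 + (-1) * 1) * (-1) + (0 * (-1) + (-1) * (-1)) * (-1) = 0
          ring
        · rw [pow_succ, pow_two, ent_mul, ent_mul, ent_mul]
          show ((1 : K₀) * 0 + (-1) * 1) * 0 + (1 * (-1) + (-1) * (-1)) * 1 = 0
          ring
        · rw [pow_succ, pow_two, ent_mul, ent_mul, ent_mul]
          show ((1 : K₀) * 0 + (-1) * 1) * (-1) + (1 * (-1) + (-1) * (-1)) * (-1) = 1
          ring
      · intro h1
        have := congrArg (fun y => ent y 1 0) h1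
        exact one_ne_zero this
    have hfz : orderOf ((f z : K) : H) = 3 := by
      rw [Subgroup.orderOf_coe, orderOf_injective f hf, hz]
    refine h.zero hfz ?_
    have h1 : α (f z) = f z := (hfix _).2 ⟨z, rfl⟩
    have h2 := congrArg Subtype.val h1
    rw [hαc] at h2
    exact mul_inv_eq_iff_eq_mul.1 h2

open Cfsg.Agent.SporRec.J1.Defs in
/-- `K ≅ J₁` -/
theorem false_jone (h : Hyp ρ K x e) (hJ : Local K) {k : K} (hk : orderOf k = 2) : False := by
  obtain ⟨g, hg⟩ := JInner.inner hJ k hk (MulAut.conjNormal e : MulAut K)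
  have hge : ∀ l : K, e * (l : H) * e⁻¹ = (g : H) * l * (g : H)⁻¹ := by
    intro l
    have h1 := congrArg Subtype.val (hg l)
    rw [MulAut.conjNormal_apply] at h1
    exact h1
  have hs : IsSimpleGroup K := (JFacts.isJ1_of_local hJ hk).1
  have hgg : g * g = 1 := by
    have h1 : g * g ∈ Subgroup.center K := by
      rw [Subgroup.mem_center_iff]
      intro l
      apply Subtype.ext
      have h2 := hge (g * l * g⁻¹)
      have h3 := hge l
      have h4 : ((g * l * g⁻¹ : K) : H) = e * l * e⁻¹ := by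
        rw [h3]; rfl
      rw [h4] at h2
      have h5 : e * (e * (l : H) * e⁻¹) * e⁻¹ = l := by
        calc e * (e * (l : H) * e⁻¹) * e⁻¹ = (e * e) * l * (e * e)⁻¹ := by group
          _ = l := by rw [h.he]; group
      rw [h5, h3] at h2
      show (l : H) * (g * g) = g * g * l
      have h6 : (g : H) * (g * l * (g : H)⁻¹) * (g : H)⁻¹ = l := h2.symm
      calc (l : H) * (g * g) = ((g : H) * (g * l * (g : H)⁻¹) * (g : H)⁻¹) * (g * g) := by rw [h6]
        _ = g * g * l := by group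
    have h2 : Subgroup.center K = ⊥ := by
      rcases (inferInstance : (Subgroup.center K).Normal).eq_bot_or_eq_top with h2 | h2
      · exact h2
      · exfalso
        obtain ⟨w, y, hy, hw, hw1, hwy⟩ := EmpE.Kill.exists_real hJ hk
        have h3 : w ∈ Subgroup.center K := by rw [h2]; exact mem_top w
        rw [← (Subgroup.mem_center_iff.1 h3 y), mul_inv_cancel_right] at hwy
        have h4 : y * y = 1 := by nth_rewrite 1 [hwy]; exact inv_mul_cancel y
        have h5 : orderOf y ∣ 2 := orderOf_dvd_of_pow_eq_one (by rw [pow_two, h4])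
        rw [hy] at h5
        norm_num at h5
    rwa [h2, mem_bot] at h1
  have hg1 : g ≠ 1 := by
    rintro rfl
    have h1 := hge ⟨x, h.hx⟩
    rw [h.hex] at h1
    have h2 : x⁻¹ = x := by
      rw [h1]
      show (1 : H) * x * (1 : H)⁻¹ = x
      group
    exact h.x_ne (by have h3 := inv_mul_cancel x; rwa [h2] at h3)
  obtain ⟨w, y, hy, hw, hw1, hwy⟩ := EmpE.Kill.exists_real hJ hk
  obtain ⟨a, ha⟩ := hJ.conj w g (JInner.two_of_sq hw hw1) (JInner.two_of_sq hgg hg1)
  have hy' : orderOf ((a * y * a⁻¹ : K) : H) = 19 := by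
    rw [Subgroup.orderOf_coe, ← hy]
    exact orderOf_injective (MulAut.conj a).toMonoidHom (MulAut.conj a).injective y
  have hey : e * ((a * y * a⁻¹ : K) : H) * e⁻¹ = ((a * y * a⁻¹ : K) : H)⁻¹ := by
    rw [hge, ← ha]
    have h1 : a * w * a⁻¹ * (a * y * a⁻¹) * (a * w * a⁻¹)⁻¹ = (a * y * a⁻¹)⁻¹ := by
      calc a * w * a⁻¹ * (a * y * a⁻¹) * (a * w * a⁻¹)⁻¹ = a * (w * y * w⁻¹) * a⁻¹ := by group
        _ = _ := by rw [hwy]; group
    exact congrArg Subtype.val h1
  have hne : ((a * y * a⁻¹ : K) : H) ≠ 1 := by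
    intro h1
    rw [h1, orderOf_one] at hy'
    omega
  rcases (FFPsl.small h.sq h.he (p := 19) (by norm_num) (by norm_num) hy' (h.moved hne) hey h.hi).1 with h1 | h1 <;>
    omega

/-- **LEMMA K** -/
theorem false_of (h : Hyp ρ K x e) (hK : KZero K) : False := by
  rcases hK with ⟨F, _, _, hp, h5, ⟨e⟩⟩ | ⟨F, _, _, f, hf', hF, ⟨e⟩⟩ | hK | ⟨hJ, k, hk'⟩
  · have hodd : Odd (Fintype.card F) := hp.odd_of_ne_two (by omega)
    have R := Cfsg.Agent.GH.L2Aut.Rep.ofEquiv (Cfsg.Agent.GH.L2Aut.two_ne_zero_of_odd hodd) e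
    have hp' : (Nat.card F).Prime := by rw [Nat.card_eq_fintype_card]; exact hp
    exact false_psl h hp' (by rw [Nat.card_eq_fintype_card]; exact h5) R
  · have hch : CharP F 2 := PumpMain.charP_two hF
    obtain ⟨g⟩ := WeakTI.PslTwo.nonempty_equiv (F := F)
    refine false_sl h ?_ (g.trans e.symm)
    rw [hF]
    calc 4 = 2 ^ 2 := by norm_num
      _ ≤ 2 ^ f := Nat.pow_le_pow_right (by norm_num) hf'
  · apply CompMain.not_three_dvd hK
    rw [← h.hx3, ← Subgroup.orderOf_mk x h.hx]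
    exact orderOf_dvd_natCard _
  · exact false_jone h hJ hk'

end Cfsg.Agent.OddCyclic.BcP.LemK
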