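import Cfsg.Agent.OddCyclic.Bc.NFCases
import Cfsg.Agent.OddCyclic.BcP.LemK
import Cfsg.Agent.OddCyclic.L32.LemKBase

/-!
# S0342, [Bc], type (b'), 2B: an inverted element of order 3

`norm_or`: `H` with cyclic odd Sylow subgroups and `O₂(H) = 1`, `x` of order 3 inverted by an involution: `⟨x⟩ ⊴ H` or
`x` lies in a normal simple subgroup of the list.
`normal_of_lk`: in the situation of LEMMA K (all `K`) `⟨x⟩ ⊴ H`.
-/

set_option autoImplicit false
set_option linter.unusedSectionVars false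

namespace Cfsg.Agent.OddCyclic.BcP.NormOr

open Subgroup Cfsg Cfsg.Agent.OddCyclic.T1Defs Cfsg.Agent.OddCyclic.FFStruct Cfsg.Agent.OddCyclic.CompBasic
  Cfsg.Agent.OddCyclic.FFBasic Cfsg.Agent.OddCyclic.T1Module
open Cfsg.Agent.OddCyclic.PumpMain (KZero)
open Cfsg.Agent.SignalizersComponents.Components
open Cfsg.Agent.OddCyclic.Bc.NFCases (conj_mem_zpowers comm_comm mem_fitting_of)

variable {H : Type*} [Group H] [Finite H]

theorem norm_or (cyc : OddCyc H) (kz : ∀ J : Subgroup H, IsSimpleGroup J → (∃ a b : J, a * b ≠ b * a) → KZero J)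
    (core : pCore 2 H = ⊥) {x e : H} (hx3 : orderOf x = 3) (he : e * e = 1) (hex : e * x * e⁻¹ = x⁻¹) :
    (zpowers x).Normal ∨ ∃ K : Subgroup H, K.Normal ∧ KZero K ∧ x ∈ K := by
  have hkz : ∀ K : Subgroup H, IsComponent K → KZero K := by
    intro K hK
    refine kz K (simple_component cyc core hK) ?_
    by_contra hcon
    push Not at hcon
    exact quasisimple_not_isMulCommutative hK.2 ⟨⟨hcon⟩⟩
  by_cases hs : ∃ K : Subgroup H, IsComponent K ∧ ¬ Cfsg.Lie.IsoSuzuki K
  · obtain ⟨K, hK, hKs⟩ := hs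
    exact Or.inr ⟨K, component_normal cyc hK, hkz K hK,
      mem_of_orderOf cyc Nat.prime_three (by norm_num) (component_normal cyc hK) (three_dvd_of_kZero (hkz K hK) hKs) hx3⟩
  left
  push Not at hs
  have hx3' : x * x * x = 1 := by
    have := pow_orderOf_eq_one x
    rw [hx3, pow_succ, pow_two] at this
    exact this
  have hxx : x * x = x⁻¹ := eq_inv_of_mul_eq_one_left hx3'
  have hei : e⁻¹ = e := inv_eq_of_mul_eq_one_left he
  -- `x⁻¹ ⋯`: `x` is a commutator
  have hcomm : x * e * x⁻¹ * e⁻¹ = x⁻¹ := by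
    have h1 : e * x⁻¹ * e⁻¹ = x := by
      have : e * x⁻¹ * e⁻¹ = (e * x * e⁻¹)⁻¹ := by group
      rw [this, hex, inv_inv]
    calc x * e * x⁻¹ * e⁻¹ = x * (e * x⁻¹ * e⁻¹) := by group
      _ = x⁻¹ := by rw [h1, hxx]
  have hFn : (fittingSubgroup H).Normal := Cfsg.Agent.Lib.Cores.fittingSubgroup_normal
  have hFc := isCyclic_fitting cyc core
  have hxF : x⁻¹ ∈ fittingSubgroup H := by
    apply mem_fitting_of
    · intro u hu
      have h1 := comm_comm hFn hFc x e hu
      rwa [hcomm] at h1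
    · intro K hK
      have hKs := hs K hK
      have hKn := component_normal cyc hK
      have hcen := inter_centralizer cyc core hK
      -- involutions are inner on `K`
      have inn : ∀ a : H, a * a = 1 → ∃ g ∈ K, g⁻¹ * a ∈ centralizer (K : Set H) := by
        intro a ha
        exact (Bc.NFSz.inn_of (A := zpowers a) cyc core hK hKs (fun b hb => by
          obtain ⟨n, rfl⟩ := mem_zpowers_iff.1 hb
          rw [← zpow_add, ← two_mul, zpow_mul, zpow_ofNat, pow_two, ha, one_zpow])).dec a (mem_zpowers a)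
      obtain ⟨g, hg, hgc⟩ := inn e he
      obtain ⟨k, hk, hkc⟩ := inn (x * e * x⁻¹) (by
        calc x * e * x⁻¹ * (x * e * x⁻¹) = x * (e * e) * x⁻¹ := by group
          _ = 1 := by rw [he]; group)
      have hCn : (centralizer (K : Set H)).Normal := by infer_instance
      -- `x⁻¹ = (k g) c`
      obtain ⟨c, hc, hxc⟩ : ∃ c ∈ centralizer (K : Set H), x⁻¹ = (k * g) * c := by
        refine ⟨(k * g)⁻¹ * x⁻¹, ?_, by group⟩
        have h1 : (k * g)⁻¹ * x⁻¹ = (g⁻¹ * (k⁻¹ * (x * e * x⁻¹)) * g⁻¹⁻¹) * (g⁻¹ * e) := by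
          calc (k * g)⁻¹ * x⁻¹ = (k * g)⁻¹ * (x * e * x⁻¹ * e⁻¹) := by rw [hcomm]
            _ = (k * g)⁻¹ * (x * e * x⁻¹ * e) := by rw [hei]
            _ = (g⁻¹ * (k⁻¹ * (x * e * x⁻¹)) * g⁻¹⁻¹) * (g⁻¹ * e) := by group
        rw [h1]
        exact mul_mem (hCn.conj_mem _ hkc g⁻¹) hgc
      have hkg : k * g ∈ K := mul_mem hk hg
      have hcc : (k * g) * c = c * (k * g) := (mem_centralizer_iff.1 hc) _ hkg
      have h3 : (k * g) ^ 3 = 1 := by
        have h4 : ((k * g) * c) ^ 3 = (k * g) ^ 3 * c ^ 3 := Commute.mul_pow hcc 3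
        have h5 : (x⁻¹) ^ 3 = 1 := by rw [inv_pow, ← hx3, pow_orderOf_eq_one, inv_one]
        rw [← hxc, h5] at h4
        have h6 : (k * g) ^ 3 = (c ^ 3)⁻¹ := eq_inv_of_mul_eq_one_left h4.symm
        have h7 : (k * g) ^ 3 ∈ centralizer (K : Set H) := by rw [h6]; exact inv_mem (pow_mem hc 3)
        exact hcen _ (pow_mem hkg 3) h7
      have h4 : k * g = 1 := by
        by_contra h5
        have h6 : orderOf (k * g) = 3 := orderOf_eq_prime h3 h5
        apply CompMain.not_three_dvd hKs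
        rw [← h6]
        exact Subgroup.orderOf_dvd_natCard K hkg
      rw [hxc, h4, one_mul]
      exact hc
  have hxF' : x ∈ fittingSubgroup H := by
    have := inv_mem hxF
    rwa [inv_inv] at this
  refine ⟨fun u hu g => ?_⟩
  obtain ⟨n, rfl⟩ := mem_zpowers_iff.1 hu
  rw [← conj_zpow]
  exact zpow_mem (conj_mem_zpowers hFn hFc hxF' g) n

variable {V : Type*} [CommGroup V] [Finite V] {ρ : H →* MulAut V}

/-- **2B, first step** -/
theorem normal_of_lk (kz : ∀ J : Subgroup H, IsSimpleGroup J → (∃ a b : J, a * b ≠ b * a) → KZero J)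
    (core : pCore 2 H = ⊥) {x e : H} (h : ∀ K : Subgroup H, x ∈ K → L32.LemKBase.Lk ρ K x e) :
    (zpowers x).Normal := by
  have h0 := h _ (mem_zpowers x)
  rcases norm_or h0.cyc kz core h0.x3 h0.e2 h0.ex with h1 | ⟨K, hKn, hK, hxK⟩
  · exact h1
  · exfalso
    have h2 := h K hxK
    exact LemK.false_of (ρ := ρ) (K := K) (x := x) (e := e)
      ⟨h2.inj, h2.sq, h2.cyc, h2.xK, h2.x3, h2.e2, h2.ex, h2.idx, h2.a, fun f hf1 hxf g hg => h2.b f hxf hf1 g hg⟩ hK

end Cfsg.Agent.OddCyclic.BcP.NormOr
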