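import Cfsg.Agent.OddCyclic.BcP.EhOf
import Cfsg.Agent.OddCyclic.BcP.Conj
import Cfsg.Agent.OddCyclic.BcP.NormOr
import Cfsg.Agent.OddCyclic.RedFinal
import Cfsg.Agent.OddCyclic.RedAct
import Cfsg.Agent.OddCyclic.EmpFrame
import Cfsg.Agent.OddCyclic.EmpNSBase

/-!
# S0342, leaf [Bc], type (b'), 2B: `V = ⟨Z^{N_G(J)}⟩`

* `ti` : `f, f^g ∈ I^#` implies `g ∈ N_G(L)`;
* `moved` : `ξ` moves `V = vv S`;
* `main` : `V ≤ W`, `C_V(ξ) = 1`, `⟨ξ⟩` is normal in `N_G(J)` modulo `C(V)`, the element `e`.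
-/

set_option autoImplicit false
set_option linter.unusedSectionVars false

namespace Cfsg.Agent.OddCyclic.BcP.Sec2

open Subgroup Cfsg Cfsg.Agent.ZN Cfsg.Agent.MinSimple
open Cfsg.Agent.OddCyclic.T1Defs (OddCyc)
open Cfsg.Agent.MinSimple.EmptySix (zc_le_vv vv_le_zj normalizer_jj_le_vv vv)
open Cfsg.Agent.OddCyclic.RedFinal (NoBlk)
open Cfsg.Agent.OddCyclic.RedX (Loc)

universe u

variable {G : Type u} [Group G] [Finite G] {S : Sylow 2 G} {T L O₁ O A : Subgroup G} {ξ x : G} {p : Fin 3 → G}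
  {N : Fin 3 → Subgroup G}

section ti

variable {M N₁ N₂ H₁ I ZJ NJ : Subgroup G} {f : N₁ ≃* N₂} {q y : G}

/-- **TI** -/
theorem ti (h : Tr S T L O₁ O A ξ x p N) (E : Ee.Eh (normalizer (L : Set G)) L T N₁ N₂ H₁ I ZJ NJ f q y) {i g : G}
    (hi : i ∈ I) (hi1 : i ≠ 1) (hg : g * i * g⁻¹ ∈ I) : g ∈ normalizer (L : Set G) := by
  have hgi1 : g * i * g⁻¹ ≠ 1 := fun h1 => hi1 (conj_eq_one_iff.1 h1)
  -- `L ≤ C(i) = C(i^g)^{g⁻¹} ≤ N(L^{g⁻¹})`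
  have h1 : ∀ l ∈ L, g * l * g⁻¹ ∈ normalizer (L : Set G) := by
    intro l hl
    apply E.uniq _ hg hgi1
    have h2 := E.LI l hl i hi
    calc g * l * g⁻¹ * (g * i * g⁻¹) = g * (l * i) * g⁻¹ := by group
      _ = g * (i * l) * g⁻¹ := by rw [h2]
      _ = g * i * g⁻¹ * (g * l * g⁻¹) := by group
  have h2 : ∀ l ∈ L, g⁻¹ * l * g ∈ normalizer (L : Set G) := by
    intro l hl
    apply E.uniq _ hi hi1
    have h2 := E.LI l hl _ hg
    calc g⁻¹ * l * g * i = g⁻¹ * (l * (g * i * g⁻¹)) * g := by group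
      _ = g⁻¹ * ((g * i * g⁻¹) * l) * g := by rw [h2]
      _ = i * (g⁻¹ * l * g) := by group
  -- `N := L ∩ L^{g⁻¹}` is normal in `L` and contains an element of order 3
  set L' : Subgroup G := L.map (MulAut.conj g⁻¹).toMonoidHom with hL'
  have hmem : ∀ z : G, z ∈ L' ↔ g * z * g⁻¹ ∈ L := by
    intro z
    rw [hL', Subgroup.mem_map]
    constructor
    · rintro ⟨l, hl, rfl⟩
      have e : g * ((MulAut.conj g⁻¹).toMonoidHom l) * g⁻¹ = l := by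
        change g * (g⁻¹ * l * g⁻¹⁻¹) * g⁻¹ = l
        group
      rw [e]; exact hl
    · intro hz
      exact ⟨_, hz, by change g⁻¹ * (g * z * g⁻¹) * g⁻¹⁻¹ = z; group⟩
  have hLN : L ≤ normalizer ((L ⊓ L' : Subgroup G) : Set G) := by
    refine Block.le_normalizer_of_forall fun l hl z hz => ?_
    refine mem_inf.2 ⟨mul_mem (mul_mem hl hz.1) (inv_mem hl), ?_⟩
    rw [hmem]
    have h3 := h1 l hl
    have h4 := (hmem z).1 hz.2
    have h5 := (mem_normalizer_iff.1 h3 _).1 h4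
    have e : g * (l * z * l⁻¹) * g⁻¹ = g * l * g⁻¹ * (g * z * g⁻¹) * (g * l * g⁻¹)⁻¹ := by group
    rw [e]
    exact h5
  have h3 : L ⊓ L' = L := by
    refine L32.eq_of_normal h.sev.perf h.sev.simp inf_le_left hLN ?_
    intro h2'
    have h4 : g⁻¹ * ξ * g ∈ L := by
      refine (h.el3 _ (h2 ξ h.ξL) ⟨1, ?_⟩).1
      have h5 : (g⁻¹ * ξ * g) ^ 3 = g⁻¹ * ξ ^ 3 * g := by
        have := conj_pow (i := 3) (a := g⁻¹) (b := ξ)
        simpa using this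
      rw [pow_one, h5, ← h.ξ3, pow_orderOf_eq_one]; group
    have h5 : g⁻¹ * ξ * g ∈ L' := by
      rw [hmem]
      have e : g * (g⁻¹ * ξ * g) * g⁻¹ = ξ := by group
      rw [e]; exact h.ξL
    obtain ⟨n, hn⟩ := h2' ⟨_, h4, h5⟩
    have h6 : (g⁻¹ * ξ * g) ^ 2 ^ n = 1 := congrArg Subtype.val hn
    have h7 : orderOf (g⁻¹ * ξ * g) = 3 := by
      have e : g⁻¹ * ξ * g = (MulAut.conj g⁻¹) ξ := by rw [MulAut.conj_apply, inv_inv]
      rw [e, MulEquiv.orderOf_eq, h.ξ3]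
    have h8 := orderOf_dvd_of_pow_eq_one h6
    rw [h7] at h8
    have h9 := Nat.prime_three.dvd_of_dvd_pow h8
    omega
  have h4 : L ≤ L' := by rw [← h3]; exact inf_le_right
  refine CompStandard.mem_normalizer_of_forall fun l hl => ?_
  exact (hmem l).1 (h4 hl)

end ti

/-- the frame of 2B -/
structure Fr (S : Sylow 2 G) (T L O₁ O A : Subgroup G) (ξ x : G) (p : Fin 3 → G) (N : Fin 3 → Subgroup G)
    (l₂ l₃ : G) (f : N 0 ≃* N 1) : Prop extends Tr S T L O₁ O A ξ x p N where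
  nb : NoBlk S
  nle : ¬ (normalizer (jj (S : Subgroup G) : Set G) ≤ normalizer (L : Set G) ∧
    centralizer (zc (S : Subgroup G) : Set G) ≤ normalizer (L : Set G))
  co : Coset.In T (ww N) L l₂ l₃
  eh : Ee.Eh (normalizer (L : Set G)) L T (N 0) (N 1) (N 0 ⊓ centralizer (jj (S : Subgroup G) : Set G))
        (zj (S : Subgroup G) ⊓ centralizer ((L ⊔ jj (S : Subgroup G) : Subgroup G) : Set G))
        (zj (S : Subgroup G)) (normalizer (jj (S : Subgroup G) : Set G)) f (p 0) ξ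

namespace Fr

variable {l₂ l₃ : G} {f : N 0 ≃* N 1}

theorem jj_eq (h : Fr S T L O₁ O A ξ x p N l₂ l₃ f) : jj T = jj (S : Subgroup G) := EhOf.jj_eq h.toTr

theorem jj_ne_bot (h : Fr S T L O₁ O A ξ x p N l₂ l₃ f) : jj (S : Subgroup G) ≠ ⊥ := by
  intro h0
  have h1 := h.co.W_le_jj (h.p_mem_ww 0)
  rw [h.jj_eq, h0, Subgroup.mem_bot] at h1
  exact h.p_ne 0 h1

theorem S_ne_bot (h : Fr S T L O₁ O A ξ x p N l₂ l₃ f) : (S : Subgroup G) ≠ ⊥ := by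
  intro h0
  apply h.jj_ne_bot
  rw [eq_bot_iff, ← h0]
  exact ChoiceBase.jj_le _

theorem isTwoLocal (h : Fr S T L O₁ O A ξ x p N l₂ l₃ f) :
    IsTwoLocal (normalizer (jj (S : Subgroup G) : Set G)) :=
  ⟨jj (S : Subgroup G), S.isPGroup'.to_le (ChoiceBase.jj_le _), h.jj_ne_bot, rfl⟩

theorem S_le (_ : Fr S T L O₁ O A ξ x p N l₂ l₃ f) : (S : Subgroup G) ≤ normalizer (jj (S : Subgroup G) : Set G) :=
  le_normalizer.trans (Basic.normalizer_le_normalizer_jj _)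

theorem locJ (h : Fr S T L O₁ O A ξ x p N l₂ l₃ f) :
    Loc (normalizer (jj (S : Subgroup G) : Set G)) (S : Subgroup G) where
  char2 := EmpFrame.char2_of_isTwoLocal h.nb.cx.char2 h.isTwoLocal
  two := S.isPGroup'
  TX := h.S_le
  syl := fun h2 => S.not_dvd_index (h2.trans (Subgroup.relIndex_dvd_index_of_le h.S_le))

theorem yc (h : Fr S T L O₁ O A ξ x p N l₂ l₃ f) :
    RedTy.YC (normalizer (jj (S : Subgroup G) : Set G)) (S : Subgroup G) (vv (S : Subgroup G)) := by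
  have h1 := RedTy.yc_mod h.locJ
  rw [h.nb.mod_eq S.isPGroup' (ZN.bau_le _)] at h1
  exact h1

/-- `S ≤ N_G(L)` implies `T = S` -/
theorem T_eq_S (h : Fr S T L O₁ O A ξ x p N l₂ l₃ f) (hS : (S : Subgroup G) ≤ normalizer (L : Set G)) :
    T = (S : Subgroup G) := by
  rw [h.T_eq]
  exact inf_eq_left.2 hS

/-- `ξ` moves `V` -/
theorem ξ_moved (h : Fr S T L O₁ O A ξ x p N l₂ l₃ f) : ξ ∉ centralizer (vv (S : Subgroup G) : Set G) := by
  intro hc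
  rw [mem_centralizer_iff] at hc
  obtain ⟨⟨z, hz⟩, hz1⟩ := (Subgroup.ne_bot_iff_exists_ne_one).1 (Basic.zc_ne_bot S.isPGroup' h.S_ne_bot)
  have hz1' : z ≠ 1 := fun h1 => hz1 (Subtype.ext h1)
  have hzV := zc_le_vv _ hz
  have hzI := h.eh.mem_I (vv_le_zj _ hzV) (hc z hzV).symm
  have hS : (S : Subgroup G) ≤ normalizer (L : Set G) := fun s hs =>
    h.eh.uniq z hzI hz1' s ((ZN.mem_zc.1 hz).2.1 s hs)
  have hT := h.T_eq_S hS
  have hp := h.p_mem 0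
  rw [hT] at hp
  exact (h.np 0).xp (hc _ (zc_le_vv _ hp)).symm

theorem exists_rep (h : Fr S T L O₁ O A ξ x p N l₂ l₃ f) :
    ∃ (H W : Type u) (_ : Group H) (_ : CommGroup W) (_ : Finite H) (_ : Finite W)
      (r : (normalizer (jj (S : Subgroup G) : Set G)) →* H) (ρ : H →* MulAut W) (ι : W →* G),
      RedRep.Rep (normalizer (jj (S : Subgroup G) : Set G)) (vv (S : Subgroup G)) r ρ ι ∧ pCore 2 H = ⊥ ∧
      (∀ J : Subgroup H, IsSimpleGroup J → (∃ a b : J, a * b ≠ b * a) → PumpMain.KZero J) := by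
  have hne : normalizer (jj (S : Subgroup G) : Set G) ≠ ⊤ := RedU.ne_top h.nb.cx h.isTwoLocal
  obtain ⟨H, W, i1, i2, i3, i4, r, ρ, ι, R, F⟩ := RedAct.exists_rep h.nb.cx.cyc h.yc
    (fun H _ f hf => FFSec.ffc h.nb.cx.cyc h.nb.cx.sec hne f hf)
  have : Fact (Nat.Prime 2) := ⟨Nat.prime_two⟩
  exact ⟨H, W, i1, i2, i3, i4, r, ρ, ι, R,
    F.core _ (Cfsg.Agent.Lib.Cores.pCore_normal 2) (Cfsg.Agent.Lib.Cores.pCore_isPGroup 2),
    FFSec.kzero_of_image h.nb.cx.sec hne r R.surj⟩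

/-- `⟨ξ⟩` is normal in `N_G(J)` modulo `C(V)` -/
theorem ξ_norm (h : Fr S T L O₁ O A ξ x p N l₂ l₃ f) : ∀ g ∈ normalizer (jj (S : Subgroup G) : Set G),
    g * ξ * g⁻¹ * ξ⁻¹ ∈ centralizer (vv (S : Subgroup G) : Set G) ∨
    g * ξ * g⁻¹ * ξ ∈ centralizer (vv (S : Subgroup G) : Set G) := by
  intro g hg
  obtain ⟨e, heT, heL, hem⟩ := h.eh.exists_e
  obtain ⟨H, W, i1, i2, i3, i4, r, ρ, ι, R, core, kz⟩ := h.exists_rep
  have hn := NormOr.normal_of_lk (ρ := ρ) (x := r ⟨ξ, h.ξJ⟩) (e := r ⟨e, h.eh.TJ heT⟩) kz core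
    (fun K hK => h.eh.lk (vv_le_zj _) (normalizer_jj_le_vv _) h.ξ_moved heT heL hem R hK)
  have h0 := h.eh.lk (vv_le_zj _) (normalizer_jj_le_vv _) h.ξ_moved heT heL hem R (mem_zpowers _)
  have h3 := h0.x3
  have hone : ∀ k : (normalizer (jj (S : Subgroup G) : Set G)), r k = 1 →
      (k : G) ∈ centralizer (vv (S : Subgroup G) : Set G) := by
    intro k hk
    rw [mem_centralizer_iff]
    intro v hv
    exact (R.r_eq_one.1 hk v hv).symm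
  have h1 := hn.conj_mem _ (mem_zpowers (r ⟨ξ, h.ξJ⟩)) (r ⟨g, hg⟩)
  obtain ⟨k, hk⟩ := mem_zpowers_iff.1 h1
  have h2 : k % 3 = 0 ∨ k % 3 = 1 ∨ k % 3 = 2 := by omega
  have h4 : (r ⟨ξ, h.ξJ⟩) ^ (k % 3) = (r ⟨ξ, h.ξJ⟩) ^ k := by
    have := zpow_mod_orderOf (r ⟨ξ, h.ξJ⟩) k
    rw [h3] at this
    exact this
  rw [← h4] at hk
  rcases h2 with h2 | h2 | h2
  · exfalso
    rw [h2, zpow_zero] at hk
    have h5 := conj_eq_one_iff.1 hk.symm
    rw [h5, orderOf_one] at h3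
    omega
  · left
    apply hone (⟨g, hg⟩ * ⟨ξ, h.ξJ⟩ * ⟨g, hg⟩⁻¹ * ⟨ξ, h.ξJ⟩⁻¹)
    rw [map_mul, map_mul, map_mul, map_inv, map_inv, ← hk, h2, zpow_one, mul_inv_cancel]
  · right
    apply hone (⟨g, hg⟩ * ⟨ξ, h.ξJ⟩ * ⟨g, hg⟩⁻¹ * ⟨ξ, h.ξJ⟩)
    rw [map_mul, map_mul, map_mul, map_inv, ← hk, h2]
    have h5 := pow_orderOf_eq_one (r ⟨ξ, h.ξJ⟩)
    rw [h3] at h5
    have h6 : (r ⟨ξ, h.ξJ⟩) ^ (2 : ℤ) * r ⟨ξ, h.ξJ⟩ = (r ⟨ξ, h.ξJ⟩) ^ 3 := by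
      rw [show (3 : ℕ) = 2 + 1 from rfl, pow_succ]
      congr 1
      exact zpow_ofNat _ 2
    rw [h6, h5]

/-- `C_V(ξ) = 1` -/
theorem fpf (h : Fr S T L O₁ O A ξ x p N l₂ l₃ f) : ∀ v ∈ vv (S : Subgroup G), ξ * v = v * ξ → v = 1 := by
  have hVN := normalizer_jj_le_vv (S : Subgroup G)
  -- `C_V(ξ)` is normal in `N_G(J)`
  have hD : ∀ g ∈ normalizer (jj (S : Subgroup G) : Set G), ∀ v ∈ vv (S : Subgroup G), ξ * v = v * ξ →
      g * v * g⁻¹ ∈ vv (S : Subgroup G) ∧ ξ * (g * v * g⁻¹) = g * v * g⁻¹ * ξ := by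
    intro g hg v hv hξ
    refine ⟨CompStandard.forall_of_mem_normalizer (hVN hg) _ hv, ?_⟩
    have hgi : g⁻¹ ∈ normalizer (jj (S : Subgroup G) : Set G) := inv_mem hg
    have key : (g⁻¹ * ξ * g) * v = v * (g⁻¹ * ξ * g) := by
      rcases h.ξ_norm g⁻¹ hgi with h1 | h1
      · have h2 := mem_centralizer_iff.1 h1 v hv
        rw [inv_inv] at h2
        calc (g⁻¹ * ξ * g) * v = (g⁻¹ * ξ * g * ξ⁻¹) * (ξ * v) := by group
          _ = (g⁻¹ * ξ * g * ξ⁻¹) * (v * ξ) := by rw [hξ]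
          _ = ((g⁻¹ * ξ * g * ξ⁻¹) * v) * ξ := by group
          _ = (v * (g⁻¹ * ξ * g * ξ⁻¹)) * ξ := by rw [h2]
          _ = v * (g⁻¹ * ξ * g) := by group
      · have h2 := mem_centralizer_iff.1 h1 v hv
        rw [inv_inv] at h2
        have h3 : ξ⁻¹ * v = v * ξ⁻¹ := by
          calc ξ⁻¹ * v = ξ⁻¹ * (v * ξ) * ξ⁻¹ := by group
            _ = ξ⁻¹ * (ξ * v) * ξ⁻¹ := by rw [hξ]
            _ = v * ξ⁻¹ := by group
        calc (g⁻¹ * ξ * g) * v = (g⁻¹ * ξ * g * ξ) * (ξ⁻¹ * v) := by group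
          _ = (g⁻¹ * ξ * g * ξ) * (v * ξ⁻¹) := by rw [h3]
          _ = ((g⁻¹ * ξ * g * ξ) * v) * ξ⁻¹ := by group
          _ = (v * (g⁻¹ * ξ * g * ξ)) * ξ⁻¹ := by rw [h2]
          _ = v * (g⁻¹ * ξ * g) := by group
    calc ξ * (g * v * g⁻¹) = g * ((g⁻¹ * ξ * g) * v) * g⁻¹ := by group
      _ = g * (v * (g⁻¹ * ξ * g)) * g⁻¹ := by rw [key]
      _ = g * v * g⁻¹ * ξ := by group
  intro v hv hξ
  by_contra hv1
  -- `N_G(J) ≤ M`
  have hNM : normalizer (jj (S : Subgroup G) : Set G) ≤ normalizer (L : Set G) := by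
    intro g hg
    obtain ⟨h1, h2⟩ := hD g hg v hv hξ
    exact ti h.toTr h.eh (h.eh.mem_I (vv_le_zj _ hv) hξ) hv1 (h.eh.mem_I (vv_le_zj _ h1) h2)
  -- a fixed point of `S`
  set D : Subgroup G := vv (S : Subgroup G) ⊓ centralizer ({ξ} : Set G) with hDdef
  have hmemD : ∀ u, u ∈ D ↔ u ∈ vv (S : Subgroup G) ∧ ξ * u = u * ξ := by
    intro u
    rw [hDdef, mem_inf, mem_centralizer_singleton_iff]
    exact and_congr_right fun _ => eq_comm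
  have hSD : (S : Subgroup G) ≤ normalizer (D : Set G) := by
    refine Block.le_normalizer_of_forall fun s hs u hu => ?_
    rw [hmemD] at hu ⊢
    exact hD s (h.S_le hs) u hu.1 hu.2
  have hDS : D ≤ (S : Subgroup G) := inf_le_left.trans ((vv_le_zj _).trans ((zj_le_jj _).trans (ChoiceBase.jj_le _)))
  obtain ⟨z, hz, hz1, hzS⟩ : ∃ z ∈ D, z ≠ 1 ∧ ∀ s ∈ (S : Subgroup G), s * z = z * s := by
    have hbot : ∀ X : Subgroup G, X ≤ normalizer ((⊥ : Subgroup G) : Set G) := fun X => by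
      refine Block.le_normalizer_of_forall fun g _ u hu => ?_
      rw [Subgroup.mem_bot] at hu ⊢
      rw [hu]; group
    obtain ⟨z, hz, hz1, hzS⟩ := EmpNSBase.exists_fix (V := D) (F := ⊥) S.isPGroup' (S.isPGroup'.to_le hDS) hSD
      (hbot _) (hbot _) bot_le (fun h1 => hv1 (by
        have h2 : v ∈ D := (hmemD v).2 ⟨hv, hξ⟩
        rw [← h1, Subgroup.mem_bot] at h2
        exact h2))
    refine ⟨z, hz, fun h1 => hz1 (Subgroup.mem_bot.2 h1), fun s hs => ?_⟩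
    have h2 := hzS s hs
    rw [Subgroup.mem_bot, mul_inv_eq_one, mul_inv_eq_iff_eq_mul] at h2
    exact h2
  have hzD := (hmemD z).1 hz
  have hzI := h.eh.mem_I (vv_le_zj _ hzD.1) hzD.2
  apply h.nle
  refine ⟨hNM, fun g hg => ?_⟩
  refine h.eh.uniq z hzI hz1 g ?_
  have hzz : z ∈ zc (S : Subgroup G) := by
    rw [ZN.mem_zc]
    exact ⟨hDS hz, hzS, (ChoiceBase.mem_zj.1 (vv_le_zj _ hzD.1)).2.1⟩
  exact (mem_centralizer_iff.1 hg z hzz).symm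

/-- `V ≤ W` -/
theorem V_le (h : Fr S T L O₁ O A ξ x p N l₂ l₃ f) : vv (S : Subgroup G) ≤ ww N := by
  have hξN : ξ ∈ normalizer (vv (S : Subgroup G) : Set G) := normalizer_jj_le_vv _ h.ξJ
  have hcomm : ∀ a ∈ vv (S : Subgroup G), ∀ b ∈ vv (S : Subgroup G), a * b = b * a := fun a ha b hb =>
    h.eh.comm (vv_le_zj _ ha) (vv_le_zj _ hb)
  let φ : vv (S : Subgroup G) → vv (S : Subgroup G) := fun v => ⟨ξ * v * ξ⁻¹ * (v : G)⁻¹,
    mul_mem (CompStandard.forall_of_mem_normalizer hξN _ v.2) (inv_mem v.2)⟩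
  have hinj : Function.Injective φ := by
    intro a b hab
    have h1 : ξ * (a : G) * ξ⁻¹ * (a : G)⁻¹ = ξ * b * ξ⁻¹ * (b : G)⁻¹ := congrArg Subtype.val hab
    have h2 : (b : G)⁻¹ * a = 1 := by
      apply h.fpf _ (mul_mem (inv_mem b.2) a.2)
      have h3 : ξ * (b : G) * ξ⁻¹ ∈ vv (S : Subgroup G) := CompStandard.forall_of_mem_normalizer hξN _ b.2
      have h4 : ξ * (a : G) * ξ⁻¹ = ξ * b * ξ⁻¹ * (b : G)⁻¹ * a := by rw [← h1]; group
      have h5 := hcomm _ h3 _ (mul_mem (inv_mem b.2) a.2)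
      have h6 : ξ * ((b : G)⁻¹ * a) * ξ⁻¹ = (b : G)⁻¹ * a := by
        calc ξ * ((b : G)⁻¹ * a) * ξ⁻¹ = (ξ * b * ξ⁻¹)⁻¹ * (ξ * a * ξ⁻¹) := by group
          _ = (ξ * b * ξ⁻¹)⁻¹ * ((ξ * b * ξ⁻¹) * ((b : G)⁻¹ * a)) := by rw [h4]; group
          _ = (b : G)⁻¹ * a := by group
      exact mul_inv_eq_iff_eq_mul.1 h6
    exact Subtype.ext (inv_mul_eq_one.1 h2).symm
  have hsurj := Finite.surjective_of_injective hinj
  have hJ := h.jj_eq
  have hZ : zj T = zj (S : Subgroup G) := by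
    ext z; rw [ChoiceBase.mem_zj, ChoiceBase.mem_zj, hJ]
  intro v hv
  obtain ⟨w, hw⟩ := hsurj ⟨v, hv⟩
  have h1 : ξ * (w : G) * ξ⁻¹ * (w : G)⁻¹ = v := congrArg Subtype.val hw
  have h2 : (w : G) ∈ zj T := by rw [hZ]; exact vv_le_zj _ w.2
  have hξJ : ξ ∈ normalizer (jj T : Set G) := by rw [hJ]; exact h.ξJ
  have h3 := (h.co.comm_mem h.ξL hξJ h2).1
  rw [h1] at h3
  exact h3

end Fr

/-- **2B** -/
theorem main (h : Tr S T L O₁ O A ξ x p N) (nb : NoBlk S)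
    (nle : ¬ (normalizer (jj (S : Subgroup G) : Set G) ≤ normalizer (L : Set G) ∧
      centralizer (zc (S : Subgroup G) : Set G) ≤ normalizer (L : Set G))) :
    ∃ e : G, vv (S : Subgroup G) ≤ ww N ∧ (∀ v ∈ vv (S : Subgroup G), ξ * v = v * ξ → v = 1) ∧ e ∈ T ∧ e ∈ L ∧
      e * e ∈ centralizer (vv (S : Subgroup G) : Set G) ∧ e * ξ * e⁻¹ * ξ ∈ centralizer (vv (S : Subgroup G) : Set G) ∧
      ∀ g ∈ normalizer (jj (S : Subgroup G) : Set G),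
        g * ξ * g⁻¹ * ξ⁻¹ ∈ centralizer (vv (S : Subgroup G) : Set G) ∨
        g * ξ * g⁻¹ * ξ ∈ centralizer (vv (S : Subgroup G) : Set G) := by
  obtain ⟨l₂, l₃, co⟩ := Conj.exists_in h
  obtain ⟨f, eh, -⟩ := EhOf.eh h nb.cx.cyc co
  have F : Fr S T L O₁ O A ξ x p N l₂ l₃ f := ⟨h, nb, nle, co, eh⟩
  obtain ⟨e, heT, heL, hem⟩ := eh.exists_e
  have hc : centralizer (zj (S : Subgroup G) : Set G) ≤ centralizer (vv (S : Subgroup G) : Set G) :=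
    centralizer_le (vv_le_zj _)
  exact ⟨e, F.V_le, F.fpf, heT, heL, hc (eh.e_sq heT heL hem), hc (eh.e_x heT heL hem), F.ξ_norm⟩

end Cfsg.Agent.OddCyclic.BcP.Sec2
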