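import Cfsg.Agent.OddCyclic.BcP.OffAbs
import Cfsg.Agent.OddCyclic.EmpNSRep
import Cfsg.Agent.MinSimple.LemX
import Cfsg.Agent.MinSimple.BTwoD
import Cfsg.Agent.ZN.ChoiceBase

/-!
# S0342, (C2), [Bc], type (b'), (4.5)-(4.6)

`Cfg P K₁ Q S Z V W N₁ N₂ x`: `P = K₁ S`, `Q ≤ K₁`, `M' = ⟨V^{K₁}⟩` elementary abelian, `[V, S] ≤ Z`, `P` centralises `Z`,
`N₁`, `N₂ ≤ W ≤ M'` normal in `N_G(W)`. `Cfg.main`: if `K₁/Q` is simple then `K₁/Q ≃ SL₂(q)`, `q ≥ 4`, or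
`|K₁/Q| = 168`: `A ∈ 𝒜(S)` is an offender on `M'/M'₁Z`, on `M'/M'₂Z` or on `M'/Z`.
-/

set_option autoImplicit false
set_option linter.unusedSectionVars false

namespace Cfsg.Agent.OddCyclic.BcP.Off

open Subgroup Cfsg Cfsg.Agent.ZN Cfsg.Agent.ZN.ChoiceBase
open Cfsg.Agent.MinSimple.LemX (nc le_nc nc_le le_normalizer_nc)
open Cfsg.Agent.OddCyclic.T1Module Cfsg.Agent.OddCyclic.FFBasic Cfsg.Agent.OddCyclic.FFRed
open Cfsg.Agent.OddCyclic.RedFFDefs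
open Cfsg.Agent.OddCyclic.EmpNSRep (Rp exists_rp)

universe u

variable {G : Type u} [Group G]

/-! ### general facts -/

theorem conj_mem_nc {X U : Subgroup G} {k u : G} (hk : k ∈ X) (hu : u ∈ U) : k * u * k⁻¹ ∈ nc X U :=
  (le_iSup (fun g : X => U.map (MulAut.conj (g : G)).toMonoidHom) ⟨k, hk⟩) ⟨u, hu, rfl⟩

theorem nc_le_of {X U D : Subgroup G} (h : ∀ k ∈ X, ∀ u ∈ U, k * u * k⁻¹ ∈ D) : nc X U ≤ D := by
  refine iSup_le fun k => ?_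
  rintro _ ⟨u, hu, rfl⟩
  exact h k k.2 u hu

/-- elements of `M` moved by `A` inside `D` -/
def fd (M D : Subgroup G) (hMD : M ≤ normalizer (D : Set G)) (A : Set G) : Subgroup G where
  carrier := {m | m ∈ M ∧ ∀ a ∈ A, a * m * a⁻¹ * m⁻¹ ∈ D}
  one_mem' := ⟨one_mem _, fun a _ => by simp⟩
  mul_mem' := by
    rintro m n ⟨hm, hm'⟩ ⟨hn, hn'⟩
    refine ⟨mul_mem hm hn, fun a ha => ?_⟩
    have e : a * (m * n) * a⁻¹ * (m * n)⁻¹ = (a * m * a⁻¹ * m⁻¹) * (m * (a * n * a⁻¹ * n⁻¹) * m⁻¹) := by group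
    rw [e]
    exact mul_mem (hm' a ha) ((mem_normalizer_iff.1 (hMD hm) _).1 (hn' a ha))
  inv_mem' := by
    rintro m ⟨hm, hm'⟩
    refine ⟨inv_mem hm, fun a ha => ?_⟩
    have e : a * m⁻¹ * a⁻¹ * m⁻¹⁻¹ = m⁻¹ * (a * m * a⁻¹ * m⁻¹)⁻¹ * m⁻¹⁻¹ := by group
    rw [e]
    exact (mem_normalizer_iff.1 (hMD (inv_mem hm)) _).1 (inv_mem (hm' a ha))

theorem mem_fd {M D : Subgroup G} {hMD : M ≤ normalizer (D : Set G)} {A : Set G} {m : G} :
    m ∈ fd M D hMD A ↔ m ∈ M ∧ ∀ a ∈ A, a * m * a⁻¹ * m⁻¹ ∈ D := Iff.rfl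

/-- elements of `A` centralising `M/D` -/
def cd (A M D : Subgroup G) (hAM : A ≤ normalizer (M : Set G)) : Subgroup G where
  carrier := {a | a ∈ A ∧ ∀ m ∈ M, a * m * a⁻¹ * m⁻¹ ∈ D}
  one_mem' := ⟨one_mem _, fun m _ => by simp⟩
  mul_mem' := by
    rintro a b ⟨ha, ha'⟩ ⟨hb, hb'⟩
    refine ⟨mul_mem ha hb, fun m hm => ?_⟩
    have e : a * b * m * (a * b)⁻¹ * m⁻¹ = (a * (b * m * b⁻¹) * a⁻¹ * (b * m * b⁻¹)⁻¹) * (b * m * b⁻¹ * m⁻¹) := by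
      group
    rw [e]
    exact mul_mem (ha' _ ((mem_normalizer_iff.1 (hAM hb) _).1 hm)) (hb' m hm)
  inv_mem' := by
    rintro a ⟨ha, ha'⟩
    refine ⟨inv_mem ha, fun m hm => ?_⟩
    have h1 : a⁻¹ * m * a⁻¹⁻¹ ∈ M := (mem_normalizer_iff.1 (hAM (inv_mem ha)) _).1 hm
    have e : a⁻¹ * m * a⁻¹⁻¹ * m⁻¹ = (a * (a⁻¹ * m * a⁻¹⁻¹) * a⁻¹ * (a⁻¹ * m * a⁻¹⁻¹)⁻¹)⁻¹ := by group
    rw [e]
    exact inv_mem (ha' _ h1)

theorem mem_cd {A M D : Subgroup G} {hAM : A ≤ normalizer (M : Set G)} {a : G} :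
    a ∈ cd A M D hAM ↔ a ∈ A ∧ ∀ m ∈ M, a * m * a⁻¹ * m⁻¹ ∈ D := Iff.rfl

theorem mem_sup_of_comm {X Y : Subgroup G} (hc : ∀ x ∈ X, ∀ y ∈ Y, x * y = y * x) {u : G}
    (hu : u ∈ X ⊔ Y) : ∃ x ∈ X, ∃ y ∈ Y, u = x * y := by
  let D : Subgroup G := {
    carrier := {p | ∃ a ∈ X, ∃ b ∈ Y, p = a * b}
    one_mem' := ⟨1, one_mem _, 1, one_mem _, (one_mul 1).symm⟩
    mul_mem' := by
      rintro x y ⟨a, ha, b, hb, rfl⟩ ⟨c, hcX, d, hd, rfl⟩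
      refine ⟨a * c, X.mul_mem ha hcX, b * d, Y.mul_mem hb hd, ?_⟩
      have e := hc c hcX b hb
      calc a * b * (c * d) = a * (b * c) * d := by group
        _ = a * (c * b) * d := by rw [e]
        _ = a * c * (b * d) := by group
    inv_mem' := by
      rintro x ⟨a, ha, b, hb, rfl⟩
      refine ⟨a⁻¹, X.inv_mem ha, b⁻¹, Y.inv_mem hb, ?_⟩
      rw [hc a ha b hb, mul_inv_rev] }
  have hD0 : X ≤ D := fun x hx => ⟨x, hx, 1, one_mem _, (mul_one x).symm⟩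
  have hD1 : Y ≤ D := fun x hx => ⟨1, one_mem _, x, hx, (one_mul x).symm⟩
  exact (sup_le hD0 hD1) hu

/-- Thompson's inequality -/
theorem thompson [Finite G] {S A M : Subgroup G} (hA : A ∈ AA S) (hMS : M ≤ S) (ab : ∀ a ∈ M, ∀ b ∈ M, a * b = b * a)
    (sq : ∀ a ∈ M, a * a = 1) :
    Nat.card M * Nat.card ↥(A ⊓ centralizer (M : Set G)) ≤ Nat.card A * Nat.card ↥(M ⊓ centralizer (A : Set G)) := by
  obtain ⟨C, hC⟩ : ∃ C, C = A ⊓ centralizer (M : Set G) := ⟨_, rfl⟩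
  have hCM : ∀ c ∈ C, ∀ m ∈ M, c * m = m * c := by
    intro c hc m hm
    rw [hC] at hc
    exact (mem_centralizer_iff.1 hc.2 m hm).symm
  have hCn : C ≤ normalizer (M : Set G) := by
    intro c hc
    rw [mem_normalizer_iff]
    intro m
    constructor
    · intro hm
      rw [hCM c hc m hm, mul_inv_cancel_right]
      exact hm
    · intro hm
      have h1 := hCM c⁻¹ (inv_mem hc) _ hm
      have e : c⁻¹ * (c * m * c⁻¹) = m * c⁻¹ := by group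
      rw [e] at h1
      have h2 : m = c * m * c⁻¹ := mul_right_cancel h1
      rw [h2]; exact hm
  have hAab : ∀ a ∈ A, ∀ b ∈ A, a * b = b * a := by
    intro a ha b hb
    have := hA.1.1
    exact congrArg Subtype.val (this.is_comm.comm (⟨a, ha⟩ : A) ⟨b, hb⟩)
  have hAsq : ∀ a ∈ A, a * a = 1 := fun a ha => by rw [← pow_two]; exact hA.1.2 a ha
  have hel : IsElementaryAbelian 2 (C ⊔ M : Subgroup G) := by
    have hCA : C ≤ A := by rw [hC]; exact inf_le_left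
    have hmem : ∀ x ∈ C ⊔ M, ∃ c ∈ C, ∃ m ∈ M, x = c * m := by
      intro x hx
      exact mem_sup_of_comm hCM hx
    constructor
    · refine ⟨⟨?_⟩⟩
      rintro ⟨x, hx⟩ ⟨y, hy⟩
      apply Subtype.ext
      show x * y = y * x
      obtain ⟨c, hc, m, hm, rfl⟩ := hmem x hx
      obtain ⟨d, hd, n, hn, rfl⟩ := hmem y hy
      calc c * m * (d * n) = c * (m * d) * n := by group
        _ = c * (d * m) * n := by rw [hCM d hd m hm]
        _ = (c * d) * (m * n) := by group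
        _ = (d * c) * (n * m) := by rw [hAab c (hCA hc) d (hCA hd), ab m hm n hn]
        _ = d * (c * n) * m := by group
        _ = d * (n * c) * m := by rw [hCM c hc n hn]
        _ = d * n * (c * m) := by group
    · intro x hx
      obtain ⟨c, hc, m, hm, rfl⟩ := hmem x hx
      rw [pow_two]
      calc c * m * (c * m) = c * (m * c) * m := by group
        _ = c * (c * m) * m := by rw [hCM c hc m hm]
        _ = (c * c) * (m * m) := by group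
        _ = 1 := by rw [hAsq c (hCA hc), sq m hm, one_mul]
  have h1 := hA.2.2 (C ⊔ M) hel (sup_le (by rw [hC]; exact inf_le_left.trans hA.2.1) hMS)
  have h2 := Block.card_sup_mul_card_inf hCn
  have h3 : Nat.card ↥(C ⊓ M) ≤ Nat.card ↥(M ⊓ centralizer (A : Set G)) := by
    apply Subgroup.card_le_of_le
    intro x hx
    refine ⟨hx.2, mem_centralizer_iff.2 fun a ha => ?_⟩
    have hxA : x ∈ A := by
      have := hx.1
      rw [hC] at this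
      exact this.1
    exact hAab a ha x hxA
  rw [← hC]
  calc Nat.card M * Nat.card C = Nat.card ↥(C ⊔ M) * Nat.card ↥(C ⊓ M) := by rw [h2, mul_comm]
    _ ≤ Nat.card A * Nat.card ↥(M ⊓ centralizer (A : Set G)) := Nat.mul_le_mul h1 h3

/-! ### the configuration -/

structure Nn (Z W N : Subgroup G) : Prop where
  le : N ≤ W
  norm : normalizer (W : Set G) ≤ normalizer (N : Set G)
  cen : ∀ g ∈ normalizer (W : Set G), (∀ n ∈ N, g * n = n * g) → ∀ w ∈ W, g * w = w * g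
  card : Nat.card ↥(N ⊓ Z) = 2

structure Cfg (P K₁ Q S Z V W N₁ N₂ : Subgroup G) (x : G) : Prop where
  K_le : K₁ ≤ P
  S_le : S ≤ P
  gen : P ≤ K₁ ⊔ S
  K_norm : P ≤ normalizer (K₁ : Set G)
  Q_norm : P ≤ normalizer (Q : Set G)
  QK : Q ≤ K₁
  QS : Q ≤ S
  two : IsPGroup 2 S
  syl : ¬ 2 ∣ S.relIndex P
  cZ : P ≤ centralizer (Z : Set G)
  ZV : Z ≤ V
  VW : V ≤ W
  comm : ∀ s ∈ S, ∀ v ∈ V, s * v * s⁻¹ * v⁻¹ ∈ Z
  W_le : W ≤ nc K₁ V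
  M_le : nc K₁ V ≤ S
  ab : ∀ a ∈ nc K₁ V, ∀ b ∈ nc K₁ V, a * b = b * a
  sq : ∀ a ∈ nc K₁ V, a * a = 1
  S_W : S ≤ normalizer (W : Set G)
  n₁ : Nn Z W N₁
  n₂ : Nn Z W N₂
  inf : N₁ ⊓ N₂ = ⊥
  x_mem : x ∈ K₁
  W_gen : W ≤ Z ⊔ closure {g | ∃ w ∈ W, g = x * w * x⁻¹ * w⁻¹}
  W_not : ¬ W ≤ Z

theorem mem_normalizer_of' {D : Subgroup G} [Finite G] {g : G} (h : ∀ d ∈ D, g * d * g⁻¹ ∈ D) :
    g ∈ normalizer (D : Set G) := by
  refine ChoiceBase.mem_normalizer_of_cj_le ?_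
  rintro _ ⟨d, hd, rfl⟩
  exact h d hd

section nc

variable [Finite G]

/-- `N(K) ∩ N(U)` normalises `⟨U^K⟩` -/
theorem mem_normalizer_nc {K U : Subgroup G} {s : G} (hK : s ∈ normalizer (K : Set G))
    (hU : ∀ u ∈ U, s * u * s⁻¹ ∈ nc K U) : s ∈ normalizer (nc K U : Set G) := by
  apply mem_normalizer_of'
  have h1 : nc K U ≤ (nc K U).comap (MulAut.conj s).toMonoidHom := by
    apply nc_le_of
    intro k hk u hu
    show s * (k * u * k⁻¹) * s⁻¹ ∈ nc K U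
    have e : s * (k * u * k⁻¹) * s⁻¹ = (s * k * s⁻¹) * (s * u * s⁻¹) * (s * k * s⁻¹)⁻¹ := by group
    rw [e]
    exact (mem_normalizer_iff.1 (le_normalizer_nc K U ((mem_normalizer_iff.1 hK _).1 hk)) _).1 (hU u hu)
  intro d hd
  exact h1 hd

end nc

namespace Cfg

variable {P K₁ Q S Z V W N₁ N₂ : Subgroup G} {x : G} (h : Cfg P K₁ Q S Z V W N₁ N₂ x)

include h

theorem zcomm {p z : G} (hp : p ∈ P) (hz : z ∈ Z) : p * z = z * p :=
  (mem_centralizer_iff.1 (h.cZ hp) z hz).symm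

theorem V_le : V ≤ nc K₁ V := le_nc K₁ V

theorem Z_le : Z ≤ nc K₁ V := h.ZV.trans h.V_le

theorem S_V {s v : G} (hs : s ∈ S) (hv : v ∈ V) : s * v * s⁻¹ ∈ V := by
  have e : s * v * s⁻¹ = (s * v * s⁻¹ * v⁻¹) * v := by group
  rw [e]
  exact mul_mem (h.ZV (h.comm s hs v hv)) hv

theorem M_P : nc K₁ V ≤ P := h.M_le.trans h.S_le

theorem norm_Z : P ≤ normalizer (Z : Set G) := h.cZ.trans (centralizer_le_normalizer _)

variable [Finite G]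

theorem le_norm {D : Subgroup G} (hK : K₁ ≤ normalizer (D : Set G)) (hS : S ≤ normalizer (D : Set G)) :
    P ≤ normalizer (D : Set G) := h.gen.trans (sup_le hK hS)

theorem P_M : P ≤ normalizer (nc K₁ V : Set G) :=
  h.le_norm (le_normalizer_nc K₁ V) fun _ hs => mem_normalizer_nc (h.K_norm (h.S_le hs))
    fun _ hv => h.V_le (h.S_V hs hv)

theorem conj_M {p m : G} (hp : p ∈ P) (hm : m ∈ nc K₁ V) : p * m * p⁻¹ ∈ nc K₁ V :=
  (mem_normalizer_iff.1 (h.P_M hp) _).1 hm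

theorem W_conj {k w : G} (hk : k ∈ K₁) (hw : w ∈ W) : k * w * k⁻¹ ∈ nc K₁ V :=
  h.conj_M (h.K_le hk) (h.W_le hw)

/-- `Q` centralises `M'/Z` -/
theorem Q_tr {q m : G} (hq : q ∈ Q) (hm : m ∈ nc K₁ V) : q * m * q⁻¹ * m⁻¹ ∈ Z := by
  have hMZ : nc K₁ V ≤ normalizer (Z : Set G) := h.M_P.trans h.norm_Z
  have h1 : nc K₁ V ≤ fd (nc K₁ V) Z hMZ Q := by
    apply nc_le_of
    intro k hk v hv
    refine ⟨conj_mem_nc hk hv, fun q hq => ?_⟩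
    have h2 : k⁻¹ * q * k ∈ Q := by
      have := (mem_normalizer_iff.1 (h.Q_norm (h.K_le (inv_mem hk))) q).1 hq
      rwa [inv_inv] at this
    have h3 := h.comm _ (h.QS h2) v hv
    have h4 := h.zcomm (h.K_le hk) h3
    have e : q * (k * v * k⁻¹) * q⁻¹ * (k * v * k⁻¹)⁻¹ =
        k * (k⁻¹ * q * k * v * (k⁻¹ * q * k)⁻¹ * v⁻¹) * k⁻¹ := by group
    rw [e, h4, mul_inv_cancel_right]
    exact h3
  exact (h1 hm).2 q hq

/-- `s ∈ S`, `[K₁, s] ≤ Q`: `s` centralises `M'/Z` -/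
theorem S_tr {s : G} (hs : s ∈ S) (hsK : ∀ k ∈ K₁, s * k * s⁻¹ * k⁻¹ ∈ Q) {m : G} (hm : m ∈ nc K₁ V) :
    s * m * s⁻¹ * m⁻¹ ∈ Z := by
  have hMZ : nc K₁ V ≤ normalizer (Z : Set G) := h.M_P.trans h.norm_Z
  have h1 : nc K₁ V ≤ fd (nc K₁ V) Z hMZ {s} := by
    apply nc_le_of
    intro k hk v hv
    refine ⟨conj_mem_nc hk hv, fun a ha => ?_⟩
    rw [Set.mem_singleton_iff.1 ha]
    obtain ⟨q, hq⟩ : ∃ q, q = s * k * s⁻¹ * k⁻¹ := ⟨_, rfl⟩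
    have hqQ : q ∈ Q := by rw [hq]; exact hsK k hk
    obtain ⟨z, hz⟩ : ∃ z, z = s * v * s⁻¹ * v⁻¹ := ⟨_, rfl⟩
    have hzZ : z ∈ Z := by rw [hz]; exact h.comm s hs v hv
    have hqk : q * k ∈ P := mul_mem (h.K_le (h.QK hqQ)) (h.K_le hk)
    have e1 : s * (k * v * k⁻¹) * s⁻¹ = (q * k) * (z * v) * (q * k)⁻¹ := by rw [hq, hz]; group
    have e2 : (q * k) * (z * v) * (q * k)⁻¹ = z * (q * (k * v * k⁻¹) * q⁻¹) := by
      calc (q * k) * (z * v) * (q * k)⁻¹ = ((q * k) * z) * v * (q * k)⁻¹ := by group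
        _ = (z * (q * k)) * v * (q * k)⁻¹ := by rw [h.zcomm hqk hzZ]
        _ = z * (q * (k * v * k⁻¹) * q⁻¹) := by group
    have h3 := h.Q_tr hqQ (conj_mem_nc hk hv)
    have e3 : s * (k * v * k⁻¹) * s⁻¹ * (k * v * k⁻¹)⁻¹ = z * (q * (k * v * k⁻¹) * q⁻¹ * (k * v * k⁻¹)⁻¹) := by
      rw [e1, e2]; group
    rw [e3]
    exact mul_mem hzZ h3
  exact (h1 hm).2 s rfl

/-- `s ∈ S` centralises `M'/Z`, `k ∈ K₁`: `k⁻¹ s k` normalises `W`, `[k⁻¹ s k, w] = [s, k w k⁻¹]` -/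
theorem conj_norm {s k : G} (htr : ∀ m ∈ nc K₁ V, s * m * s⁻¹ * m⁻¹ ∈ Z) (hk : k ∈ K₁) :
    k⁻¹ * s * k ∈ normalizer (W : Set G) ∧
      ∀ w ∈ W, (k⁻¹ * s * k) * w * (k⁻¹ * s * k)⁻¹ * w⁻¹ = s * (k * w * k⁻¹) * s⁻¹ * (k * w * k⁻¹)⁻¹ := by
  have h1 : ∀ w ∈ W, (k⁻¹ * s * k) * w * (k⁻¹ * s * k)⁻¹ * w⁻¹ =
      s * (k * w * k⁻¹) * s⁻¹ * (k * w * k⁻¹)⁻¹ := by
    intro w hw
    have h2 := htr _ (h.W_conj hk hw)
    have h3 := h.zcomm (h.K_le (inv_mem hk)) h2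
    calc (k⁻¹ * s * k) * w * (k⁻¹ * s * k)⁻¹ * w⁻¹ =
        k⁻¹ * (s * (k * w * k⁻¹) * s⁻¹ * (k * w * k⁻¹)⁻¹) * k := by group
      _ = (s * (k * w * k⁻¹) * s⁻¹ * (k * w * k⁻¹)⁻¹) * k⁻¹ * k := by rw [h3]
      _ = _ := by group
  refine ⟨mem_normalizer_of' fun w hw => ?_, h1⟩
  have e : (k⁻¹ * s * k) * w * (k⁻¹ * s * k)⁻¹ = ((k⁻¹ * s * k) * w * (k⁻¹ * s * k)⁻¹ * w⁻¹) * w := by group
  rw [e, h1 w hw]
  exact mul_mem (h.VW (h.ZV (htr _ (h.W_conj hk hw)))) hw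

theorem N_le {N : Subgroup G} (hN : Nn Z W N) : nc K₁ N ≤ nc K₁ V :=
  nc_le_of fun _ hk _ hn => h.W_conj hk (hN.le hn)

theorem P_N {N : Subgroup G} (hN : Nn Z W N) : P ≤ normalizer (nc K₁ N : Set G) :=
  h.le_norm (le_normalizer_nc K₁ N) fun _ hs => mem_normalizer_nc (h.K_norm (h.S_le hs))
    fun n hn => le_nc K₁ N ((mem_normalizer_iff.1 (hN.norm (h.S_W hs)) n).1 hn)

/-- `s` centralises `M'/Z`: `[s, M'ᵢ] ≤ Nᵢ ∩ Z` -/
theorem N_tr {N : Subgroup G} (hN : Nn Z W N) {s : G} (htr : ∀ m ∈ nc K₁ V, s * m * s⁻¹ * m⁻¹ ∈ Z) {m : G}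
    (hm : m ∈ nc K₁ N ⊔ Z) (hsP : s ∈ P) : s * m * s⁻¹ * m⁻¹ ∈ N ⊓ Z := by
  have hMZ : nc K₁ V ≤ normalizer ((N ⊓ Z : Subgroup G) : Set G) := by
    intro m hm
    refine mem_normalizer_of' fun d hd => ?_
    rw [h.zcomm (h.M_P hm) hd.2, mul_inv_cancel_right]
    exact hd
  have h1 : nc K₁ N ⊔ Z ≤ fd (nc K₁ V) (N ⊓ Z) hMZ {s} := by
    refine sup_le ?_ ?_
    · apply nc_le_of
      intro k hk n hn
      refine ⟨h.W_conj hk (hN.le hn), fun a ha => ?_⟩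
      rw [Set.mem_singleton_iff.1 ha]
      obtain ⟨h2, h3⟩ := h.conj_norm htr hk
      have h4 := htr _ (h.W_conj hk (hN.le hn))
      refine ⟨?_, h4⟩
      rw [← h3 n (hN.le hn)]
      exact mul_mem ((mem_normalizer_iff.1 (hN.norm h2) n).1 hn) (N.inv_mem hn)
    · intro z hz
      refine ⟨h.Z_le hz, fun a ha => ?_⟩
      rw [Set.mem_singleton_iff.1 ha, h.zcomm hsP hz, mul_inv_cancel_right, mul_inv_cancel]
      exact one_mem _
  exact (h1 hm).2 s rfl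

/-- `s` centralises `M'/Z` and `M'ᵢ`: `s` centralises `M'` -/
theorem N_cent {N : Subgroup G} (hN : Nn Z W N) {s : G} (htr : ∀ m ∈ nc K₁ V, s * m * s⁻¹ * m⁻¹ ∈ Z)
    (hc : ∀ m ∈ nc K₁ N, s * m = m * s) {m : G} (hm : m ∈ nc K₁ V) : s * m = m * s := by
  have h1 : nc K₁ V ≤ centralizer ({s} : Set G) := by
    apply nc_le_of
    intro k hk v hv
    rw [mem_centralizer_singleton_iff]
    obtain ⟨h2, -⟩ := h.conj_norm htr hk
    have h3 : ∀ w : G, s * (k * w * k⁻¹) = k * w * k⁻¹ * s ↔ (k⁻¹ * s * k) * w = w * (k⁻¹ * s * k) := by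
      intro w
      constructor
      · intro e
        calc (k⁻¹ * s * k) * w = k⁻¹ * (s * (k * w * k⁻¹)) * k := by group
          _ = k⁻¹ * (k * w * k⁻¹ * s) * k := by rw [e]
          _ = w * (k⁻¹ * s * k) := by group
      · intro e
        calc s * (k * w * k⁻¹) = k * ((k⁻¹ * s * k) * w) * k⁻¹ := by group
          _ = k * (w * (k⁻¹ * s * k)) * k⁻¹ := by rw [e]
          _ = k * w * k⁻¹ * s := by group
    have h4 := hN.cen _ h2 (fun n hn => (h3 n).1 (hc _ (conj_mem_nc hk hn))) v (h.VW hv)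
    exact ((h3 v).2 h4).symm
  exact (mem_centralizer_singleton_iff.1 (h1 hm)).symm

/-! ### (4.6) -/

variable {A : Subgroup G}

/-- the inequality of (4.6): `|M'| |C_A(M'/Z)| ≤ |A| |M'ᵢ C_{M'}(A)|` -/
theorem ineq (hA : A ∈ AA S) {N : Subgroup G} (hN : Nn Z W N) {A₁ : Subgroup G}
    (hA₁' : ∀ a, a ∈ A₁ ↔ a ∈ A ∧ ∀ m ∈ nc K₁ V, a * m * a⁻¹ * m⁻¹ ∈ Z) :
    Nat.card ↥(nc K₁ V) * Nat.card A₁ ≤
      Nat.card A * Nat.card ↥(nc K₁ N ⊔ (nc K₁ V ⊓ centralizer (A : Set G))) := by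
  have hAP : A ≤ P := hA.2.1.trans h.S_le
  obtain ⟨M, hM⟩ : ∃ M, M = nc K₁ V := ⟨_, rfl⟩
  obtain ⟨N', hN'⟩ : ∃ N', N' = nc K₁ N := ⟨_, rfl⟩
  obtain ⟨C, hC⟩ : ∃ C, C = M ⊓ centralizer (A : Set G) := ⟨_, rfl⟩
  have hN'M : N' ≤ M := by rw [hN', hM]; exact h.N_le hN
  -- the pairing
  obtain ⟨z, hz1, hzz⟩ : ∃ z, z ≠ 1 ∧ ∀ y, y ∈ N ⊓ Z ↔ y = 1 ∨ y = z := by
    obtain ⟨⟨z, hz⟩, hz1⟩ := Subgroup.ne_bot_iff_exists_ne_one.1 (show N ⊓ Z ≠ ⊥ by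
      intro h0
      have := hN.card
      rw [h0, card_bot] at this
      omega)
    have hz1' : z ≠ 1 := fun e => hz1 (Subtype.ext e)
    refine ⟨z, hz1', fun y => ⟨fun hy => ?_, ?_⟩⟩
    · by_contra hcon
      push Not at hcon
      have h1 : ({1, z, y} : Set G) ⊆ ((N ⊓ Z : Subgroup G) : Set G) := by
        rintro w (rfl | rfl | rfl)
        · exact one_mem _
        · exact hz
        · exact hy
      have h2 : ({1, z, y} : Set G).ncard = 3 :=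
        Set.ncard_eq_three.2 ⟨1, z, y, hz1'.symm, Ne.symm hcon.1, Ne.symm hcon.2, rfl⟩
      have h3 := Set.ncard_le_ncard h1 (Set.toFinite _)
      have h4 : ((N ⊓ Z : Subgroup G) : Set G).ncard = 2 := hN.card
      omega
    · rintro (rfl | rfl)
      · exact one_mem _
      · exact hz
  have hzZ : z ∈ N ⊓ Z := (hzz z).2 (Or.inr rfl)
  have hz2 : z * z = 1 := h.sq z (h.Z_le hzZ.2)
  have hpair := MinSimple.BTwoD.pairing (A := A₁) (B := N') hz2 hz1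
    (fun a ha => (h.zcomm (hAP ((hA₁' a).1 ha).1) hzZ.2).symm)
    (fun b hb => (h.zcomm (h.M_P (hM ▸ hN'M hb)) hzZ.2).symm) (by
      intro a ha b hb
      have h1 := h.N_tr hN ((hA₁' a).1 ha).2 (m := b) (mem_sup_left (hN' ▸ hb)) (hAP ((hA₁' a).1 ha).1)
      rcases (hzz _).1 h1 with h2 | h2
      · left
        calc a * b = (a * b * a⁻¹ * b⁻¹) * (b * a) := by group
          _ = b * a := by rw [h2, one_mul]
      · right
        calc a * b = (a * b * a⁻¹ * b⁻¹) * (b * a) := by group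
          _ = z * (b * a) := by rw [h2])
  -- `C_{A₁}(N') = C_A(M)`
  have h1 : Nat.card ↥(A₁ ⊓ centralizer (N' : Set G)) ≤ Nat.card ↥(A ⊓ centralizer (M : Set G)) := by
    apply Subgroup.card_le_of_le
    intro a ha
    obtain ⟨ha1, ha2⟩ := (hA₁' a).1 ha.1
    refine ⟨ha1, mem_centralizer_iff.2 fun m hm => ?_⟩
    rw [hM] at hm
    exact (h.N_cent hN ha2 (fun n hn => (mem_centralizer_iff.1 ha.2 n (hN' ▸ hn)).symm) hm).symm
  have h2 : Nat.card ↥(N' ⊓ C) ≤ Nat.card ↥(N' ⊓ centralizer (A₁ : Set G)) := by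
    apply Subgroup.card_le_of_le
    intro n hn
    refine ⟨hn.1, mem_centralizer_iff.2 fun a ha => ?_⟩
    have h3 := hn.2
    rw [hC] at h3
    exact mem_centralizer_iff.1 h3.2 a ((hA₁' a).1 ha).1
  have h3 := thompson hA h.M_le h.ab h.sq
  rw [← hM, ← hC] at h3
  have h4 : Nat.card ↥(N' ⊔ C) * Nat.card ↥(N' ⊓ C) = Nat.card N' * Nat.card C := by
    apply Block.card_sup_mul_card_inf
    intro n hn
    refine mem_normalizer_of' fun c hc => ?_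
    have hcM : c ∈ nc K₁ V := by rw [hC, hM] at hc; exact hc.1
    have hnM : n ∈ nc K₁ V := by rw [← hM]; exact hN'M hn
    rw [h.ab n hnM c hcM, mul_inv_cancel_right]
    exact hc
  rw [← hM, ← hN', ← hC]
  have h5 : 0 < Nat.card ↥(N' ⊓ C) := Nat.card_pos
  refine Nat.le_of_mul_le_mul_right ?_ h5
  calc Nat.card M * Nat.card A₁ * Nat.card ↥(N' ⊓ C) ≤
      Nat.card M * Nat.card A₁ * Nat.card ↥(N' ⊓ centralizer (A₁ : Set G)) := Nat.mul_le_mul_left _ h2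
    _ = Nat.card M * (Nat.card ↥(A₁ ⊓ centralizer (N' : Set G)) * Nat.card N') := by rw [hpair, mul_assoc]
    _ ≤ Nat.card M * (Nat.card ↥(A ⊓ centralizer (M : Set G)) * Nat.card N') :=
        Nat.mul_le_mul_left _ (Nat.mul_le_mul_right _ h1)
    _ = (Nat.card M * Nat.card ↥(A ⊓ centralizer (M : Set G))) * Nat.card N' := by ring
    _ ≤ (Nat.card A * Nat.card C) * Nat.card N' := Nat.mul_le_mul_right _ h3
    _ = Nat.card A * (Nat.card N' * Nat.card C) := by ring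
    _ = Nat.card A * (Nat.card ↥(N' ⊔ C) * Nat.card ↥(N' ⊓ C)) := by rw [h4]
    _ = Nat.card A * Nat.card ↥(N' ⊔ C) * Nat.card ↥(N' ⊓ C) := by ring

/-! ### sections of `M'` -/

section sec

variable {K : Type u} [Group K] (hs : IsSimpleGroup K) (π : K₁ →* K)
  (ker : ∀ k : K₁, π k = 1 ↔ (k : G) ∈ Q) {D : Subgroup G} (hZD : Z ≤ D)
  (hPD : P ≤ normalizer (D : Set G)) (hne : ¬ ∀ k ∈ K₁, ∀ m ∈ nc K₁ V, k * m * k⁻¹ * m⁻¹ ∈ D)

omit h in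
theorem conj_cd {M D : Subgroup G} {p a : G} (hpM : p ∈ normalizer (M : Set G)) (hpD : p ∈ normalizer (D : Set G))
    (ha : ∀ m ∈ M, a * m * a⁻¹ * m⁻¹ ∈ D) : ∀ m ∈ M, (p * a * p⁻¹) * m * (p * a * p⁻¹)⁻¹ * m⁻¹ ∈ D := by
  intro m hm
  have h1 : p⁻¹ * m * p ∈ M := by
    have := (mem_normalizer_iff.1 (inv_mem hpM) m).1 hm
    rwa [inv_inv] at this
  have h2 := (mem_normalizer_iff.1 hpD _).1 (ha _ h1)
  have e : (p * a * p⁻¹) * m * (p * a * p⁻¹)⁻¹ * m⁻¹ = p * (a * (p⁻¹ * m * p) * a⁻¹ * (p⁻¹ * m * p)⁻¹) * p⁻¹ := by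
    group
  rw [e]
  exact h2

include hs ker hZD hPD hne in
/-- the kernel of `K₁` on `M'/D` is `Q` -/
theorem ker_eq (surj : Function.Surjective π) {k : G} (hk : k ∈ K₁)
    (hkD : ∀ m ∈ nc K₁ V, k * m * k⁻¹ * m⁻¹ ∈ D) : k ∈ Q := by
  obtain ⟨N, hN⟩ : ∃ N, N = cd K₁ (nc K₁ V) D (le_normalizer_nc K₁ V) := ⟨_, rfl⟩
  have hN' : ∀ k, k ∈ N ↔ k ∈ K₁ ∧ ∀ m ∈ nc K₁ V, k * m * k⁻¹ * m⁻¹ ∈ D := by
    intro k; rw [hN]; exact mem_cd
  have hNn : (N.subgroupOf K₁).Normal := by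
    refine ⟨fun n hn g => ?_⟩
    rw [mem_subgroupOf] at hn ⊢
    obtain ⟨h1, h2⟩ := (hN' _).1 hn
    exact (hN' _).2 ⟨mul_mem (mul_mem g.2 h1) (inv_mem g.2),
      conj_cd (h.P_M (h.K_le g.2)) (hPD (h.K_le g.2)) h2⟩
  have hQN : ∀ q ∈ Q, q ∈ N := fun q hq => (hN' q).2 ⟨h.QK hq, fun m hm => hZD (h.Q_tr hq hm)⟩
  rcases hs.eq_bot_or_eq_top_of_normal _ (hNn.map π surj) with h0 | h0
  · have h1 : π ⟨k, hk⟩ ∈ (N.subgroupOf K₁).map π := ⟨⟨k, hk⟩, mem_subgroupOf.2 ((hN' k).2 ⟨hk, hkD⟩), rfl⟩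
    rw [h0, mem_bot] at h1
    exact (ker _).1 h1
  · exfalso
    apply hne
    intro k hk
    have h1 : π ⟨k, hk⟩ ∈ (N.subgroupOf K₁).map π := by rw [h0]; exact mem_top _
    obtain ⟨n, hn, hn'⟩ := h1
    have h2 : ((⟨k, hk⟩ * n⁻¹ : K₁) : G) ∈ Q := by
      rw [← ker, map_mul, map_inv, hn', mul_inv_cancel]
    have h3 : k = (k * (n : G)⁻¹) * n := by group
    have h4 : k ∈ N := by
      rw [h3]
      exact mul_mem (hQN _ h2) (mem_subgroupOf.1 hn)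
    exact ((hN' k).1 h4).2

include hs ker hZD hPD hne in
theorem Q_of (surj : Function.Surjective π) {a : G} (ha : a ∈ P) (haD : ∀ m ∈ nc K₁ V, a * m * a⁻¹ * m⁻¹ ∈ D)
    {k : G} (hk : k ∈ K₁) : a * k * a⁻¹ * k⁻¹ ∈ Q := by
  refine h.ker_eq hs π ker hZD hPD hne surj (mul_mem ((mem_normalizer_iff.1 (h.K_norm ha) _).1 hk) (inv_mem hk)) ?_
  have h1 : a ∈ cd P (nc K₁ V) D h.P_M := ⟨ha, haD⟩
  have h2 : k * a⁻¹ * k⁻¹ ∈ cd P (nc K₁ V) D h.P_M :=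
    ⟨mul_mem (mul_mem (h.K_le hk) (inv_mem ha)) (inv_mem (h.K_le hk)),
      conj_cd (h.P_M (h.K_le hk)) (hPD (h.K_le hk)) (inv_mem h1).2⟩
  have e : a * k * a⁻¹ * k⁻¹ = a * (k * a⁻¹ * k⁻¹) := by group
  rw [e]
  exact (mul_mem h1 h2).2

include hs ker hZD hPD hne in
/-- an offender on a section `M'/D` -/
theorem out_of_sec (hab : ∃ a b : K, a * b ≠ b * a) (surj : Function.Surjective π)
    (hF : ∀ (H : Type u) [Group H] (f : P →* H), Function.Surjective f → FFC H) (hA : A ∈ AA S)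
    (hmv : ∃ a ∈ A, ∃ k ∈ K₁, a * k * a⁻¹ * k⁻¹ ∉ Q) {AD CD : Subgroup G}
    (hAD : ∀ a, a ∈ AD ↔ a ∈ A ∧ ∀ m ∈ nc K₁ V, a * m * a⁻¹ * m⁻¹ ∈ D)
    (hCD : ∀ m, m ∈ CD ↔ m ∈ nc K₁ V ∧ ∀ a ∈ A, a * m * a⁻¹ * m⁻¹ ∈ D)
    (hoff : Nat.card ↥(nc K₁ V) * Nat.card AD ≤ Nat.card A * Nat.card CD) :
    (∃ (F : Type) (_ : Field F) (_ : Fintype F), CharP F 2 ∧ 4 ≤ Fintype.card F ∧
      Nonempty (K ≃* Matrix.SpecialLinearGroup (Fin 2) F)) ∨ Nat.card K = 168 := by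
  have hAP : A ≤ P := hA.2.1.trans h.S_le
  obtain ⟨U, iU, iU', H, iH, iH', ρ, r, μ, R⟩ := exists_rp (F := D) h.P_M hPD h.ab
  -- the action
  have hact : ∀ (p : G) (hp : p ∈ P) (m : G) (hm : m ∈ nc K₁ V),
      ρ (r ⟨p, hp⟩) (μ ⟨m, hm⟩) = μ ⟨p * m * p⁻¹, h.conj_M hp hm⟩ := fun p hp m hm => R.act ⟨p, hp⟩ ⟨m, hm⟩ _
  have hμ : ∀ (m : G) (hm : m ∈ nc K₁ V) (n : G) (hn : n ∈ nc K₁ V), μ ⟨m, hm⟩ = μ ⟨n, hn⟩ ↔ m * n⁻¹ ∈ D := by
    intro m hm n hn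
    rw [← mul_inv_eq_one, ← map_inv, ← map_mul, R.π_one]
    exact Iff.rfl
  have hfix : ∀ (p : G) (hp : p ∈ P) (m : G) (hm : m ∈ nc K₁ V),
      ρ (r ⟨p, hp⟩) (μ ⟨m, hm⟩) = μ ⟨m, hm⟩ ↔ p * m * p⁻¹ * m⁻¹ ∈ D := by
    intro p hp m hm
    rw [hact, hμ]
  have hr1 : ∀ (p : G) (hp : p ∈ P), r ⟨p, hp⟩ = 1 ↔ ∀ m ∈ nc K₁ V, p * m * p⁻¹ * m⁻¹ ∈ D := by
    intro p hp
    constructor
    · intro h1 m hm
      rw [← hfix p hp m hm, h1, map_one]; rfl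
    · intro h1
      apply R.inj
      rw [map_one]
      apply MulEquiv.ext
      intro u
      obtain ⟨⟨m, hm⟩, rfl⟩ := R.π_surj u
      exact (hfix p hp m hm).2 (h1 m hm)
  have hUsq : ∀ u : U, u * u = 1 := by
    intro u
    obtain ⟨⟨m, hm⟩, rfl⟩ := R.π_surj u
    rw [← map_mul, R.π_one]
    show m * m ∈ D
    rw [h.sq m hm]
    exact one_mem _
  -- the image of `K₁`
  obtain ⟨φ, hφ⟩ : ∃ φ : K₁ →* H, φ = r.comp (inclusion h.K_le) := ⟨_, rfl⟩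
  have hφ' : ∀ k (hk : k ∈ K₁), φ ⟨k, hk⟩ = r ⟨k, h.K_le hk⟩ := by
    intro k hk; rw [hφ]; rfl
  have hker : φ.ker = π.ker := by
    ext ⟨k, hk⟩
    rw [MonoidHom.mem_ker, MonoidHom.mem_ker, hφ', hr1, ker]
    constructor
    · intro h1
      exact h.ker_eq hs π ker hZD hPD hne surj hk h1
    · intro h1 m hm
      exact hZD (h.Q_tr h1 hm)
  have e1 : K ≃* φ.range :=
    ((QuotientGroup.quotientKerEquivOfSurjective π surj).symm.trans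
      (QuotientGroup.quotientMulEquivOfEq hker.symm)).trans (QuotientGroup.quotientKerEquivRange φ)
  have hKs : IsSimpleGroup φ.range := e1.symm.isSimpleGroup
  have hKab : ∃ a b : φ.range, a * b ≠ b * a := by
    obtain ⟨a, b, hab⟩ := hab
    refine ⟨e1 a, e1 b, fun h1 => hab (e1.injective ?_)⟩
    rw [map_mul, map_mul, h1]
  have hKn : φ.range.Normal := by
    refine ⟨?_⟩
    rintro _ ⟨⟨k, hk⟩, rfl⟩ g
    obtain ⟨⟨p, hp⟩, rfl⟩ := R.r_surj g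
    refine ⟨⟨p * k * p⁻¹, (mem_normalizer_iff.1 (h.K_norm hp) _).1 hk⟩, ?_⟩
    rw [hφ', hφ', ← map_inv, ← map_mul, ← map_mul]
    rfl
  -- the image of `S`
  obtain ⟨T, hT⟩ : ∃ T, T = (S.subgroupOf P).map r := ⟨_, rfl⟩
  have hT2 : IsPGroup 2 T := by
    rw [hT]
    exact (h.two.comap_of_injective P.subtype P.subtype_injective).map r
  have hTi : ¬ 2 ∣ T.index := by
    intro h1
    apply h.syl
    rw [hT] at h1
    exact h1.trans (index_map_dvd (S.subgroupOf P) R.r_surj)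
  have hfact : Fact (Nat.Prime 2) := ⟨Nat.prime_two⟩
  have hcore : ∀ D₂ : Subgroup H, D₂.Normal → IsPGroup 2 D₂ → D₂ = ⊥ := by
    intro D₂ hD₂ hD₂p
    have h1 : D₂ ≤ T := by
      have h2 : IsPGroup 2 (D₂ ⊔ T : Subgroup H) := hD₂p.to_sup_of_normal_left hT2
      have h3 := (hT2.toSylow hTi).is_maximal' h2 (le_sup_right : T ≤ D₂ ⊔ T)
      have h4 : D₂ ⊔ T = T := h3
      rw [← h4]
      exact le_sup_left
    rw [eq_bot_iff]
    intro d hd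
    rw [mem_bot]
    -- `D₂` centralises the image of `V` and its conjugates
    have h2 : ∀ d ∈ D₂, ∀ v (hv : v ∈ V), ρ d (μ ⟨v, h.V_le hv⟩) = μ ⟨v, h.V_le hv⟩ := by
      intro d hd v hv
      have h3 := h1 hd
      rw [hT] at h3
      obtain ⟨⟨s, hsP⟩, hs', rfl⟩ := h3
      exact (hfix s hsP v (h.V_le hv)).2 (hZD (h.comm s (mem_subgroupOf.1 hs') v hv))
    obtain ⟨⟨p, hp⟩, rfl⟩ := R.r_surj d
    rw [hr1]
    have hMD : nc K₁ V ≤ normalizer (D : Set G) := h.M_P.trans hPD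
    have h3 : nc K₁ V ≤ fd (nc K₁ V) D hMD {p} := by
      apply nc_le_of
      intro k hk v hv
      refine ⟨conj_mem_nc hk hv, fun a ha => ?_⟩
      rw [Set.mem_singleton_iff.1 ha, ← hfix p hp _ (conj_mem_nc hk hv)]
      have h4 : μ ⟨k * v * k⁻¹, conj_mem_nc hk hv⟩ = ρ (r ⟨k, h.K_le hk⟩) (μ ⟨v, h.V_le hv⟩) :=
        (hact k (h.K_le hk) v (h.V_le hv)).symm
      rw [h4]
      have h5 := h2 _ (hD₂.conj_mem _ hd (r ⟨k, h.K_le hk⟩)⁻¹) v hv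
      have h6 : ∀ (d g : H) (u : U), ρ d (ρ g u) = ρ g (ρ (g⁻¹ * d * g⁻¹⁻¹) u) := by
        intro d g u
        rw [← MulAut.mul_apply, ← MulAut.mul_apply, ← map_mul, ← map_mul]
        congr 2
        group
      rw [h6, h5]
    intro m hm
    exact (h3 hm).2 p rfl
  -- `C_H(K) = 1`
  have hc : centralizer (φ.range : Set H) = ⊥ := by
    apply hcore _ inferInstance
    have h1 : centralizer (φ.range : Set H) ⊓ φ.range = ⊥ := by
      have h2 : ((centralizer (φ.range : Set H)).subgroupOf φ.range).Normal := inferInstance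
      rcases hKs.eq_bot_or_eq_top_of_normal _ h2 with h3 | h3
      · exact disjoint_iff.1 (subgroupOf_eq_bot.1 h3)
      · exfalso
        obtain ⟨a, b, hab⟩ := hKab
        apply hab
        have h4 := subgroupOf_eq_top.1 h3 b.2
        exact Subtype.ext (mem_centralizer_iff.1 h4 a a.2)
    have h2 : IsPGroup 2 (H ⧸ φ.range) := by
      have h3 : Function.Surjective ((QuotientGroup.mk' φ.range).comp T.subtype) := by
        intro y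
        obtain ⟨g, rfl⟩ := QuotientGroup.mk'_surjective φ.range y
        obtain ⟨⟨p, hp⟩, rfl⟩ := R.r_surj g
        have h4 : p ∈ K₁ ⊔ S := h.gen hp
        have h5 : K₁ ⊔ S ≤ ((((⊤ : Subgroup T).map ((QuotientGroup.mk' φ.range).comp T.subtype)).comap
            ((QuotientGroup.mk' φ.range).comp r)).map P.subtype) := by
          refine sup_le ?_ ?_
          · intro k hk
            refine ⟨⟨k, h.K_le hk⟩, ?_, rfl⟩
            rw [SetLike.mem_coe, mem_comap, MonoidHom.comp_apply]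
            have h6 : (QuotientGroup.mk' φ.range) (r ⟨k, h.K_le hk⟩) = 1 := by
              rw [QuotientGroup.mk'_apply, QuotientGroup.eq_one_iff]
              exact ⟨⟨k, hk⟩, hφ' k hk⟩
            rw [h6]
            exact one_mem _
          · intro s hs'
            refine ⟨⟨s, h.S_le hs'⟩, ?_, rfl⟩
            rw [SetLike.mem_coe, mem_comap, MonoidHom.comp_apply]
            refine ⟨⟨r ⟨s, h.S_le hs'⟩, ?_⟩, mem_top _, rfl⟩
            rw [hT]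
            exact ⟨⟨s, h.S_le hs'⟩, mem_subgroupOf.2 hs', rfl⟩
        obtain ⟨⟨p', hp'⟩, ⟨t, -, ht⟩, hpp⟩ := h5 h4
        have hpp' : p' = p := hpp
        subst hpp'
        exact ⟨t, ht⟩
      exact hT2.of_surjective _ h3
    refine h2.of_injective ((QuotientGroup.mk' φ.range).comp (centralizer (φ.range : Set H)).subtype) ?_
    rw [injective_iff_map_eq_one]
    rintro ⟨c, hc⟩ h3
    have h4 : c ∈ φ.range := by
      rw [← QuotientGroup.eq_one_iff]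
      exact h3
    have h5 : c ∈ centralizer (φ.range : Set H) ⊓ φ.range := ⟨hc, h4⟩
    rw [h1, mem_bot] at h5
    exact Subtype.ext h5
  -- the image of `A`
  obtain ⟨B, hB⟩ : ∃ B, B = (A.subgroupOf P).map r := ⟨_, rfl⟩
  have hBm : ∀ a (ha : a ∈ A), r ⟨a, hAP ha⟩ ∈ B := by
    intro a ha
    rw [hB]
    exact ⟨⟨a, hAP ha⟩, mem_subgroupOf.2 ha, rfl⟩
  have hBo : ∀ b ∈ B, ∃ a, ∃ ha : a ∈ A, r ⟨a, hAP ha⟩ = b := by
    intro b hb
    rw [hB] at hb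
    obtain ⟨⟨a, haP⟩, ha, rfl⟩ := hb
    exact ⟨a, mem_subgroupOf.1 ha, rfl⟩
  have hBsq : ∀ b ∈ B, b * b = 1 := by
    intro b hb
    obtain ⟨a, ha, rfl⟩ := hBo b hb
    have e2 : r ⟨a, hAP ha⟩ * r ⟨a, hAP ha⟩ = r ⟨a * a, mul_mem (hAP ha) (hAP ha)⟩ := (map_mul r _ _).symm
    rw [e2, hr1]
    intro m _
    have h1 : a * a = 1 := by rw [← pow_two]; exact hA.1.2 a ha
    rw [h1]
    simp
  have hBne : B ≠ ⊥ := by
    intro h0
    obtain ⟨a, ha, k, hk, hak⟩ := hmv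
    apply hak
    have h1 := hBm a ha
    rw [h0, mem_bot, hr1] at h1
    exact h.Q_of hs π ker hZD hPD hne surj (hAP ha) h1 hk
  -- indices
  have hcardB : Nat.card B * Nat.card AD = Nat.card A := by
    obtain ⟨ψ, hψ⟩ : ∃ ψ : A →* H, ψ = r.comp (inclusion hAP) := ⟨_, rfl⟩
    have hψ' : ∀ a (ha : a ∈ A), ψ ⟨a, ha⟩ = r ⟨a, hAP ha⟩ := by
      intro a ha; rw [hψ]; rfl
    have h1 : ψ.range = B := by
      ext b
      constructor
      · rintro ⟨⟨a, ha⟩, rfl⟩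
        rw [hψ']
        exact hBm a ha
      · intro hb
        obtain ⟨a, ha, rfl⟩ := hBo b hb
        exact ⟨⟨a, ha⟩, hψ' a ha⟩
    have h2 : ψ.ker = AD.subgroupOf A := by
      ext ⟨a, ha⟩
      rw [MonoidHom.mem_ker, hψ', hr1, mem_subgroupOf, hAD]
      exact ⟨fun h3 => ⟨ha, h3⟩, fun h3 => h3.2⟩
    have h3 : AD ≤ A := fun a ha => ((hAD a).1 ha).1
    have h4 := ψ.ker.card_mul_index
    rw [index_ker, h1, h2, Nat.card_congr (subgroupOfEquivOfLe h3).toEquiv] at h4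
    rw [← h4, mul_comm]
  have hi : (CS ρ B).index ≤ Nat.card B := by
    have h1 : (CS ρ B).comap μ = CD.subgroupOf (nc K₁ V) := by
      ext ⟨m, hm⟩
      rw [mem_comap, mem_CS, mem_subgroupOf, hCD]
      constructor
      · intro h2
        exact ⟨hm, fun a ha => (hfix a (hAP ha) m hm).1 (h2 _ (hBm a ha))⟩
      · rintro ⟨-, h2⟩ b hb
        obtain ⟨a, ha, rfl⟩ := hBo b hb
        exact (hfix a (hAP ha) m hm).2 (h2 a ha)
    have h2 : (CS ρ B).index = (CD.subgroupOf (nc K₁ V)).index := by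
      rw [← h1, index_comap_of_surjective _ R.π_surj]
    have h3 : CD ≤ nc K₁ V := fun m hm => ((hCD m).1 hm).1
    have h4 := (CD.subgroupOf (nc K₁ V)).card_mul_index
    rw [Nat.card_congr (subgroupOfEquivOfLe h3).toEquiv, ← h2] at h4
    rw [← h4, ← hcardB] at hoff
    have h5 : 0 < Nat.card CD * Nat.card AD := Nat.mul_pos Nat.card_pos Nat.card_pos
    refine Nat.le_of_mul_le_mul_right ?_ h5
    calc (CS ρ B).index * (Nat.card CD * Nat.card AD) = Nat.card CD * (CS ρ B).index * Nat.card AD := by ring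
      _ ≤ Nat.card B * Nat.card AD * Nat.card CD := hoff
      _ = Nat.card B * (Nat.card CD * Nat.card AD) := by ring
  rcases out_of hUsq R.inj hcore (hF H r R.r_surj) hBsq hBne hi hKn hKs hKab hc with h1 | h1
  · left
    obtain ⟨F, iF, iF', hch, h4, ⟨g⟩⟩ := h1
    exact ⟨F, iF, iF', hch, h4, ⟨e1.trans g⟩⟩
  · right
    rw [Nat.card_congr e1.toEquiv]
    exact h1

include hs ker in
/-- (4.6), first case: `K₁` acts nontrivially on `M'/M'ᵢZ` -/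
theorem case_one (hab : ∃ a b : K, a * b ≠ b * a) (surj : Function.Surjective π)
    (hF : ∀ (H : Type u) [Group H] (f : P →* H), Function.Surjective f → FFC H) (hA : A ∈ AA S)
    (hmv : ∃ a ∈ A, ∃ k ∈ K₁, a * k * a⁻¹ * k⁻¹ ∉ Q) {N : Subgroup G} (hN : Nn Z W N)
    (hne : ¬ ∀ k ∈ K₁, ∀ m ∈ nc K₁ V, k * m * k⁻¹ * m⁻¹ ∈ nc K₁ N ⊔ Z) :
    (∃ (F : Type) (_ : Field F) (_ : Fintype F), CharP F 2 ∧ 4 ≤ Fintype.card F ∧
      Nonempty (K ≃* Matrix.SpecialLinearGroup (Fin 2) F)) ∨ Nat.card K = 168 := by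
  have hAP : A ≤ P := hA.2.1.trans h.S_le
  obtain ⟨D, hD⟩ : ∃ D, D = nc K₁ N ⊔ Z := ⟨_, rfl⟩
  have hZD : Z ≤ D := by rw [hD]; exact le_sup_right
  have hPD : P ≤ normalizer (D : Set G) := by
    rw [hD]
    exact (le_inf (h.P_N hN) h.norm_Z).trans (normalizer_inf_normalizer_le_normalizer_sup _ _)
  have hMD : nc K₁ V ≤ normalizer (D : Set G) := h.M_P.trans hPD
  rw [← hD] at hne
  refine h.out_of_sec hs π ker hZD hPD hne hab surj hF hA hmv (AD := cd A (nc K₁ V) D (hAP.trans h.P_M))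
    (CD := fd (nc K₁ V) D hMD A) (fun a => mem_cd) (fun m => mem_fd) ?_
  have h1 := h.ineq hA hN (A₁ := cd A (nc K₁ V) Z (hAP.trans h.P_M)) (fun a => mem_cd)
  have h2 : Nat.card ↥(cd A (nc K₁ V) D (hAP.trans h.P_M)) ≤ Nat.card ↥(cd A (nc K₁ V) Z (hAP.trans h.P_M)) := by
    apply Subgroup.card_le_of_le
    rintro a ⟨ha, ha'⟩
    refine ⟨ha, fun m hm => h.S_tr (hA.2.1 ha) (fun k hk => ?_) hm⟩
    exact h.Q_of hs π ker hZD hPD hne surj (hAP ha) ha' hk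
  have h3 : Nat.card ↥(nc K₁ N ⊔ (nc K₁ V ⊓ centralizer (A : Set G))) ≤ Nat.card ↥(fd (nc K₁ V) D hMD A) := by
    apply Subgroup.card_le_of_le
    refine sup_le ?_ ?_
    · intro m hm
      refine ⟨h.N_le hN hm, fun a ha => ?_⟩
      rw [hD]
      exact mem_sup_left (mul_mem ((mem_normalizer_iff.1 (h.P_N hN (hAP ha)) m).1 hm) (inv_mem hm))
    · intro m hm
      refine ⟨hm.1, fun a ha => ?_⟩
      rw [mem_centralizer_iff.1 hm.2 a ha, mul_inv_cancel_right, mul_inv_cancel]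
      exact one_mem _
  calc Nat.card ↥(nc K₁ V) * Nat.card ↥(cd A (nc K₁ V) D (hAP.trans h.P_M)) ≤
      Nat.card ↥(nc K₁ V) * Nat.card ↥(cd A (nc K₁ V) Z (hAP.trans h.P_M)) := Nat.mul_le_mul_left _ h2
    _ ≤ Nat.card A * Nat.card ↥(nc K₁ N ⊔ (nc K₁ V ⊓ centralizer (A : Set G))) := h1
    _ ≤ Nat.card A * Nat.card ↥(fd (nc K₁ V) D hMD A) := Nat.mul_le_mul_left _ h3

include h in
/-- `K₁` acts nontrivially on `M'/Z` -/
theorem not_triv : ¬ ∀ m ∈ nc K₁ V, x * m * x⁻¹ * m⁻¹ ∈ Z := by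
  intro h1
  apply h.W_not
  refine h.W_gen.trans (sup_le le_rfl ?_)
  rw [closure_le]
  rintro _ ⟨w, hw, rfl⟩
  exact h1 w (h.W_le hw)

include hs ker in
/-- (4.6), second case: `K₁` acts trivially on `M'/M'₁Z` and on `M'/M'₂Z` -/
theorem case_two (hab : ∃ a b : K, a * b ≠ b * a) (surj : Function.Surjective π)
    (hF : ∀ (H : Type u) [Group H] (f : P →* H), Function.Surjective f → FFC H) (hA : A ∈ AA S)
    (hmv : ∃ a ∈ A, ∃ k ∈ K₁, a * k * a⁻¹ * k⁻¹ ∉ Q)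
    (h₁ : ∀ k ∈ K₁, ∀ m ∈ nc K₁ V, k * m * k⁻¹ * m⁻¹ ∈ nc K₁ N₁ ⊔ Z)
    (h₂ : ∀ k ∈ K₁, ∀ m ∈ nc K₁ V, k * m * k⁻¹ * m⁻¹ ∈ nc K₁ N₂ ⊔ Z) :
    (∃ (F : Type) (_ : Field F) (_ : Fintype F), CharP F 2 ∧ 4 ≤ Fintype.card F ∧
      Nonempty (K ≃* Matrix.SpecialLinearGroup (Fin 2) F)) ∨ Nat.card K = 168 := by
  have hAP : A ≤ P := hA.2.1.trans h.S_le
  have key : ∀ {N : Subgroup G}, Nn Z W N → (∀ k ∈ K₁, ∀ m ∈ nc K₁ V, k * m * k⁻¹ * m⁻¹ ∈ nc K₁ N ⊔ Z) →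
      nc K₁ V ≤ nc K₁ N ⊔ Z := by
    intro N hN hk
    have hPD : P ≤ normalizer ((nc K₁ N ⊔ Z : Subgroup G) : Set G) :=
      (le_inf (h.P_N hN) h.norm_Z).trans (normalizer_inf_normalizer_le_normalizer_sup _ _)
    refine nc_le (h.VW.trans (h.W_gen.trans (sup_le le_sup_right ?_))) (h.K_le.trans hPD)
    rw [closure_le]
    rintro _ ⟨w, hw, rfl⟩
    exact hk x h.x_mem w (h.W_le hw)
  have hM₁ := key h.n₁ h₁
  have hM₂ := key h.n₂ h₂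
  have hne : ¬ ∀ k ∈ K₁, ∀ m ∈ nc K₁ V, k * m * k⁻¹ * m⁻¹ ∈ Z := fun h1 => h.not_triv (h1 x h.x_mem)
  have hMZ : nc K₁ V ≤ normalizer (Z : Set G) := h.M_P.trans h.norm_Z
  refine h.out_of_sec hs π ker le_rfl h.norm_Z hne hab surj hF hA hmv (AD := cd A (nc K₁ V) Z (hAP.trans h.P_M))
    (CD := fd (nc K₁ V) Z hMZ A) (fun a => mem_cd) (fun m => mem_fd) ?_
  have h1 : Nat.card ↥(cd A (nc K₁ V) Z (hAP.trans h.P_M)) ≤ Nat.card ↥(A ⊓ centralizer (nc K₁ V : Set G)) := by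
    apply Subgroup.card_le_of_le
    rintro a ⟨ha, ha'⟩
    refine ⟨ha, mem_centralizer_iff.2 fun m hm => ?_⟩
    have h2 := h.N_tr h.n₁ ha' (hM₁ hm) (hAP ha)
    have h3 := h.N_tr h.n₂ ha' (hM₂ hm) (hAP ha)
    have h4 : a * m * a⁻¹ * m⁻¹ ∈ N₁ ⊓ N₂ := ⟨h2.1, h3.1⟩
    rw [h.inf, mem_bot] at h4
    calc m * a = (a * m * a⁻¹ * m⁻¹)⁻¹ * (a * m) := by group
      _ = a * m := by rw [h4, inv_one, one_mul]
  have h2 : Nat.card ↥(nc K₁ V ⊓ centralizer (A : Set G)) ≤ Nat.card ↥(fd (nc K₁ V) Z hMZ A) := by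
    apply Subgroup.card_le_of_le
    intro m hm
    refine ⟨hm.1, fun a ha => ?_⟩
    rw [mem_centralizer_iff.1 hm.2 a ha, mul_inv_cancel_right, mul_inv_cancel]
    exact one_mem _
  calc Nat.card ↥(nc K₁ V) * Nat.card ↥(cd A (nc K₁ V) Z (hAP.trans h.P_M)) ≤
      Nat.card ↥(nc K₁ V) * Nat.card ↥(A ⊓ centralizer (nc K₁ V : Set G)) := Nat.mul_le_mul_left _ h1
    _ ≤ Nat.card A * Nat.card ↥(nc K₁ V ⊓ centralizer (A : Set G)) := thompson hA h.M_le h.ab h.sq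
    _ ≤ Nat.card A * Nat.card ↥(fd (nc K₁ V) Z hMZ A) := Nat.mul_le_mul_left _ h2

include hs ker in
/-- **(4.6)** -/
theorem main' (hab : ∃ a b : K, a * b ≠ b * a) (surj : Function.Surjective π)
    (hF : ∀ (H : Type u) [Group H] (f : P →* H), Function.Surjective f → FFC H) (hA : A ∈ AA S)
    (hmv : ∃ a ∈ A, ∃ k ∈ K₁, a * k * a⁻¹ * k⁻¹ ∉ Q) :
    (∃ (F : Type) (_ : Field F) (_ : Fintype F), CharP F 2 ∧ 4 ≤ Fintype.card F ∧
      Nonempty (K ≃* Matrix.SpecialLinearGroup (Fin 2) F)) ∨ Nat.card K = 168 := by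
  by_cases h₁ : ∀ k ∈ K₁, ∀ m ∈ nc K₁ V, k * m * k⁻¹ * m⁻¹ ∈ nc K₁ N₁ ⊔ Z
  · by_cases h₂ : ∀ k ∈ K₁, ∀ m ∈ nc K₁ V, k * m * k⁻¹ * m⁻¹ ∈ nc K₁ N₂ ⊔ Z
    · exact h.case_two hs π ker hab surj hF hA hmv h₁ h₂
    · exact h.case_one hs π ker hab surj hF hA hmv h.n₂ h₂
  · exact h.case_one hs π ker hab surj hF hA hmv h.n₁ h₁

include h hs ker in
/-- `x ∈ ⟨A, A^x⟩`: `A` does not centralise `K₁/Q` -/
theorem exists_move (hab : ∃ a b : K, a * b ≠ b * a) (surj : Function.Surjective π) (hAS : A ≤ S)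
    (hx : x ∈ A ⊔ cj x A) : ∃ a ∈ A, ∃ k ∈ K₁, a * k * a⁻¹ * k⁻¹ ∉ Q := by
  by_contra hcon
  push Not at hcon
  have hKQ : K₁ ≤ normalizer (Q : Set G) := h.K_le.trans h.Q_norm
  have hxP : x ∈ P := h.K_le h.x_mem
  obtain ⟨C, hC⟩ : ∃ C, C = cd P K₁ Q h.K_norm := ⟨_, rfl⟩
  have hC' : ∀ a, a ∈ C ↔ a ∈ P ∧ ∀ k ∈ K₁, a * k * a⁻¹ * k⁻¹ ∈ Q := by
    intro a; rw [hC]; exact mem_cd
  have h1 : A ≤ C := fun a ha => (hC' a).2 ⟨h.S_le (hAS ha), hcon a ha⟩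
  have h2 : cj x A ≤ C := by
    rintro _ ⟨a, ha, rfl⟩
    exact (hC' _).2 ⟨mul_mem (mul_mem hxP (h.S_le (hAS ha))) (inv_mem hxP),
      conj_cd (h.K_norm hxP) (h.Q_norm hxP) (hcon a ha)⟩
  have h3 := ((hC' x).1 (sup_le h1 h2 hx)).2
  -- `π x` is central
  have h4 : ∀ y : K, π ⟨x, h.x_mem⟩ * y = y * π ⟨x, h.x_mem⟩ := by
    intro y
    obtain ⟨⟨k, hk⟩, rfl⟩ := surj y
    have h5 : π (⟨x, h.x_mem⟩ * ⟨k, hk⟩ * ⟨x, h.x_mem⟩⁻¹ * ⟨k, hk⟩⁻¹) = 1 := (ker _).2 (h3 k hk)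
    rw [map_mul, map_mul, map_mul, map_inv, map_inv] at h5
    calc π ⟨x, h.x_mem⟩ * π ⟨k, hk⟩ =
        (π ⟨x, h.x_mem⟩ * π ⟨k, hk⟩ * (π ⟨x, h.x_mem⟩)⁻¹ * (π ⟨k, hk⟩)⁻¹) * (π ⟨k, hk⟩ * π ⟨x, h.x_mem⟩) := by
          group
      _ = _ := by rw [h5, one_mul]
  have h5 : π ⟨x, h.x_mem⟩ = 1 := by
    have h6 : (center K).Normal := inferInstance
    rcases hs.eq_bot_or_eq_top_of_normal _ h6 with h7 | h7
    · have h8 : π ⟨x, h.x_mem⟩ ∈ center K := mem_center_iff.2 fun y => (h4 y).symm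
      rw [h7, mem_bot] at h8
      exact h8
    · exfalso
      obtain ⟨a, b, hab⟩ := hab
      have h8 : b ∈ center K := by rw [h7]; exact mem_top _
      exact hab (mem_center_iff.1 h8 a)
  exact h.not_triv fun m hm => h.Q_tr ((ker _).1 h5) hm

include hs ker in
/-- **(4.6)** -/
theorem main (hab : ∃ a b : K, a * b ≠ b * a) (surj : Function.Surjective π)
    (hF : ∀ (H : Type u) [Group H] (f : P →* H), Function.Surjective f → FFC H) (hA : A ∈ AA S)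
    (hx : x ∈ A ⊔ cj x A) :
    (∃ (F : Type) (_ : Field F) (_ : Fintype F), CharP F 2 ∧ 4 ≤ Fintype.card F ∧
      Nonempty (K ≃* Matrix.SpecialLinearGroup (Fin 2) F)) ∨ Nat.card K = 168 :=
  h.main' hs π ker hab surj hF hA (h.exists_move hs π ker hab surj hA.2.1 hx)

end sec

end Cfg

end Cfsg.Agent.OddCyclic.BcP.Off
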