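import Cfsg.Agent.OddCyclic.BcP.Two
import Cfsg.Agent.OddCyclic.BcP.MAb
import Cfsg.Agent.OddCyclic.BcP.Off

/-!
# S0342, leaf [Bc], type (b'), section 4 (`T = S`): the final configuration

`Fin4 S L O₁ O A ξ x p N`: three points, `V = Ω₁Z(J) = W ∩ C(J) ≤ W`, `Z = Ω₁Z(S) = ⟨p 0, p 1⟩`, and
not (`N_G(J) ≤ M` and `C_G(Z) ≤ M`), `M = N_G(L) = N_G(W)`. `hh S N i = N i ∩ C(J)`, of order 4.
-/

set_option autoImplicit false
set_option linter.unusedSectionVars false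

namespace Cfsg.Agent.OddCyclic.BcP

open Subgroup Cfsg Cfsg.Agent.ZN Cfsg.Agent.MinSimple
open Cfsg.Agent.OddCyclic.L32
open Cfsg.Agent.OddCyclic.RedTy
open Cfsg.Agent.OddCyclic.RedFinal (NoBlk)
open Cfsg.Agent.MinSimple.LemX (nc le_nc nc_le le_normalizer_nc)

universe u

variable {G : Type u} [Group G] [Finite G]

/-- the final configuration of (b') -/
structure Fin4 (S : Sylow 2 G) (L O₁ O A : Subgroup G) (ξ x : G) (p : Fin 3 → G) (N : Fin 3 → Subgroup G) : Prop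
    extends Tr S (S : Subgroup G) L O₁ O A ξ x p N where
  nb : NoBlk S
  c2 : ¬ (normalizer (jj (S : Subgroup G) : Set G) ≤ normalizer (L : Set G) ∧
    centralizer (zc (S : Subgroup G) : Set G) ≤ normalizer (L : Set G))
  zj_le : zj (S : Subgroup G) ≤ ww N
  zc_eq : zc (S : Subgroup G) = pp p
  six : ∀ g ∈ normalizer (jj (S : Subgroup G) : Set G), ∃ k ∈ zpowers ξ, ∀ z ∈ pp p, (k * g) * z = z * (k * g)
  cz : ∀ g ∈ normalizer (jj (S : Subgroup G) : Set G), ∀ z ∈ pp p, z ≠ 1 → g * z = z * g →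
    ∀ z' ∈ pp p, g * z' = z' * g
  three : ∀ g ∈ normalizer (jj (S : Subgroup G) : Set G), (∀ z ∈ pp p, g * z = z * g) → orderOf g ≠ 3

/-- `H_i = N i ∩ C(J)` -/
def hh (S : Sylow 2 G) (N : Fin 3 → Subgroup G) (i : Fin 3) : Subgroup G :=
  N i ⊓ centralizer (jj (S : Subgroup G) : Set G)

namespace Fin4

variable {S : Sylow 2 G} {L O₁ O A : Subgroup G} {ξ x : G} {p : Fin 3 → G} {N : Fin 3 → Subgroup G}
  (h : Fin4 S L O₁ O A ξ x p N)
include h

theorem mem_hh {i : Fin 3} {n : G} : n ∈ hh S N i ↔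
    n = 1 ∨ n = p i ∨ n = ξ * p i * ξ⁻¹ ∨ n = p i * (ξ * p i * ξ⁻¹) := by
  constructor
  · rintro ⟨h1, h2⟩
    exact ((h.np i).plane n h1).1 fun j hj => mem_centralizer_iff.1 h2 j hj
  · intro h1
    have hn : n ∈ N i := by
      have h2 := h.p_N i
      have h3 : ξ * p i * ξ⁻¹ ∈ N i := h.conj_N (h.L_le_M h.ξL) h2
      rcases h1 with rfl | rfl | rfl | rfl
      · exact one_mem _
      · exact h2
      · exact h3
      · exact mul_mem h2 h3
    exact ⟨hn, mem_centralizer_iff.2 fun j hj => ((h.np i).plane n hn).2 h1 j hj⟩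

theorem p_hh (i : Fin 3) : p i ∈ hh S N i := h.mem_hh.2 (Or.inr (Or.inl rfl))

theorem hh_le_N (i : Fin 3) : hh S N i ≤ N i := inf_le_left

theorem ww_le_S : ww N ≤ (S : Subgroup G) := by
  have hm := exists_lev h.toConf
  exact (h.ww_le_mod.trans hm.le).trans ((zc_le _).trans hm.toLoc.o2_le)

/-- `V = Ω₁Z(J) = W ∩ C(J)` -/
theorem zj_eq : zj (S : Subgroup G) = ww N ⊓ centralizer (jj (S : Subgroup G) : Set G) := by
  apply le_antisymm
  · intro v hv
    exact ⟨h.zj_le hv, mem_centralizer_iff.2 fun j hj => (mem_zj.1 hv).2.1 j hj⟩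
  · rintro v ⟨h1, h2⟩
    exact mem_zj_of_comm (h.ww_le_S h1) (by rw [pow_two]; exact h.ww_sq h1) fun b hb =>
      mem_centralizer_iff.1 h2 b hb

theorem hh_le (i : Fin 3) : hh S N i ≤ zj (S : Subgroup G) := by
  rw [h.zj_eq]
  exact inf_le_inf_right _ (h.N_le_ww i)

/-- `V = H_i × H_j` -/
theorem mem_zj_split {i j : Fin 3} (hij : i ≠ j) {v : G} (hv : v ∈ zj (S : Subgroup G)) :
    ∃ a ∈ hh S N i, ∃ b ∈ hh S N j, v = a * b := by
  rw [h.zj_eq] at hv
  obtain ⟨a, ha, b, hb, rfl⟩ := h.mem_ww hij hv.1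
  have h1 := fun g hg => h.split hij (h.sev.norm hg) ha hb (mem_centralizer_iff.1 hv.2 g hg)
  exact ⟨a, ⟨ha, mem_centralizer_iff.2 fun g hg => (h1 g hg).1⟩, b,
    ⟨hb, mem_centralizer_iff.2 fun g hg => (h1 g hg).2⟩, rfl⟩

theorem hh_sup {i j : Fin 3} (hij : i ≠ j) : hh S N i ⊔ hh S N j = zj (S : Subgroup G) := by
  apply le_antisymm (sup_le (h.hh_le i) (h.hh_le j))
  intro v hv
  obtain ⟨a, ha, b, hb, rfl⟩ := h.mem_zj_split hij hv
  exact mul_mem (le_sup_left (a := hh S N i) ha) (le_sup_right (a := hh S N i) hb)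

end Fin4

end Cfsg.Agent.OddCyclic.BcP
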