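import Cfsg.Agent.OddCyclic.BcP.Two
import Cfsg.Agent.OddCyclic.B2Start
import Cfsg.Agent.OddCyclic.T1Tools

/-!
# S0342, leaf [Bc], type (b'), section 3: `T < S`, `V = C_W(J)`, `C_I(T) ≠ 1` is impossible

* `exists_fixed_coset`: an element `s` of a 2-group normalising `D < E` fixes a nontrivial coset of `D` in `E`;
* `N_le`: `N i = ⟨H_i, H_i^x⟩`; `false_of`: the theorem.
-/

set_option autoImplicit false
set_option linter.unusedSectionVars false
set_option linter.unusedVariables false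

namespace Cfsg.Agent.OddCyclic.BcP.Sec3

open Subgroup Cfsg Cfsg.Agent.ZN Cfsg.Agent.MinSimple
open Cfsg.Agent.OddCyclic.L32
open Cfsg.Agent.OddCyclic.RedTy

universe u

variable {G : Type u} [Group G] [Finite G]

/-- a nontrivial coset of `D` in `E` fixed by `s` -/
theorem exists_fixed_coset {Q D E : Subgroup G} (hQ : IsPGroup 2 Q) (hEQ : E ≤ Q) {s : G} (hs : s ∈ Q) (hDE : D ≤ E)
    (hne : ¬ E ≤ D) (hED : E ≤ normalizer (D : Set G)) (hsD : s ∈ normalizer (D : Set G))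
    (hsE : s ∈ normalizer (E : Set G)) : ∃ r ∈ E, r ∉ D ∧ s * r * s⁻¹ * r⁻¹ ∈ D := by
  obtain ⟨K, hK⟩ : ∃ K : Subgroup G, K = E ⊔ zpowers s := ⟨_, rfl⟩
  have hEK : E ≤ K := by rw [hK]; exact le_sup_left
  have hsK : s ∈ K := by rw [hK]; exact le_sup_right (a := E) (mem_zpowers s)
  have hDK : D ≤ K := hDE.trans hEK
  have hKD : K ≤ normalizer (D : Set G) := by
    rw [hK]; exact sup_le hED (by rw [zpowers_le]; exact hsD)
  have hKE : K ≤ normalizer (E : Set G) := by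
    rw [hK]; exact sup_le le_normalizer (by rw [zpowers_le]; exact hsE)
  have hKQ : K ≤ Q := by rw [hK]; exact sup_le hEQ (by rw [zpowers_le]; exact hs)
  have hN : (D.subgroupOf K).Normal := ⟨fun d hd k => by
    rw [mem_subgroupOf] at hd ⊢
    exact (mem_normalizer_iff.1 (hKD k.2) d).1 hd⟩
  obtain ⟨π, hπ⟩ : ∃ π : K →* K ⧸ D.subgroupOf K, π = QuotientGroup.mk' (D.subgroupOf K) := ⟨_, rfl⟩
  have hker : ∀ k : K, π k = 1 ↔ (k : G) ∈ D := by
    intro k
    rw [hπ, ← MonoidHom.mem_ker, QuotientGroup.ker_mk', mem_subgroupOf]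
  have hsurj : Function.Surjective π := by rw [hπ]; exact QuotientGroup.mk'_surjective _
  have h2 : IsPGroup 2 (⊤ : Subgroup (K ⧸ D.subgroupOf K)) := by
    have h3 : IsPGroup 2 K := hQ.to_le hKQ
    have h4 : IsPGroup 2 (K ⧸ D.subgroupOf K) := h3.of_surjective π hsurj
    exact h4.of_equiv Subgroup.topEquiv.symm
  obtain ⟨u, hu, hu1, huc⟩ := B2Start.exists_central (S := (E.subgroupOf K).map π) (T := ⊤) h2 le_top (by
      rintro x - _ ⟨e, he, rfl⟩
      obtain ⟨k, rfl⟩ := hsurj x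
      refine ⟨k * e * k⁻¹, ?_, by rw [map_mul, map_mul, map_inv]⟩
      have he' : (e : G) ∈ E := he
      exact (mem_normalizer_iff.1 (hKE k.2) e).1 he') (by
      intro hb
      apply hne
      intro e he
      rw [← hker ⟨e, hEK he⟩, ← Subgroup.mem_bot, ← hb]
      exact ⟨⟨e, hEK he⟩, he, rfl⟩)
  obtain ⟨e, he, rfl⟩ := hu
  have he' : (e : G) ∈ E := he
  refine ⟨e, he', fun hD => hu1 ((hker e).2 hD), ?_⟩
  have h5 := huc (π ⟨s, hsK⟩) (mem_top _)
  have h6 : π (⟨s, hsK⟩ * e * ⟨s, hsK⟩⁻¹ * e⁻¹) = 1 := by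
    rw [map_mul, map_mul, map_mul, map_inv, map_inv, h5]; group
  exact (hker _).1 h6

theorem two_mul_card_le {A B : Subgroup G} (h : A ≤ B) {b : G} (hb : b ∈ B) (hA : b ∉ A) :
    2 * Nat.card A ≤ Nat.card B := by
  have h1 := T1Tools.card_mul_relIndex h
  have h2 : A.relIndex B ≠ 1 := fun e => hA (relIndex_eq_one.1 e hb)
  have h3 : A.relIndex B ≠ 0 := by rw [Subgroup.relIndex]; exact index_ne_zero_of_finite
  have h4 : 2 ≤ A.relIndex B := by omega
  calc 2 * Nat.card A ≤ A.relIndex B * Nat.card A := Nat.mul_le_mul_right _ h4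
    _ = Nat.card B := by rw [mul_comm]; exact h1

variable {S : Sylow 2 G} {T L O₁ O A : Subgroup G} {ξ x : G} {p : Fin 3 → G} {N : Fin 3 → Subgroup G}

/-- `N i ≤ K` if `C_{N i}(J) ≤ K` and `C_{N i}(J)^x ≤ K` -/
theorem N_le (h : Tr S T L O₁ O A ξ x p N) (i : Fin 3) {K : Subgroup G}
    (h1 : ∀ n ∈ N i, (∀ j ∈ jj (S : Subgroup G), j * n = n * j) → n ∈ K)
    (h2 : ∀ n ∈ N i, (∀ j ∈ jj (S : Subgroup G), j * n = n * j) → x * n * x⁻¹ ∈ K) : N i ≤ K := by
  have c := h.np i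
  have hxN : x ∈ normalizer (N i : Set G) := c.norm (h.L_le_M h.xL)
  have hξN : ξ ∈ normalizer (N i : Set G) := c.norm (h.L_le_M h.ξL)
  obtain ⟨a, ha⟩ : ∃ a, a = ξ * p i * ξ⁻¹ := ⟨_, rfl⟩
  have haN : a ∈ N i := by rw [ha]; exact (mem_normalizer_iff.1 hξN _).1 c.pN
  have hp1 := c.p1
  have hap : a ≠ p i := fun e => c.xp (by rw [ha] at e; exact mul_inv_eq_iff_eq_mul.1 e)
  have ha1 : a ≠ 1 := fun e => hp1 (by
    have : p i = ξ⁻¹ * a * ξ := by rw [ha]; group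
    rw [this, e]; group)
  have hpp : p i * p i = 1 := h.p_sq i
  have hxp : x * p i = p i * x := h.xZ _ (h.p_mem i)
  have hxa : ¬ x * a = a * x := by
    intro e
    rcases (c.xfix a haN).1 e with e | e
    · exact ha1 e
    · exact hap e
  obtain ⟨b, hb⟩ : ∃ b, b = x * a * x⁻¹ := ⟨_, rfl⟩
  have hbN : b ∈ N i := by rw [hb]; exact (mem_normalizer_iff.1 hxN _).1 haN
  -- `b` is moved by `J`
  have hbH : ¬ ∀ j ∈ jj (S : Subgroup G), j * b = b * j := by
    intro hbJ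
    have hx3 : x * (x * (x * a * x⁻¹) * x⁻¹) * x⁻¹ = a := by
      have e : x ^ 3 = 1 := by rw [← h.x3]; exact pow_orderOf_eq_one x
      have e2 : x * (x * (x * a * x⁻¹) * x⁻¹) * x⁻¹ = x ^ 3 * a * (x ^ 3)⁻¹ := by
        simp only [pow_succ, pow_zero, one_mul, mul_inv_rev, mul_assoc]
      rw [e2, e, one_mul, inv_one, mul_one]
    rcases (c.plane b hbN).1 hbJ with e | e | e | e
    · apply ha1
      have : a = x⁻¹ * b * x := by rw [hb]; group
      rw [this, e]; group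
    · apply hap
      have e2 : a = x⁻¹ * b * x := by rw [hb]; group
      have e3 : x⁻¹ * p i * x = p i := by rw [mul_assoc, ← hxp]; group
      rw [e2, e, e3]
    · rw [← ha, hb] at e
      exact hxa (mul_inv_eq_iff_eq_mul.1 e)
    · rw [← ha] at e
      apply hxa
      have e2 : x * b * x⁻¹ = a := by
        rw [e]
        calc x * (p i * a) * x⁻¹ = (x * p i) * x⁻¹ * (x * a * x⁻¹) := by group
          _ = p i * (p i * a) := by rw [hxp, mul_inv_cancel_right, ← hb, e]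
          _ = a := by rw [← mul_assoc, hpp, one_mul]
      rw [← hb, e2] at hx3
      exact mul_inv_eq_iff_eq_mul.1 hx3
  have haJ : ∀ j ∈ jj (S : Subgroup G), j * a = a * j :=
    (c.plane a haN).2 (Or.inr (Or.inr (Or.inl (by rw [ha]))))
  have hpJ : ∀ j ∈ jj (S : Subgroup G), j * p i = p i * j := (c.plane _ c.pN).2 (Or.inr (Or.inl rfl))
  obtain ⟨H, hH⟩ : ∃ H : Subgroup G, H = N i ⊓ centralizer (jj (S : Subgroup G) : Set G) := ⟨_, rfl⟩
  have hmem : ∀ n, n ∈ H ↔ n ∈ N i ∧ ∀ j ∈ jj (S : Subgroup G), j * n = n * j := by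
    intro n
    rw [hH, mem_inf, mem_centralizer_iff]
    rfl
  have k1 : 2 * Nat.card (zpowers (p i)) ≤ Nat.card H := by
    refine two_mul_card_le ?_ ((hmem a).2 ⟨haN, haJ⟩) (fun e => ?_)
    · rw [zpowers_le]; exact (hmem _).2 ⟨c.pN, hpJ⟩
    · obtain ⟨m, hm⟩ := mem_zpowers_iff.1 e
      have h22 : (p i) ^ (2 : ℤ) = 1 := by rw [zpow_ofNat, pow_two, hpp]
      rcases Int.even_or_odd m with ⟨k, rfl⟩ | ⟨k, rfl⟩
      · apply ha1
        rw [← hm, ← two_mul, zpow_mul, h22, one_zpow]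
      · apply hap
        rw [← hm, zpow_add, zpow_mul, zpow_one, h22, one_zpow, one_mul]
  have k2 : Nat.card (zpowers (p i)) = 2 := by
    rw [Nat.card_zpowers]
    exact orderOf_eq_prime (by rw [pow_two]; exact hpp) hp1
  have k3 : 2 * Nat.card H ≤ Nat.card (N i ⊓ K : Subgroup G) := by
    refine two_mul_card_le (b := b) ?_ (mem_inf.2 ⟨hbN, by rw [hb]; exact h2 a haN haJ⟩) (fun e => hbH ((hmem b).1 e).2)
    intro n hn
    exact mem_inf.2 ⟨((hmem n).1 hn).1, h1 n ((hmem n).1 hn).1 ((hmem n).1 hn).2⟩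
  have k4 : (N i ⊓ K : Subgroup G) = N i := by
    apply Subgroup.eq_of_le_of_card_ge inf_le_left
    rw [c.card]; omega
  rw [← k4]; exact inf_le_right

theorem conj_zc {T : Subgroup G} {g : G} (hg : g ∈ normalizer (T : Set G)) {z : G} (hz : z ∈ zc T) :
    g * z * g⁻¹ ∈ zc T := by
  rw [ChoiceBase.mem_zc] at hz ⊢
  refine ⟨(mem_normalizer_iff.1 hg z).1 hz.1, ?_, fun y hy => ?_⟩
  · rw [conj_pow, hz.2.1]; group
  · have h1 : g⁻¹ * y * g ∈ T := by
      have := (mem_normalizer_iff.1 (inv_mem hg) y).1 hy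
      rwa [inv_inv] at this
    have h2 := hz.2.2 _ h1
    calc y * (g * z * g⁻¹) = g * ((g⁻¹ * y * g) * z) * g⁻¹ := by group
      _ = g * (z * (g⁻¹ * y * g)) * g⁻¹ := by rw [h2]
      _ = g * z * g⁻¹ * y := by group

/-- `C_W(L) = 1` -/
theorem eq_one_of_L (h : Tr S T L O₁ O A ξ x p N) {u : G} (hu : u ∈ ww N) (hL : ∀ l ∈ L, l * u = u * l) : u = 1 := by
  rcases h.mem_pp.1 ((h.x_fix hu).1 (hL x h.xL)) with e | ⟨i, e⟩
  · exact e
  · exact absurd (by rw [← e]; exact hL ξ h.ξL) (h.np i).xp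

/-- `C(i) ≤ N(L)` for `1 ≠ i ∈ Ω₁Z(T)`, `[i, L] = 1` -/
theorem cent_le (h : Tr S T L O₁ O A ξ x p N) {i : G} (hi : i ∈ zc T) (hi1 : i ≠ 1) (hL : ∀ l ∈ L, l * i = i * l) :
    centralizer ({i} : Set G) ≤ normalizer (L : Set G) := by
  have hi' := ChoiceBase.mem_zc.1 hi
  refine h.uniq _ ?_ (fun l hl => mem_centralizer_singleton_iff.2 (hL l hl)) (fun j hj =>
    mem_centralizer_singleton_iff.2 (hi'.2.2 j ((h.J_le.trans h.O₁_le) hj)))
  have h1 : zpowers i ≤ centralizer ({i} : Set G) := by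
    rw [zpowers_le]; exact mem_centralizer_singleton_iff.2 rfl
  have h2 : IsPGroup 2 (zpowers i) := by
    rintro ⟨y, hy⟩
    obtain ⟨m, rfl⟩ := mem_zpowers_iff.1 hy
    refine ⟨1, Subtype.ext ?_⟩
    change (i ^ m) ^ 2 ^ 1 = 1
    rw [pow_one, ← zpow_natCast, ← zpow_mul, mul_comm, zpow_mul, zpow_natCast, hi'.2.1, one_zpow]
  have h3 : centralizer ({i} : Set G) ≤ normalizer (zpowers i : Set G) := by
    refine Block.le_normalizer_of_forall fun g hg y hy => ?_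
    obtain ⟨m, rfl⟩ := mem_zpowers_iff.1 hy
    have h4 : Commute g i := mem_centralizer_singleton_iff.1 hg
    rw [(h4.zpow_right m).eq, mul_inv_cancel_right]
    exact hy
  have h4 := Block.le_o2 h2 h1 h3
  intro hb
  exact hi1 (Subgroup.mem_bot.1 (hb ▸ h4 (mem_zpowers i)))

/-- **section 3** -/
theorem false_of (h : Tr S T L O₁ O A ξ x p N) (hne : ¬ (S : Subgroup G) ≤ normalizer (L : Set G))
    (hZ : pp p ≤ zc (S : Subgroup G))
    (hdec : ∀ z ∈ zj (S : Subgroup G), ∃ w ∈ ww N, ∃ i, (∀ l ∈ L, l * i = i * l) ∧ z = w * i)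
    (hr : ∃ r ∈ zc T, r ≠ 1 ∧ ∀ l ∈ L, l * r = r * l)
    (hV : (S : Subgroup G) ≤
      normalizer ((ww N ⊓ centralizer (jj (S : Subgroup G) : Set G) : Subgroup G) : Set G)) : False := by
  have hTS : T ≤ S := by rw [h.T_eq]; exact inf_le_left
  have hJT : jj (S : Subgroup G) ≤ T := h.J_le.trans h.O₁_le
  obtain ⟨s, hs, hsT, hsn⟩ := B2Start.exists_normalizing (T := T) (Y := (S : Subgroup G)) S.isPGroup' hTS
    (fun e => hne (by rw [e]; exact h.T_le_M))
  have hsL : s ∉ normalizer (L : Set G) := fun hL => hsT (by rw [h.T_eq]; exact ⟨hs, hL⟩)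
  have hsT' : s ∈ normalizer (T : Set G) := mem_normalizer_fintype (S := (T : Set G)) hsn
  have hszc : s ∈ normalizer (zc T : Set G) := Block.mem_normalizer_of (fun z hz => conj_zc hsT' hz)
    (fun z hz => by
      have := conj_zc (inv_mem hsT') hz
      rwa [inv_inv] at this)
  have hsp : ∀ z ∈ pp p, s * z = z * s := fun z hz => (ChoiceBase.mem_zc.1 (hZ hz)).2.2 s hs
  have hspp : s ∈ normalizer (pp p : Set G) := mem_normalizer_fintype (S := (pp p : Set G)) fun z hz => by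
    rw [hsp z hz, mul_inv_cancel_right]; exact hz
  obtain ⟨r₀, hr₀, hr₀1, hr₀L⟩ := hr
  obtain ⟨r, hrT, hrD, hrs⟩ := exists_fixed_coset (Q := (S : Subgroup G)) (D := pp p) (E := zc T) S.isPGroup'
    ((Block.zc_le T).trans hTS) hs h.pp_le_zc (fun hle => hr₀1 (eq_one_of_L h (h.pp_le_ww (hle hr₀)) hr₀L))
    (Block.le_normalizer_of_forall fun g hg z hz => by
      rw [(ChoiceBase.mem_zc.1 (h.pp_le_zc hz)).2.2 g (Block.zc_le T hg), mul_inv_cancel_right]; exact hz) hspp hszc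
  have hrT' := ChoiceBase.mem_zc.1 hrT
  have hrzj : r ∈ zj (S : Subgroup G) := mem_zj_of_comm (hTS hrT'.1) hrT'.2.1 fun b hb => hrT'.2.2 b (hJT hb)
  obtain ⟨w, hw, i, hiL, hwi⟩ := hdec r hrzj
  -- `w ∈ ⟨p₀, p₁⟩`
  have hwp : w ∈ pp p := by
    refine h.T_fix hw fun t ht => ?_
    have htM := h.T_le_M ht
    obtain ⟨u, hu⟩ : ∃ u, u = w⁻¹ * (t * w * t⁻¹) := ⟨_, rfl⟩
    have huW : u ∈ ww N := by rw [hu]; exact mul_mem (inv_mem hw) (h.conj_ww htM hw)
    have htr : t * r * t⁻¹ = r := by rw [hrT'.2.2 t ht, mul_inv_cancel_right]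
    have hu2 : u = i * (t * i * t⁻¹)⁻¹ := by
      rw [hwi] at htr
      have e : (t * w * t⁻¹) * (t * i * t⁻¹) = w * i := by rw [← htr]; group
      rw [hu]
      calc w⁻¹ * (t * w * t⁻¹) = w⁻¹ * ((t * w * t⁻¹) * (t * i * t⁻¹)) * (t * i * t⁻¹)⁻¹ := by group
        _ = i * (t * i * t⁻¹)⁻¹ := by rw [e]; group
    have hu1 : u = 1 := eq_one_of_L h huW fun l hl => by
      have h1 := hiL l hl
      have h2 : t⁻¹ * l * t ∈ L := by
        have := (mem_normalizer_iff.1 (inv_mem htM) l).1 hl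
        rwa [inv_inv] at this
      have h3 := hiL _ h2
      have h4 : l * (t * i * t⁻¹) = (t * i * t⁻¹) * l := by
        calc l * (t * i * t⁻¹) = t * ((t⁻¹ * l * t) * i) * t⁻¹ := by group
          _ = t * (i * (t⁻¹ * l * t)) * t⁻¹ := by rw [h3]
          _ = (t * i * t⁻¹) * l := by group
      rw [hu2]
      exact (Commute.mul_right h1 (Commute.inv_right h4) : Commute l _)
    rw [hu1] at hu
    have h5 : t * w * t⁻¹ = w := (inv_mul_eq_one.1 hu.symm).symm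
    exact mul_inv_eq_iff_eq_mul.1 h5
  have hi : i = w⁻¹ * r := by rw [hwi]; group
  have hizc : i ∈ zc T := by rw [hi]; exact mul_mem (inv_mem (h.pp_le_zc hwp)) hrT
  have hi1 : i ≠ 1 := fun e => hrD (by rw [hwi, e, mul_one]; exact hwp)
  obtain ⟨v, hv⟩ : ∃ v, v = s * i * s⁻¹ * i⁻¹ := ⟨_, rfl⟩
  have hvp : v ∈ pp p := by
    have e : v = w⁻¹ * (s * r * s⁻¹ * r⁻¹) * w := by
      rw [hv, hi]
      calc s * (w⁻¹ * r) * s⁻¹ * (w⁻¹ * r)⁻¹ = (s * w⁻¹) * r * s⁻¹ * r⁻¹ * w := by group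
        _ = w⁻¹ * (s * r * s⁻¹ * r⁻¹) * w := by rw [hsp _ (inv_mem hwp)]; group
    rw [e]
    exact mul_mem (mul_mem (inv_mem hwp) hrs) hwp
  have hC := cent_le h hizc hi1 hiL
  -- the elements of order three
  obtain ⟨K, hK⟩ : ∃ K : Set G, K = {g | El3 g ∧ g ∈ normalizer (L : Set G) ∧ ∀ z ∈ pp p, g * z = z * g} :=
    ⟨_, rfl⟩
  have hsK : ∀ g ∈ K, s⁻¹ * g * s ∈ K := by
    intro g hg
    rw [hK] at hg ⊢
    obtain ⟨⟨m, hm⟩, hgN, hgp⟩ := hg
    have hgL := (h.el3 g hgN ⟨m, hm⟩).1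
    have h1 : g * (s * i * s⁻¹) = (s * i * s⁻¹) * g := by
      have e : s * i * s⁻¹ = v * i := by rw [hv]; group
      rw [e]
      exact (Commute.mul_right (hgp v hvp) (hiL g hgL) : Commute g _)
    refine ⟨⟨m, ?_⟩, hC (mem_centralizer_singleton_iff.2 ?_), fun z hz => ?_⟩
    · have e : (s⁻¹ * g * s) ^ 3 ^ m = s⁻¹ * g ^ 3 ^ m * s := by
        have := conj_pow (i := 3 ^ m) (a := s⁻¹) (b := g)
        rwa [inv_inv] at this
      rw [e, hm]; group
    · calc s⁻¹ * g * s * i = s⁻¹ * (g * (s * i * s⁻¹)) * s := by group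
        _ = s⁻¹ * ((s * i * s⁻¹) * g) * s := by rw [h1]
        _ = i * (s⁻¹ * g * s) := by group
    · have h2 := hsp z hz
      calc s⁻¹ * g * s * z = s⁻¹ * g * (s * z) := by group
        _ = s⁻¹ * (g * z) * s := by rw [h2]; group
        _ = s⁻¹ * (z * s) * s⁻¹ * g * s := by rw [hgp z hz]; group
        _ = z * (s⁻¹ * g * s) := by rw [← h2]; group
  have hsKc : ∀ g ∈ closure K, s⁻¹ * g * s ∈ closure K := by
    intro g hg
    induction hg using closure_induction with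
    | mem g hg => exact subset_closure (hsK g hg)
    | one => simp
    | mul a b _ _ ha hb =>
      have e : s⁻¹ * (a * b) * s = (s⁻¹ * a * s) * (s⁻¹ * b * s) := by group
      rw [e]; exact mul_mem ha hb
    | inv a _ ha =>
      have e : s⁻¹ * a⁻¹ * s = (s⁻¹ * a * s)⁻¹ := by group
      rw [e]; exact inv_mem ha
  have hKN : closure K ≤ normalizer (L : Set G) := by
    rw [closure_le]
    intro g hg
    rw [hK] at hg
    exact hg.2.1
  have hxK : x ∈ closure K := subset_closure (by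
    rw [hK]
    refine ⟨⟨1, by rw [pow_one, ← h.x3]; exact pow_orderOf_eq_one x⟩, h.L_le_M h.xL, fun z hz =>
      h.xZ z (h.pp_le_zc hz)⟩)
  obtain ⟨V, hVd⟩ : ∃ V : Subgroup G, V = ww N ⊓ centralizer (jj (S : Subgroup G) : Set G) := ⟨_, rfl⟩
  rw [← hVd] at hV
  obtain ⟨N', hN'⟩ : ∃ N' : Subgroup G, N' = closure {y | ∃ g ∈ closure K, ∃ v ∈ V, y = g * v * g⁻¹} := ⟨_, rfl⟩
  have hmemV : ∀ i, ∀ n ∈ N i, (∀ j ∈ jj (S : Subgroup G), j * n = n * j) → n ∈ V := by
    intro i n hn hj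
    rw [hVd]
    exact mem_inf.2 ⟨h.N_le_ww i hn, mem_centralizer_iff.2 hj⟩
  have hNN : ∀ i, N i ≤ N' := fun i => N_le h i
    (fun n hn hj => by
      rw [hN']
      exact subset_closure ⟨1, one_mem _, n, hmemV i n hn hj, by group⟩)
    (fun n hn hj => by
      rw [hN']
      exact subset_closure ⟨x, hxK, n, hmemV i n hn hj, rfl⟩)
  have hW : ww N = N' := by
    refine le_antisymm (sup_le (hNN 0) (hNN 1)) ?_
    rw [hN', closure_le]
    rintro _ ⟨g, hg, v, hv, rfl⟩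
    rw [hVd] at hv
    exact h.conj_ww (hKN hg) hv.1
  have hsN : ∀ y ∈ N', s⁻¹ * y * s ∈ N' := by
    intro y hy
    rw [hN'] at hy ⊢
    induction hy using closure_induction with
    | mem y hy =>
      obtain ⟨g, hg, v, hv, rfl⟩ := hy
      refine subset_closure ⟨s⁻¹ * g * s, hsKc g hg, s⁻¹ * v * s, ?_, by group⟩
      have := (mem_normalizer_iff.1 (inv_mem (hV hs)) v).1 hv
      rwa [inv_inv] at this
    | one => simp
    | mul a b _ _ ha hb =>
      have e : s⁻¹ * (a * b) * s = (s⁻¹ * a * s) * (s⁻¹ * b * s) := by group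
      rw [e]; exact mul_mem ha hb
    | inv a _ ha =>
      have e : s⁻¹ * a⁻¹ * s = (s⁻¹ * a * s)⁻¹ := by group
      rw [e]; exact inv_mem ha
  have hsW : s⁻¹ ∈ normalizer (ww N : Set G) := mem_normalizer_fintype (S := (ww N : Set G)) fun y hy => by
    rw [inv_inv]
    rw [hW] at hy ⊢
    exact hsN y hy
  rw [h.norm_ww_eq] at hsW
  exact hsL (by have := inv_mem hsW; rwa [inv_inv] at this)

end Cfsg.Agent.OddCyclic.BcP.Sec3
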