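import Mathlib
import Cfsg.Agent.OddCyclic.BcP.LemK
import Cfsg.Agent.S0144
import Cfsg.Agent.S0044
import Cfsg.Agent.Lib.Cores

/-!
# S0342, leaf [Bc], type (b'), 2D: `|V| = 16`

`H` faithful on `V`, `|V| = 16`, `O₂(H) = 1`, cyclic odd Sylow subgroups, `⟨x⟩ ⊴ H` of order 3 fixed-point-free on `V`,
`e² = 1`, `e` inverts `x`: then `H = ⟨x, e⟩` has order 6.
-/

set_option autoImplicit false
set_option linter.unusedSectionVars false

namespace Cfsg.Agent.OddCyclic.BcP.Vsix

open Subgroup Cfsg Cfsg.Agent.OddCyclic.T1Module Cfsg.Agent.OddCyclic.FFBasic Cfsg.Agent.OddCyclic.FFSl2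
open Cfsg.Agent.OddCyclic.T1Defs (OddCyc)

/-- the hypotheses -/
structure Hyp {H : Type*} [Group H] {V : Type*} [CommGroup V] (ρ : H →* MulAut V) (x e : H) : Prop where
  inj : Function.Injective ρ
  sq : ∀ v : V, v * v = 1
  cyc : OddCyc H
  o2 : ∀ D : Subgroup H, D.Normal → IsPGroup 2 D → D = ⊥
  hV : Nat.card V = 16
  hn : (zpowers x).Normal
  hx3 : orderOf x = 3
  hfp : ∀ v : V, ρ x v = v → v = 1
  he : e * e = 1
  hex : e * x * e⁻¹ = x⁻¹

variable {H : Type*} [Group H] [Finite H] {V : Type*} [CommGroup V] [Finite V] {ρ : H →* MulAut V} {x e : H}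

theorem Hyp.moved (h : Hyp ρ x e) {y : H} (hy : y ≠ 1) : ∃ v, ρ y v ≠ v := by
  by_contra hcon
  push Not at hcon
  apply hy
  apply h.inj
  rw [map_one]
  exact MulEquiv.ext hcon

theorem Hyp.inv_ne (h : Hyp ρ x e) : x⁻¹ ≠ x := by
  intro h1
  have h2 := inv_mul_cancel x
  rw [h1] at h2
  have h3 : orderOf x ∣ 2 := orderOf_dvd_of_pow_eq_one (by rw [pow_two, h2])
  rw [h.hx3] at h3
  omega

/-- elements of order 3 lie in `⟨x⟩` and generate it -/
theorem Hyp.three (h : Hyp ρ x e) {y : H} (hy : orderOf y = 3) : y ∈ zpowers x ∧ x ∈ zpowers y := by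
  have := h.hn
  obtain ⟨g, h1, -⟩ := LemK.conj_three h.cyc h.hx3 hy
  have h2 : zpowers (g * x * g⁻¹) ≤ zpowers x :=
    zpowers_le.2 (this.conj_mem x (mem_zpowers x) g)
  have h3 := h2 h1
  refine ⟨h3, ?_⟩
  have h4 : zpowers y = zpowers x :=
    Subgroup.eq_of_le_of_card_ge (zpowers_le.2 h3) (by rw [Nat.card_zpowers, Nat.card_zpowers, hy, h.hx3])
  rw [h4]
  exact mem_zpowers x

/-- elements of order 3 are fixed-point-free -/
theorem Hyp.fpf (h : Hyp ρ x e) {y : H} (hy : orderOf y = 3) {v : V} (hv : ρ y v = v) : v = 1 :=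
  h.hfp v (FFPsl.fx_le_of_mem ρ (h.three hy).2 hv)

/-- a subgroup of `H` all whose nontrivial elements are fixed-point-free has order dividing `|W| - 1` for the
invariant subgroups `W` -/
theorem dvd_sub {D : Subgroup H} {W : Subgroup V} (hst : ∀ d ∈ D, ∀ w ∈ W, ρ d w ∈ W)
    (hf : ∀ d ∈ D, ∀ w ∈ W, w ≠ 1 → ρ d w = w → d = 1) : Nat.card D ∣ Nat.card W - 1 :=
  card_dvd_sub_one (ρ.comp D.subtype) W (fun d c hc => hst d d.2 c hc)
    (fun d c hc hc1 h => Subtype.ext (hf d d.2 c hc hc1 h))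

/-- no elements of order 9 -/
theorem Hyp.not_nine (h : Hyp ρ x e) {y : H} (hy : orderOf y = 9) : False := by
  have h1 : Nat.card (zpowers y) ∣ Nat.card (⊤ : Subgroup V) - 1 := by
    refine dvd_sub (ρ := ρ) (fun _ _ _ _ => mem_top _) ?_
    rintro _ ⟨k, rfl⟩ v - hv1 hv
    by_contra hne
    have hne' : y ^ k ≠ 1 := hne
    apply hv1
    -- a power of `y ^ k` has order 3
    have ho : orderOf (y ^ k) ∣ 9 := by
      rw [← hy, ← Nat.card_zpowers y, ← Nat.card_zpowers]
      exact Subgroup.card_dvd_of_le (zpowers_le.2 ⟨k, rfl⟩)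
    have ho1 : orderOf (y ^ k) ≠ 1 := fun h2 => hne' (orderOf_eq_one_iff.1 h2)
    have ho2 : orderOf (y ^ k) = 3 ∨ orderOf (y ^ k) = 9 := by
      have h2 : orderOf (y ^ k) ≤ 9 := Nat.le_of_dvd (by norm_num) ho
      have h3 : 0 < orderOf (y ^ k) := orderOf_pos _
      generalize orderOf (y ^ k) = n at *
      interval_cases n <;> omega
    rcases ho2 with h2 | h2
    · exact h.fpf h2 hv
    · have h3 : orderOf ((y ^ k) ^ 3) = 3 := by rw [orderOf_pow, h2]; norm_num
      exact h.fpf h3 (fx_pow ρ hv 3)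
  rw [Nat.card_zpowers, hy, Subgroup.card_top, h.hV] at h1
  norm_num at h1

/-- elements of odd order commute with `x` -/
theorem Hyp.comm (h : Hyp ρ x e) {y : H} (hy : Odd (orderOf y)) : y * x = x * y := by
  have hn := h.hn
  have h1 : y * x * y⁻¹ ∈ zpowers x := hn.conj_mem x (mem_zpowers x) y
  have h2 : y * x * y⁻¹ = x ∨ y * x * y⁻¹ = x⁻¹ := by
    obtain ⟨k, hk⟩ := h1
    have hk' : x ^ k = y * x * y⁻¹ := hk
    have ho : orderOf (x ^ k) = 3 := by
      rw [hk', ← h.hx3]
      exact orderOf_injective (MulAut.conj y).toMonoidHom (MulAut.conj y).injective x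
    have hx3 : x ^ (3 : ℤ) = 1 := by
      have := pow_orderOf_eq_one x
      rw [h.hx3] at this
      exact_mod_cast this
    have h3 : x ^ k = x ^ (k % 3) := by
      conv_lhs => rw [← Int.emod_add_mul_ediv k 3]
      rw [zpow_add, zpow_mul, hx3, one_zpow, mul_one]
    have h4 : k % 3 = 0 ∨ k % 3 = 1 ∨ k % 3 = 2 := by omega
    rw [← hk']
    rcases h4 with h4 | h4 | h4
    · rw [h3, h4, zpow_zero, orderOf_one] at ho
      omega
    · left; rw [h3, h4, zpow_one]
    · right
      rw [h3, h4]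
      have h5 : x ^ (2 : ℤ) * x = 1 := by rw [← hx3, ← zpow_add_one]; norm_num
      exact eq_inv_of_mul_eq_one_left h5
  rcases h2 with h2 | h2
  · exact mul_inv_eq_iff_eq_mul.1 h2
  -- `y²` commutes with `x`, `y` is a power of `y²`
  have h3 : (y * y) * x = x * (y * y) := by
    have h4 : y * (y * x * y⁻¹) * y⁻¹ = x := by
      rw [h2]
      have : y * x⁻¹ * y⁻¹ = (y * x * y⁻¹)⁻¹ := by group
      rw [this, h2, inv_inv]
    calc (y * y) * x = (y * (y * x * y⁻¹) * y⁻¹) * (y * y) := by group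
      _ = x * (y * y) := by rw [h4]
  obtain ⟨m, hm⟩ := hy
  have h5 : (y * y) ^ (m + 1) = y := by
    rw [← pow_two, ← pow_mul, show 2 * (m + 1) = orderOf y + 1 by omega, pow_succ, pow_orderOf_eq_one, one_mul]
  have h6 : Commute (y * y) x := h3
  have h7 := h6.pow_left (m + 1)
  rw [h5] at h7
  exact h7

/-- no elements of order 7 -/
theorem Hyp.not_seven (h : Hyp ρ x e) {y : H} (hy : orderOf y = 7) : False := by
  have hy1 : y ≠ 1 := by rintro rfl; rw [orderOf_one] at hy; omega
  obtain ⟨d, hd, h1, h2⟩ := prim (ρ := ρ) h.sq (by norm_num) (by norm_num) hy (h.moved hy1)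
  have hcom := h.comm (y := y) (by rw [hy]; decide)
  have h3 := (fx ρ y).card_mul_index
  rw [h.hV, h1] at h3
  have h4 : d ≤ 4 := by
    have : 2 ^ d ≤ 2 ^ 4 := Nat.le_of_dvd (by norm_num) ⟨_, (by rw [mul_comm]; exact h3.symm)⟩
    exact (Nat.pow_le_pow_iff_right (by norm_num)).1 this
  have h5 : d = 3 := by
    interval_cases d <;> norm_num at h2
    rfl
  rw [h5] at h3
  have h6 : Nat.card (fx ρ y) = 2 := by omega
  have h7 : Nat.card (zpowers x) ∣ Nat.card (fx ρ y) - 1 := by
    refine dvd_sub (ρ := ρ) ?_ ?_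
    · rintro _ ⟨k, rfl⟩ w hw
      rw [mem_fx] at hw ⊢
      show ρ y (ρ (x ^ k) w) = ρ (x ^ k) w
      rw [← MulAut.mul_apply, ← map_mul, ((show Commute y x from hcom).zpow_right k).eq, map_mul, MulAut.mul_apply, hw]
    · rintro _ ⟨k, rfl⟩ w - hw1 hw
      by_contra hne
      apply hw1
      refine h.fpf (y := x ^ k) ?_ hw
      have h8 : orderOf (x ^ k) ∣ 3 := by
        rw [← h.hx3, ← Nat.card_zpowers x, ← Nat.card_zpowers]
        exact Subgroup.card_dvd_of_le (zpowers_le.2 ⟨k, rfl⟩)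
      rcases (Nat.dvd_prime Nat.prime_three).1 h8 with h9 | h9
      · exact absurd (orderOf_eq_one_iff.1 h9) hne
      · exact h9
  rw [Nat.card_zpowers, h.hx3, h6] at h7
  norm_num at h7

/-- the primes dividing `|H|` -/
theorem Hyp.primes (h : Hyp ρ x e) {r : ℕ} (hr : r.Prime) {y : H} (hy : orderOf y = r) : r = 2 ∨ r = 3 ∨ r = 5 := by
  by_cases hr2 : r = 2
  · exact Or.inl hr2
  have hy1 : y ≠ 1 := by rintro rfl; rw [orderOf_one] at hy; exact hr.one_lt.ne hy
  obtain ⟨d, hd, h1, h2⟩ := prim (ρ := ρ) h.sq hr hr2 hy (h.moved hy1)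
  have h3 := (fx ρ y).card_mul_index
  rw [h.hV, h1] at h3
  have h4 : d ≤ 4 := by
    have : 2 ^ d ≤ 2 ^ 4 := Nat.le_of_dvd (by norm_num) ⟨_, (by rw [mul_comm]; exact h3.symm)⟩
    exact (Nat.pow_le_pow_iff_right (by norm_num)).1 this
  have h5 : r ∈ Nat.divisors (2 ^ d - 1) := by
    rw [Nat.mem_divisors]
    refine ⟨h2, ?_⟩
    have : 2 ^ 1 ≤ 2 ^ d := Nat.pow_le_pow_right (by norm_num) hd
    omega
  have h7 : r ≠ 7 := fun h7 => h.not_seven (hy.trans h7)
  have hall : ∀ d, 0 < d → d ≤ 4 → ∀ r ∈ Nat.divisors (2 ^ d - 1), Nat.Prime r → r ≠ 7 → r = 2 ∨ r = 3 ∨ r = 5 := by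
    intro d hd hd4
    interval_cases d <;> decide +kernel
  exact hall d hd h4 r h5 hr h7

/-- the index of the fixed points of `e` -/
theorem Hyp.index_e (h : Hyp ρ x e) : (fx ρ e).index ≤ 4 := by
  have hee : ∀ v, ρ e (ρ e v) = v := by
    intro v
    rw [← MulAut.mul_apply, ← map_mul, h.he, map_one]; rfl
  have h1 : (cm ρ e).range ≤ fx ρ e := by
    rintro _ ⟨v, rfl⟩
    rw [mem_fx, cm_apply, map_mul, map_inv, hee, inv_eq_self h.sq, inv_eq_self h.sq, mul_comm]
  have h2 := Nat.card_le_card_of_injective _ (Subgroup.inclusion_injective h1)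
  rw [card_range_cm] at h2
  have h3 := (fx ρ e).card_mul_index
  rw [h.hV] at h3
  by_contra hcon
  have h4 : 5 ≤ (fx ρ e).index := by omega
  have h5 : 5 * 5 ≤ Nat.card (fx ρ e) * (fx ρ e).index := Nat.mul_le_mul (h4.trans h2) h4
  omega

/-- no normal subgroup of order 5 -/
theorem Hyp.not_five (h : Hyp ρ x e) {y : H} (hy : orderOf y = 5) (hn : e * y * e⁻¹ ∈ zpowers y) : False := by
  have hy1 : y ≠ 1 := by rintro rfl; rw [orderOf_one] at hy; omega
  have hcom := h.comm (y := y) (by rw [hy]; decide)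
  -- `y` is fixed-point-free
  obtain ⟨d, hd, h1, h2⟩ := prim (ρ := ρ) h.sq Nat.prime_five (by norm_num) hy (h.moved hy1)
  have h3 := (fx ρ y).card_mul_index
  rw [h.hV, h1] at h3
  have h4 : d ≤ 4 := by
    have : 2 ^ d ≤ 2 ^ 4 := Nat.le_of_dvd (by norm_num) ⟨_, (by rw [mul_comm]; exact h3.symm)⟩
    exact (Nat.pow_le_pow_iff_right (by norm_num)).1 this
  have h5 : d = 4 := by
    interval_cases d <;> norm_num at h2
    rfl
  rw [h5] at h3
  have h6 : fx ρ y = ⊥ := Subgroup.card_eq_one.1 (by omega)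
  rcases FFRed.eq_or_inv Nat.prime_five hy h.he hn with h7 | h7
  · -- `e` commutes with `y`
    have h8 : Nat.card (zpowers y) ∣ Nat.card (fx ρ e) - 1 := by
      refine dvd_sub (ρ := ρ) ?_ ?_
      · rintro _ ⟨k, rfl⟩ w hw
        rw [mem_fx] at hw ⊢
        show ρ e (ρ (y ^ k) w) = ρ (y ^ k) w
        rw [← MulAut.mul_apply, ← map_mul, ((show Commute e y from h7).zpow_right k).eq, map_mul, MulAut.mul_apply, hw]
      · rintro _ ⟨k, rfl⟩ w - hw1 hw
        by_contra hne
        apply hw1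
        have h8 : orderOf (y ^ k) ∣ 5 := by
          rw [← hy, ← Nat.card_zpowers y, ← Nat.card_zpowers]
          exact Subgroup.card_dvd_of_le (zpowers_le.2 ⟨k, rfl⟩)
        have h9 : orderOf (y ^ k) = 5 := by
          rcases (Nat.dvd_prime Nat.prime_five).1 h8 with h9 | h9
          · exact absurd (orderOf_eq_one_iff.1 h9) hne
          · exact h9
        have h10 : zpowers (y ^ k) = zpowers y :=
          Subgroup.eq_of_le_of_card_ge (zpowers_le.2 ⟨k, rfl⟩) (by rw [Nat.card_zpowers, Nat.card_zpowers, h9, hy])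
        have h11 : w ∈ fx ρ y := FFPsl.fx_le_of_mem ρ (show y ∈ zpowers (y ^ k) by rw [h10]; exact mem_zpowers y) hw
        rwa [h6, mem_bot] at h11
    rw [Nat.card_zpowers, hy] at h8
    have h9 := h.index_e
    have h10 := (fx ρ e).card_mul_index
    rw [h.hV] at h10
    have h11 : (fx ρ e).index ≠ 1 := by
      intro h12
      rw [Subgroup.index_eq_one] at h12
      have h13 : e ≠ 1 := by
        rintro rfl
        have := h.hex
        rw [one_mul, inv_one, mul_one] at this
        exact h.inv_ne this.symm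
      obtain ⟨v, hv⟩ := h.moved h13
      apply hv
      have : v ∈ fx ρ e := by rw [h12]; exact mem_top v
      exact this
    obtain ⟨n, hn⟩ := h8
    have h12 : (fx ρ e).index = 0 ∨ (fx ρ e).index = 2 ∨ (fx ρ e).index = 3 ∨ (fx ρ e).index = 4 := by omega
    rcases h12 with h12 | h12 | h12 | h12 <;> rw [h12] at h10 <;> omega
  · -- `e` inverts `x y`
    have hco : Nat.Coprime (orderOf x) (orderOf y) := by rw [h.hx3, hy]; norm_num
    have h8 : orderOf (x * y) = 15 := by
      rw [(show Commute x y from hcom.symm).orderOf_mul_eq_mul_orderOf_of_coprime hco, h.hx3, hy]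
    refine FFPsl.kill15 (ρ := ρ) h.sq h8 ?_ ?_ ?_ h.index_e
    · have h9 : e * (x * y) * e⁻¹ = (e * x * e⁻¹) * (e * y * e⁻¹) := by group
      rw [h9, h.hex, h7, hcom.symm, mul_inv_rev]
    · apply h.moved
      intro h9
      have := orderOf_dvd_of_pow_eq_one h9
      rw [h8] at this
      norm_num at this
    · apply h.moved
      intro h9
      have := orderOf_dvd_of_pow_eq_one h9
      rw [h8] at this
      norm_num at this

/-- a number all whose prime divisors are 2 and 5 -/
theorem two_five {n : ℕ} (hn : n ≠ 0) (h : ∀ r, r.Prime → r ∣ n → r = 2 ∨ r = 5) :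
    ∃ a b, n = 2 ^ a * 5 ^ b := by
  refine ⟨n.factorization 2, n.factorization 5, ?_⟩
  have h1 := Nat.factorization_prod_pow_eq_self hn
  have h2 : n.factorization.support ⊆ ({2, 5} : Finset ℕ) := by
    intro r hr
    rw [Nat.support_factorization, Nat.mem_primeFactors] at hr
    rcases h r hr.1 hr.2.1 with h3 | h3 <;> simp [h3]
  rw [Finsupp.prod_of_support_subset _ h2 _ (fun i _ => pow_zero i)] at h1
  rw [Finset.prod_pair (by norm_num)] at h1
  exact h1.symm

/-- the Sylow 3-subgroup has order 3 -/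
theorem Hyp.not_nine_dvd (h : Hyp ρ x e) : ¬ 9 ∣ Nat.card H := by
  intro h9
  have hf : Fact (Nat.Prime 3) := ⟨Nat.prime_three⟩
  obtain ⟨K, hK⟩ := Sylow.exists_subgroup_card_pow_prime (G := H) 3 (n := 2) (by norm_num; exact h9)
  have h1 : IsPGroup 3 K := IsPGroup.of_card hK
  obtain ⟨P, hP⟩ := h1.exists_le_sylow
  have hc := h.cyc 3 P Nat.prime_three (by norm_num)
  have hcK : IsCyclic K := by
    have h2 : IsCyclic (K.subgroupOf (P : Subgroup H)) := inferInstance
    exact isCyclic_of_surjective (subgroupOfEquivOfLe hP) (subgroupOfEquivOfLe hP).surjective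
  obtain ⟨g, hg⟩ := IsCyclic.exists_ofOrder_eq_natCard (α := K)
  rw [hK] at hg
  exact h.not_nine (y := (g : H)) (by rw [Subgroup.orderOf_coe, hg]; norm_num)

theorem Hyp.solvable (h : Hyp ρ x e) : Group.IsSolvable H := by
  have hn := h.hn
  have h1 : ∀ r, r.Prime → r ∣ Nat.card (H ⧸ zpowers x) → r = 2 ∨ r = 5 := by
    intro r hr hd
    have : Fact r.Prime := ⟨hr⟩
    obtain ⟨y, hy⟩ := exists_prime_orderOf_dvd_card' (G := H) r (hd.trans (Subgroup.card_quotient_dvd_card _))
    rcases h.primes hr hy with h2 | h2 | h2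
    · exact Or.inl h2
    · exfalso
      subst h2
      apply h.not_nine_dvd
      rw [Subgroup.card_eq_card_quotient_mul_card_subgroup (zpowers x), Nat.card_zpowers, h.hx3]
      exact mul_dvd_mul hd dvd_rfl
    · exact Or.inr h2
  obtain ⟨a, b, hab⟩ := two_five Nat.card_pos.ne' h1
  have h2 : Group.IsSolvable (H ⧸ zpowers x) := S0144.result 2 5 a b Nat.prime_two Nat.prime_five hab
  exact solvable_of_ker_le_range (zpowers x).subtype (QuotientGroup.mk' (zpowers x)) (by
    rw [QuotientGroup.ker_mk', Subgroup.range_subtype])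

theorem Hyp.fitting_le (h : Hyp ρ x e) : fittingSubgroup H ≤ zpowers x := by
  rw [Lib.Cores.fittingSubgroup_eq_iSup_pCore]
  refine iSup_le fun p => ?_
  obtain ⟨p, hp⟩ := p
  have hf : Fact p.Prime := ⟨hp⟩
  show pCore p H ≤ zpowers x
  have hN : (pCore p H).Normal := Lib.Cores.pCore_normal p
  have hP : IsPGroup p (pCore p H) := Lib.Cores.pCore_isPGroup p
  by_cases hbot : pCore p H = ⊥
  · rw [hbot]; exact bot_le
  -- an element of order `p`
  obtain ⟨y, hy, hyp⟩ : ∃ y ∈ pCore p H, orderOf y = p := by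
    obtain ⟨n, hn⟩ := (IsPGroup.iff_card (p := p)).1 hP
    have hn0 : n ≠ 0 := by
      rintro rfl
      exact hbot (Subgroup.card_eq_one.1 (by rw [hn, pow_zero]))
    obtain ⟨y, hy⟩ := exists_prime_orderOf_dvd_card' (G := pCore p H) p (by rw [hn]; exact dvd_pow_self p hn0)
    exact ⟨y, y.2, by rw [Subgroup.orderOf_coe, hy]⟩
  obtain ⟨P, hPle⟩ := hP.exists_le_sylow
  rcases h.primes hp hyp with h2 | h2 | h2
  · subst h2
    exact absurd (h.o2 _ hN hP) hbot
  · subst h2
    intro z hz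
    obtain ⟨k, hk⟩ := (IsPGroup.iff_orderOf.1 hP) ⟨z, hz⟩
    rw [← Subgroup.orderOf_coe] at hk
    have hk' : orderOf z = 3 ^ k := hk
    have hk1 : k ≤ 1 := by
      by_contra hcon
      apply h.not_nine_dvd
      have h3 : 9 ∣ orderOf z := by
        rw [hk']
        exact (show (9 : ℕ) = 3 ^ 2 by norm_num) ▸ pow_dvd_pow 3 (by omega)
      exact h3.trans (orderOf_dvd_natCard z)
    have hk2 : k = 0 ∨ k = 1 := by omega
    rcases hk2 with rfl | rfl
    · rw [pow_zero, orderOf_eq_one_iff] at hk'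
      rw [hk']; exact one_mem _
    · exact (h.three (by rw [hk', pow_one])).1
  · subst h2
    exfalso
    refine h.not_five hyp ?_
    have hc := h.cyc 5 P Nat.prime_five (by norm_num)
    refine T1SzComp.mem_zpowers_of_cyclic hc (hPle (hN.conj_mem y hy e)) (hPle hy) ?_
    exact orderOf_injective (MulAut.conj e).toMonoidHom (MulAut.conj e).injective y

/-- **2D** -/
theorem Hyp.main (h : Hyp ρ x e) : Nat.card H = 6 ∧ ∀ g : H, g ∈ zpowers x ⊔ zpowers e := by
  have hn := h.hn
  have hs := h.solvable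
  have hF := h.fitting_le
  have h1 : ∀ g : H, g * x = x * g → g ∈ zpowers x := by
    intro g hg
    apply hF
    apply S0044.result (G := H)
    rw [mem_centralizer_iff]
    intro f hf
    obtain ⟨k, hk⟩ := hF hf
    rw [← hk]
    exact ((show Commute g x from hg).zpow_right k).eq.symm
  have h2 : ∀ g : H, g ∈ zpowers x ∨ e * g ∈ zpowers x := by
    intro g
    have h3 : g * x * g⁻¹ ∈ zpowers x := hn.conj_mem x (mem_zpowers x) g
    have h4 : g * x * g⁻¹ = x ∨ g * x * g⁻¹ = x⁻¹ := by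
      obtain ⟨k, hk⟩ := h3
      have hk' : x ^ k = g * x * g⁻¹ := hk
      have ho : orderOf (x ^ k) = 3 := by
        rw [hk', ← h.hx3]
        exact orderOf_injective (MulAut.conj g).toMonoidHom (MulAut.conj g).injective x
      have hx3 : x ^ (3 : ℤ) = 1 := by
        have := pow_orderOf_eq_one x
        rw [h.hx3] at this
        exact_mod_cast this
      have h3 : x ^ k = x ^ (k % 3) := by
        conv_lhs => rw [← Int.emod_add_mul_ediv k 3]
        rw [zpow_add, zpow_mul, hx3, one_zpow, mul_one]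
      have h4 : k % 3 = 0 ∨ k % 3 = 1 ∨ k % 3 = 2 := by omega
      rw [← hk']
      rcases h4 with h4 | h4 | h4
      · rw [h3, h4, zpow_zero, orderOf_one] at ho
        omega
      · left; rw [h3, h4, zpow_one]
      · right
        rw [h3, h4]
        have h5 : x ^ (2 : ℤ) * x = 1 := by rw [← hx3, ← zpow_add_one]; norm_num
        exact eq_inv_of_mul_eq_one_left h5
    rcases h4 with h4 | h4
    · exact Or.inl (h1 g (mul_inv_eq_iff_eq_mul.1 h4))
    · right
      apply h1
      have h5 : e * g * x * (e * g)⁻¹ = x := by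
        calc e * g * x * (e * g)⁻¹ = e * (g * x * g⁻¹) * e⁻¹ := by group
          _ = (e * x * e⁻¹)⁻¹ := by rw [h4]; group
          _ = x := by rw [h.hex, inv_inv]
      exact mul_inv_eq_iff_eq_mul.1 h5
  have hei : e⁻¹ = e := inv_eq_of_mul_eq_one_left h.he
  have he1 : e ∉ zpowers x := by
    rintro ⟨k, hk⟩
    have h3 : e * x * e⁻¹ = x := by
      rw [← hk]
      show x ^ k * x * (x ^ k)⁻¹ = x
      have := ((Commute.refl x).zpow_left k).eq
      rw [this, mul_inv_cancel_right]
    rw [h.hex] at h3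
    exact h.inv_ne h3
  constructor
  · have h3 : (zpowers x).index = 2 := by
      rw [Subgroup.index_eq_two_iff]
      refine ⟨e, fun b => ?_⟩
      have h4 : b * e ∈ zpowers x ↔ e * b ∈ zpowers x := by
        constructor
        · intro h5
          have h6 := hn.conj_mem _ h5 e
          have h7 : e * (b * e) * e⁻¹ = e * b := by group
          rwa [h7] at h6
        · intro h5
          have h6 := hn.conj_mem _ h5 e⁻¹
          have h7 : e⁻¹ * (e * b) * e⁻¹⁻¹ = b * e := by group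
          rwa [h7] at h6
      rw [h4]
      rcases h2 b with h5 | h5
      · right
        refine ⟨h5, fun h6 => he1 ?_⟩
        have h7 := mul_mem h6 (inv_mem h5)
        rwa [mul_inv_cancel_right] at h7
      · left
        refine ⟨h5, fun h6 => he1 ?_⟩
        have h7 := mul_mem h5 (inv_mem h6)
        rwa [mul_inv_cancel_right] at h7
    have h4 := (zpowers x).card_mul_index
    rw [h3, Nat.card_zpowers, h.hx3] at h4
    exact h4.symm
  · intro g
    rcases h2 g with h3 | h3
    · exact (le_sup_left : zpowers x ≤ zpowers x ⊔ zpowers e) h3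
    · have h4 := mul_mem ((le_sup_right : zpowers e ≤ zpowers x ⊔ zpowers e) (mem_zpowers e))
        ((le_sup_left : zpowers x ≤ zpowers x ⊔ zpowers e) h3)
      rwa [← mul_assoc, h.he, one_mul] at h4

/-- **2D**, unbundled -/
theorem main (inj : Function.Injective ρ) (sq : ∀ v : V, v * v = 1) (cyc : OddCyc H)
    (o2 : ∀ D : Subgroup H, D.Normal → IsPGroup 2 D → D = ⊥) (hV : Nat.card V = 16) (hn : (zpowers x).Normal)
    (hx3 : orderOf x = 3) (hfp : ∀ v, ρ x v = v → v = 1) (he : e * e = 1) (hex : e * x * e⁻¹ = x⁻¹) :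
    Nat.card H = 6 ∧ ∀ h : H, h ∈ zpowers x ⊔ zpowers e :=
  Hyp.main ⟨inj, sq, cyc, o2, hV, hn, hx3, hfp, he, hex⟩

end Cfsg.Agent.OddCyclic.BcP.Vsix
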