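import Cfsg.Agent.OddCyclic.BcP.Two
import Cfsg.Agent.OddCyclic.BcP.Vsix
import Cfsg.Agent.OddCyclic.L32.ConfA
import Cfsg.Agent.OddCyclic.BcExit
import Cfsg.Agent.OddCyclic.EmpFF
import Cfsg.Agent.OddCyclic.BcP.Conj
import Cfsg.Agent.OddCyclic.BcP.FinDef
import Cfsg.Agent.OddCyclic.BcP.Sec3

/-!
# S0342, leaf [Bc], type (b'): 2C and 2D

`Sb`: the configuration with three points, `V = vv S ≤ W`, `⟨ξ⟩` normal in `N(J)/C(V)`, inverted by `e ∈ T`.

* `Sb.main`: either `V` is the plane of a point and `SLb S V (p i)`, or `|V| = 16` and `N(J)/C(V)` has order 6 (`Out`).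
-/

set_option autoImplicit false
set_option linter.unusedSectionVars false

namespace Cfsg.Agent.OddCyclic.BcP

open Subgroup Cfsg Cfsg.Agent.ZN Cfsg.Agent.MinSimple
open Cfsg.Agent.OddCyclic.L32
open Cfsg.Agent.OddCyclic.RedTy
open Cfsg.Agent.OddCyclic.RedRep
open Cfsg.Agent.OddCyclic.T1Module
open Cfsg.Agent.OddCyclic.T1Defs (OddCyc)
open Cfsg.Agent.OddCyclic.RedFinal (NoBlk)
open Cfsg.Agent.MinSimple.EmptySix (vv vv_le_zj normalizer_jj_le_vv zc_le_vv)
open Cfsg.Agent.MinSimple.EmptyE.Closed (LL vv_mul_self vv_comm isPGroup_vv jj_le_centralizer_vv conj_mem_vv)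
open Cfsg.Agent.OddCyclic.BcExit (SLb)

universe u

variable {G : Type u} [Group G] [Finite G]

/-- the input of 2C, 2D -/
structure Sb (S : Sylow 2 G) (T L O₁ O A : Subgroup G) (ξ x : G) (p : Fin 3 → G) (N : Fin 3 → Subgroup G) (e : G) :
    Prop extends Tr S T L O₁ O A ξ x p N where
  nb : NoBlk S
  /-- not all 2-locals over `S` are contained in `M = N(L)` -/
  c2 : ¬ (normalizer (jj (S : Subgroup G) : Set G) ≤ normalizer (L : Set G) ∧
    centralizer (zc (S : Subgroup G) : Set G) ≤ normalizer (L : Set G))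
  V_le : vv (S : Subgroup G) ≤ ww N
  eT : e ∈ T
  e_sq : e * e ∈ centralizer (vv (S : Subgroup G) : Set G)
  e_ξ : e * ξ * e⁻¹ * ξ ∈ centralizer (vv (S : Subgroup G) : Set G)
  ξ_norm : ∀ g ∈ normalizer (jj (S : Subgroup G) : Set G),
    g * ξ * g⁻¹ * ξ⁻¹ ∈ centralizer (vv (S : Subgroup G) : Set G) ∨
    g * ξ * g⁻¹ * ξ ∈ centralizer (vv (S : Subgroup G) : Set G)

/-- the output of 2D -/
structure Out (S : Sylow 2 G) (T L O₁ O A : Subgroup G) (ξ x : G) (p : Fin 3 → G) (N : Fin 3 → Subgroup G) :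
    Prop extends Tr S T L O₁ O A ξ x p N where
  nb : NoBlk S
  c2 : ¬ (normalizer (jj (S : Subgroup G) : Set G) ≤ normalizer (L : Set G) ∧
    centralizer (zc (S : Subgroup G) : Set G) ≤ normalizer (L : Set G))
  /-- `V = C_W(J)` -/
  V_eq : vv (S : Subgroup G) = ww N ⊓ centralizer (jj (S : Subgroup G) : Set G)
  card_V : Nat.card (vv (S : Subgroup G)) = 16
  zc_eq : zc (S : Subgroup G) = pp p
  /-- `S = T C_S(V)` -/
  S_T : ∀ s ∈ (S : Subgroup G), ∃ t ∈ T, t⁻¹ * s ∈ centralizer (vv (S : Subgroup G) : Set G)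
  six : ∀ g ∈ normalizer (jj (S : Subgroup G) : Set G), ∃ k ∈ zpowers ξ, ∀ z ∈ pp p, (k * g) * z = z * (k * g)
  cz : ∀ g ∈ normalizer (jj (S : Subgroup G) : Set G), ∀ z ∈ pp p, z ≠ 1 → g * z = z * g →
    ∀ z' ∈ pp p, g * z' = z' * g
  three : ∀ g ∈ normalizer (jj (S : Subgroup G) : Set G), (∀ z ∈ pp p, g * z = z * g) → orderOf g ≠ 3

theorem S_le_NJ (S : Sylow 2 G) : (S : Subgroup G) ≤ normalizer (jj (S : Subgroup G) : Set G) :=
  le_normalizer.trans (Basic.normalizer_le_normalizer_jj _)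

namespace Tr

variable {S : Sylow 2 G} {T L O₁ O A : Subgroup G} {ξ x : G} {p : Fin 3 → G} {N : Fin 3 → Subgroup G}

theorem T_le_S (h : Tr S T L O₁ O A ξ x p N) : T ≤ (S : Subgroup G) := by rw [h.T_eq]; exact inf_le_left

theorem p_comm (h : Tr S T L O₁ O A ξ x p N) {z t : G} (hz : z ∈ pp p) (ht : t ∈ T) : t * z = z * t := by
  have := h.pp_le_zc hz
  rw [ZN.mem_zc] at this
  exact this.2.1 t ht

/-- `C_W(J)` -/
theorem mem_wj (h : Tr S T L O₁ O A ξ x p N) {w : G} :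
    w ∈ ww N ⊓ centralizer (jj (S : Subgroup G) : Set G) ↔ ∃ a ∈ pl S (N 0), ∃ b ∈ pl S (N 1), w = a * b := by
  constructor
  · rintro ⟨hw, hJ⟩
    obtain ⟨a, ha, b, hb, rfl⟩ := h.mem_ww (i := 0) (j := 1) (by decide) hw
    have h2 := fun j (hj : j ∈ jj (S : Subgroup G)) => h.split (i := 0) (j := 1) (by decide) (h.sev.norm hj) ha hb
      (mem_centralizer_iff.1 hJ j hj)
    exact ⟨a, mem_pl.2 ⟨ha, fun j hj => (h2 j hj).1⟩, b, mem_pl.2 ⟨hb, fun j hj => (h2 j hj).2⟩, rfl⟩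
  · rintro ⟨a, ha, b, hb, rfl⟩
    refine ⟨mul_mem (h.N_le_ww 0 ha.1) (h.N_le_ww 1 hb.1), mul_mem ha.2 hb.2⟩

theorem card_wj (h : Tr S T L O₁ O A ξ x p N) :
    Nat.card (ww N ⊓ centralizer (jj (S : Subgroup G) : Set G) : Subgroup G) = 16 := by
  let f : pl S (N 0) × pl S (N 1) → (ww N ⊓ centralizer (jj (S : Subgroup G) : Set G) : Subgroup G) :=
    fun q => ⟨(q.1 : G) * q.2, h.mem_wj.2 ⟨_, q.1.2, _, q.2.2, rfl⟩⟩
  have hf : Function.Bijective f := by
    constructor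
    · rintro ⟨⟨a, ha⟩, ⟨b, hb⟩⟩ ⟨⟨c, hc⟩, ⟨d, hd⟩⟩ hab
      have h1 : a * b = c * d := congrArg Subtype.val hab
      have h2 : c⁻¹ * a = d * b⁻¹ := by
        calc c⁻¹ * a = c⁻¹ * (a * b) * b⁻¹ := by group
          _ = d * b⁻¹ := by rw [h1]; group
      have h3 : c⁻¹ * a = 1 := by
        apply h.disj (i := 0) (j := 1) (by decide) (mul_mem (inv_mem hc.1) ha.1)
        rw [h2]
        exact mul_mem hd.1 (inv_mem hb.1)
      have h4 : a = c := (inv_mul_eq_one.1 h3).symm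
      subst h4
      have h5 : b = d := mul_left_cancel h1
      subst h5
      rfl
    · rintro ⟨w, hw⟩
      obtain ⟨a, ha, b, hb, rfl⟩ := h.mem_wj.1 hw
      exact ⟨(⟨a, ha⟩, ⟨b, hb⟩), rfl⟩
  rw [← Nat.card_congr (Equiv.ofBijective f hf), Nat.card_prod, (h.np 0).card_pl, (h.np 1).card_pl]

/-- no element of order 3 in `N(J) ∩ C(V)`, if `p i ∈ V` -/
theorem not_three (h : Tr S T L O₁ O A ξ x p N) (hc : OddCyc G) {i : Fin 3} (hi : p i ∈ vv (S : Subgroup G)) {g : G}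
    (hg : g ∈ normalizer (jj (S : Subgroup G) : Set G)) (hgV : g ∈ centralizer (vv (S : Subgroup G) : Set G)) :
    orderOf g ≠ 3 := by
  intro h3
  have hcX := T1MinPar.oddCyc_subgroup hc (normalizer (jj (S : Subgroup G) : Set G))
  have o1 : orderOf (⟨ξ, h.ξJ⟩ : normalizer (jj (S : Subgroup G) : Set G)) = 3 := by
    rw [← h.ξ3]; exact Subgroup.orderOf_mk _ _
  have o2 : orderOf (⟨g, hg⟩ : normalizer (jj (S : Subgroup G) : Set G)) = 3 := by
    rw [← h3]; exact Subgroup.orderOf_mk _ _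
  obtain ⟨k, -, h4⟩ := LemK.conj_three hcX o1 o2
  have h5 : (k : G) * ξ * (k : G)⁻¹ ∈ zpowers g := by
    obtain ⟨n, hn⟩ := h4
    refine ⟨n, ?_⟩
    have := congrArg Subtype.val hn
    simpa using this
  have h6 : (k : G) * ξ * (k : G)⁻¹ ∈ centralizer (vv (S : Subgroup G) : Set G) := (zpowers_le.2 hgV) h5
  have hk : (k : G) ∈ LL (S : Subgroup G) := normalizer_jj_le_vv _ k.2
  have h7 : ξ * p i = p i * ξ := by
    have h8 := conj_mem_vv hk hi
    have h9 := mem_centralizer_iff.1 h6 _ h8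
    calc ξ * p i = (k : G)⁻¹ * (((k : G) * ξ * (k : G)⁻¹) * ((k : G) * p i * (k : G)⁻¹)) * k := by group
      _ = (k : G)⁻¹ * (((k : G) * p i * (k : G)⁻¹) * ((k : G) * ξ * (k : G)⁻¹)) * k := by rw [h9]
      _ = p i * ξ := by group
  exact (h.np i).xp h7

end Tr

namespace Sb

variable {S : Sylow 2 G} {T L O₁ O A : Subgroup G} {ξ x e : G} {p : Fin 3 → G} {N : Fin 3 → Subgroup G}

theorem V_wj (h : Sb S T L O₁ O A ξ x p N e) :
    vv (S : Subgroup G) ≤ ww N ⊓ centralizer (jj (S : Subgroup G) : Set G) := by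
  refine le_inf h.V_le fun v hv => mem_centralizer_iff.2 fun j hj => ?_
  exact (mem_centralizer_iff.1 (jj_le_centralizer_vv hj) v hv).symm

theorem zc_le (h : Sb S T L O₁ O A ξ x p N e) : zc (S : Subgroup G) ≤ pp p := by
  intro z hz
  refine h.T_fix (h.V_le (zc_le_vv _ hz)) fun t ht => ?_
  exact (ZN.ChoiceBase.mem_zc.1 hz).2.2 t (h.T_le_S ht)

/-- some `p i` lies in `Ω₁Z(S)` -/
theorem exists_p (h : Sb S T L O₁ O A ξ x p N e) : ∃ i, p i ∈ zc (S : Subgroup G) := by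
  have hS : (S : Subgroup G) ≠ ⊥ := fun hb =>
    h.p_ne 0 (Subgroup.mem_bot.1 (hb ▸ h.T_le_S (ZN.mem_zc.1 (h.p_mem 0)).1))
  obtain ⟨⟨u, hu⟩, hu1⟩ := Subgroup.ne_bot_iff_exists_ne_one.mp (ZN.ChoiceSit.zc_ne_bot S.isPGroup' hS)
  rcases h.mem_pp.1 (h.zc_le hu) with h2 | ⟨i, hi⟩
  · exact absurd (Subtype.ext h2) hu1
  · exact ⟨i, hi ▸ hu⟩

theorem ξ_LL (h : Sb S T L O₁ O A ξ x p N e) : ξ ∈ LL (S : Subgroup G) := normalizer_jj_le_vv _ h.ξJ

/-- `ξ` has no fixed points on `V` -/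
theorem ξ_V (h : Sb S T L O₁ O A ξ x p N e) {v : G} (hv : v ∈ vv (S : Subgroup G)) (hξ : ξ * v = v * ξ) : v = 1 :=
  h.ξ_fix (h.V_le hv) (fun j hj => (mem_centralizer_iff.1 (jj_le_centralizer_vv hj) v hv).symm) hξ

/-- the data on `V` -/
structure Dat (S : Sylow 2 G) (ξ e : G) {H M : Type u} [Group H] [CommGroup M]
    (r : normalizer (jj (S : Subgroup G) : Set G) →* H) (ρ : H →* MulAut M) (ι : M →* G) (y f : H) : Prop where
  rep : Rep (normalizer (jj (S : Subgroup G) : Set G)) (vv (S : Subgroup G)) r ρ ι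
  y_eq : ∃ h, r ⟨ξ, h⟩ = y
  f_eq : ∃ h, r ⟨e, h⟩ = f
  sq : ∀ v : M, v * v = 1
  cyc : OddCyc H
  o2 : ∀ D : Subgroup H, D.Normal → IsPGroup 2 D → D = ⊥
  hn : (zpowers y).Normal
  y3 : orderOf y = 3
  fp : ∀ v : M, ρ y v = v → v = 1
  ff : f * f = 1
  fy : f * y * f⁻¹ = y⁻¹

theorem exists_dat (h : Sb S T L O₁ O A ξ x p N e) :
    ∃ (H M : Type u) (_ : Group H) (_ : CommGroup M) (_ : Finite H) (_ : Finite M)
      (r : normalizer (jj (S : Subgroup G) : Set G) →* H) (ρ : H →* MulAut M) (ι : M →* G) (y f : H),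
      Dat S ξ e r ρ ι y f := by
  obtain ⟨H, M, i1, i2, i3, i4, r, ρ, ι, hr⟩ := EmpFF.exists_rep
    (X := normalizer (jj (S : Subgroup G) : Set G)) (Y := vv (S : Subgroup G)) (normalizer_jj_le_vv _)
    (fun a ha b hb => vv_comm ha hb)
  have heN : e ∈ normalizer (jj (S : Subgroup G) : Set G) := S_le_NJ S (h.T_le_S h.eT)
  have hone : ∀ (g : G) (hg : g ∈ normalizer (jj (S : Subgroup G) : Set G)),
      g ∈ centralizer (vv (S : Subgroup G) : Set G) → r ⟨g, hg⟩ = 1 := by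
    intro g hg hc
    rw [hr.r_eq_one]
    exact fun y hy => (mem_centralizer_iff.1 hc y hy).symm
  obtain ⟨i, hi⟩ := h.exists_p
  have hiV : p i ∈ vv (S : Subgroup G) := zc_le_vv _ hi
  have hfp : ∀ v : M, ρ (r ⟨ξ, h.ξJ⟩) v = v → v = 1 := by
    intro v hv
    have h1 := hr.fix.1 hv
    have h2 := h.ξ_V (hr.mem v) h1
    exact hr.iinj (h2.trans (map_one ι).symm)
  have hy1 : r ⟨ξ, h.ξJ⟩ ≠ 1 := by
    intro h1
    have := (hr.r_eq_one (x := ⟨ξ, h.ξJ⟩)).1 h1 _ hiV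
    exact (h.np i).xp this
  have hy3 : orderOf (r ⟨ξ, h.ξJ⟩) = 3 := by
    have hf : Fact (Nat.Prime 3) := ⟨Nat.prime_three⟩
    apply orderOf_eq_prime _ hy1
    rw [← map_pow]
    have : (⟨ξ, h.ξJ⟩ : normalizer (jj (S : Subgroup G) : Set G)) ^ 3 = 1 := by
      apply Subtype.ext
      show ξ ^ 3 = 1
      rw [← h.ξ3, pow_orderOf_eq_one]
    rw [this, map_one]
  refine ⟨H, M, i1, i2, i3, i4, r, ρ, ι, r ⟨ξ, h.ξJ⟩, r ⟨e, heN⟩, ?_⟩
  refine { rep := hr, y_eq := ⟨_, rfl⟩, f_eq := ⟨_, rfl⟩, sq := ?_, cyc := ?_, o2 := ?_, hn := ?_, y3 := hy3,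
           fp := hfp, ff := ?_, fy := ?_ }
  · intro v
    apply hr.iinj
    rw [map_mul, map_one]
    exact vv_mul_self (hr.mem v)
  · exact T1MinPar.oddCyc_surj r hr.surj (T1MinPar.oddCyc_subgroup h.nb.cx.cyc _)
  · intro D hD hD2
    have hDX : ((D.comap r).map (Subgroup.subtype _) : Subgroup G) ≤ normalizer (jj (S : Subgroup G) : Set G) :=
      map_subtype_le _
    have hn : normalizer (jj (S : Subgroup G) : Set G) ≤
        normalizer (((D.comap r).map (Subgroup.subtype _) : Subgroup G) : Set G) := by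
      refine Block.le_normalizer_of_forall ?_
      rintro g hg _ ⟨d, hd, rfl⟩
      refine ⟨⟨g, hg⟩ * d * ⟨g, hg⟩⁻¹, ?_, rfl⟩
      show r (⟨g, hg⟩ * d * ⟨g, hg⟩⁻¹) ∈ D
      rw [map_mul, map_mul, map_inv]
      exact hD.conj_mem _ hd _
    have h1 := Basic.le_centralizer_zl_of_pow (S_le_NJ S) S.isPGroup' (Basic.not_dvd_relIndex S (S_le_NJ S)) hDX hn (by
      rintro _ ⟨d, hd, rfl⟩
      obtain ⟨k, hk⟩ := hD2 ⟨r d, hd⟩
      refine ⟨k, ?_⟩
      have hk' : r (d ^ 2 ^ k) = 1 := by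
        rw [map_pow]
        exact congrArg Subtype.val hk
      rw [mem_centralizer_iff]
      intro v hv
      exact ((hr.r_eq_one (x := d ^ 2 ^ k)).1 hk' v hv).symm)
    rw [eq_bot_iff]
    intro d hd
    obtain ⟨g, rfl⟩ := hr.surj d
    rw [mem_bot, hr.r_eq_one]
    intro v hv
    exact (mem_centralizer_iff.1 (h1 ⟨g, hd, rfl⟩) v hv).symm
  · constructor
    intro a ha g
    obtain ⟨n, rfl⟩ := ha
    obtain ⟨g, rfl⟩ := hr.surj g
    have h1 : r g * r ⟨ξ, h.ξJ⟩ * (r g)⁻¹ ∈ zpowers (r ⟨ξ, h.ξJ⟩) := by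
      rcases h.ξ_norm g g.2 with h2 | h2
      · have h3 := hone _ (mul_mem (mul_mem (mul_mem g.2 h.ξJ) (inv_mem g.2)) (inv_mem h.ξJ)) h2
        have h4 : r g * r ⟨ξ, h.ξJ⟩ * (r g)⁻¹ * (r ⟨ξ, h.ξJ⟩)⁻¹ = 1 := by
          rw [← h3, ← map_inv, ← map_inv, ← map_mul, ← map_mul, ← map_mul]
          rfl
        rw [mul_inv_eq_one.1 h4]
        exact mem_zpowers _
      · have h3 := hone _ (mul_mem (mul_mem (mul_mem g.2 h.ξJ) (inv_mem g.2)) h.ξJ) h2
        have h4 : r g * r ⟨ξ, h.ξJ⟩ * (r g)⁻¹ * (r ⟨ξ, h.ξJ⟩) = 1 := by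
          rw [← h3, ← map_inv, ← map_mul, ← map_mul, ← map_mul]
          rfl
        rw [eq_inv_of_mul_eq_one_left h4]
        exact inv_mem (mem_zpowers _)
    have h2 := zpow_mem h1 n
    rwa [conj_zpow] at h2
  · have h1 := hone _ (mul_mem heN heN) h.e_sq
    rw [← h1, ← map_mul]
    rfl
  · have h3 := hone _ (mul_mem (mul_mem (mul_mem heN h.ξJ) (inv_mem heN)) h.ξJ) h.e_ξ
    apply eq_inv_of_mul_eq_one_left
    rw [← h3, ← map_inv, ← map_mul, ← map_mul, ← map_mul]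
    rfl

section Dat

variable {H M : Type u} [Group H] [CommGroup M] [Finite H] [Finite M]
  {r : normalizer (jj (S : Subgroup G) : Set G) →* H} {ρ : H →* MulAut M} {ι : M →* G} {y f : H}

theorem Dat.fp' (d : Dat S ξ e r ρ ι y f) {k : H} (hk : k ∈ zpowers y) (hk1 : k ≠ 1) {v : M} (hv : ρ k v = v) :
    v = 1 := by
  apply d.fp
  have hf : Fact (Nat.Prime 3) := ⟨Nat.prime_three⟩
  have hc : Nat.card (zpowers y) = 3 := by rw [Nat.card_zpowers, d.y3]
  have h1 : y ∈ zpowers k := by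
    have h2 : zpowers k = zpowers y := by
      apply Subgroup.eq_of_le_of_card_ge (zpowers_le.2 hk)
      rw [Nat.card_zpowers, Nat.card_zpowers, d.y3]
      have h3 : orderOf k ∣ 3 := by
        have := orderOf_dvd_natCard (⟨k, hk⟩ : zpowers y)
        rwa [hc, Subgroup.orderOf_mk] at this
      rcases (Nat.dvd_prime Nat.prime_three).1 h3 with h4 | h4
      · exact absurd (orderOf_eq_one_iff.1 h4) hk1
      · exact h4.ge
    rw [h2]
    exact mem_zpowers y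
  exact FFPsl.fx_le_of_mem ρ h1 hv

theorem Dat.card_eq (d : Dat S ξ e r ρ ι y f) : Nat.card M = Nat.card (vv (S : Subgroup G)) := by
  rw [← d.rep.range, Nat.card_congr (ι.ofInjective d.rep.iinj).toEquiv]

theorem Dat.three_dvd (d : Dat S ξ e r ρ ι y f) : 3 ∣ Nat.card M - 1 := by
  have h1 := Vsix.dvd_sub (ρ := ρ) (D := zpowers y) (W := ⊤) (fun _ _ _ _ => mem_top _) (by
    intro k hk w _ hw1 hkw
    by_contra hk1
    exact hw1 (d.fp' hk hk1 hkw))
  rwa [Nat.card_zpowers, d.y3, Subgroup.card_top] at h1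

end Dat

theorem card_V (h : Sb S T L O₁ O A ξ x p N e) :
    Nat.card (vv (S : Subgroup G)) = 4 ∨ Nat.card (vv (S : Subgroup G)) = 16 := by
  obtain ⟨H, M, i1, i2, i3, i4, r, ρ, ι, y, f, d⟩ := h.exists_dat
  have h1 := d.three_dvd
  rw [d.card_eq] at h1
  have h2 := Subgroup.card_dvd_of_le h.V_wj
  rw [h.card_wj] at h2
  have h3 : Nat.card (vv (S : Subgroup G)) ≠ 1 := by
    intro h4
    obtain ⟨i, hi⟩ := h.exists_p
    have h5 : vv (S : Subgroup G) = ⊥ := Subgroup.card_eq_one.1 h4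
    exact h.p_ne i (Subgroup.mem_bot.1 (h5 ▸ zc_le_vv _ hi))
  have h4 : Nat.card (vv (S : Subgroup G)) ∈ Nat.divisors 16 := by
    rw [Nat.mem_divisors]; exact ⟨h2, by norm_num⟩
  have h5 : Nat.divisors 16 = {1, 2, 4, 8, 16} := by decide
  rw [h5] at h4
  simp only [Finset.mem_insert, Finset.mem_singleton] at h4
  rcases h4 with h4 | h4 | h4 | h4 | h4
  · exact absurd h4 h3
  · rw [h4] at h1; omega
  · exact Or.inl h4
  · rw [h4] at h1; omega
  · exact Or.inr h4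

/-- **2C** -/
theorem slb (h : Sb S T L O₁ O A ξ x p N e) (h4 : Nat.card (vv (S : Subgroup G)) = 4) :
    ∃ i, SLb S (vv (S : Subgroup G)) (p i) := by
  obtain ⟨i, hi⟩ := h.exists_p
  refine ⟨i, ?_⟩
  have hiV : p i ∈ vv (S : Subgroup G) := zc_le_vv _ hi
  have hVeq : vv (S : Subgroup G) = pl S (N i) := by
    symm
    apply Subgroup.eq_of_le_of_card_ge _ (by rw [h4, (h.np i).card_pl])
    intro a ha
    have hq := conj_mem_vv h.ξ_LL hiV
    rcases (h.np i).pl_iff.1 ha with rfl | rfl | rfl | rfl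
    · exact one_mem _
    · exact hiV
    · exact hq
    · exact mul_mem hiV hq
  have hSV : (S : Subgroup G) ≤ normalizer (vv (S : Subgroup G) : Set G) :=
    (S_le_NJ S).trans (normalizer_jj_le_vv _)
  have hzc : zc (S : Subgroup G) = zpowers (p i) := by
    apply le_antisymm
    · intro z hz
      have h1 : z ∈ pl S (N i) := by rw [← hVeq]; exact zc_le_vv _ hz
      rcases h.N_inf_pp h1.1 (h.zc_le hz) with rfl | rfl
      · exact one_mem _
      · exact mem_zpowers _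
    · rw [zpowers_le]; exact hi
  have hmem : ∀ v ∈ vv (S : Subgroup G), v = 1 ∨ v = p i ∨ v = ξ * p i * ξ⁻¹ ∨ v = p i * (ξ * p i * ξ⁻¹) := by
    intro v hv
    rw [hVeq] at hv
    exact (h.np i).pl_iff.1 hv
  refine { nb := h.nb, z_ne := h.p_ne i, zc_eq := hzc, card_V := h4, V_le := le_rfl, z_mem := hiV, S_norm := hSV,
           trans := ?_, two_three := ?_, uni := ?_, core := ?_ }
  · intro v hv hv1
    rcases hmem v hv with h1 | h1 | h1 | h1
    · exact absurd h1 hv1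
    · exact ⟨1, one_mem _, by rw [h1]; group⟩
    · exact ⟨ξ, h.ξ_LL, h1.symm⟩
    · exact ⟨ξ * ξ, mul_mem h.ξ_LL h.ξ_LL, by rw [h1]; exact (h.np i).x2⟩
  · intro c hc hcz
    refine ⟨1, 0, ?_⟩
    rw [pow_one, pow_zero, mul_one, mem_centralizer_iff]
    have hq := conj_mem_vv h.ξ_LL hiV
    have hfix : c ^ 2 * (ξ * p i * ξ⁻¹) * (c ^ 2)⁻¹ = ξ * p i * ξ⁻¹ := by
      have h1 := conj_mem_vv hc hq
      have e0 : c ^ 2 * (ξ * p i * ξ⁻¹) * (c ^ 2)⁻¹ = c * (c * (ξ * p i * ξ⁻¹) * c⁻¹) * c⁻¹ := by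
        rw [pow_two]; group
      rcases hmem _ h1 with h2 | h2 | h2 | h2
      · exfalso
        apply (h.np i).q1
        calc ξ * p i * ξ⁻¹ = c⁻¹ * (c * (ξ * p i * ξ⁻¹) * c⁻¹) * c := by group
          _ = 1 := by rw [h2]; group
      · exfalso
        apply (h.np i).qp
        calc ξ * p i * ξ⁻¹ = c⁻¹ * (c * (ξ * p i * ξ⁻¹) * c⁻¹) * c := by group
          _ = c⁻¹ * (p i * c) := by rw [h2]; group
          _ = p i := by rw [← hcz]; group
      · rw [e0, h2, h2]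
      · rw [e0, h2]
        calc c * (p i * (ξ * p i * ξ⁻¹)) * c⁻¹ = (c * p i) * (ξ * p i * ξ⁻¹) * c⁻¹ := by group
          _ = p i * (c * (ξ * p i * ξ⁻¹) * c⁻¹) := by rw [hcz]; group
          _ = (p i * p i) * (ξ * p i * ξ⁻¹) := by rw [h2]; group
          _ = ξ * p i * ξ⁻¹ := by rw [h.p_sq, one_mul]
    have hz2 : c ^ 2 * p i = p i * c ^ 2 := by
      calc c ^ 2 * p i = c * (c * p i) := by rw [pow_two, mul_assoc]
        _ = c * (p i * c) := by rw [hcz]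
        _ = (c * p i) * c := (mul_assoc _ _ _).symm
        _ = p i * c ^ 2 := by rw [hcz, pow_two, mul_assoc]
    have hq2 : c ^ 2 * (ξ * p i * ξ⁻¹) = (ξ * p i * ξ⁻¹) * c ^ 2 := by
      conv_rhs => rw [← hfix]
      group
    intro v hv
    rcases hmem v hv with rfl | rfl | rfl | rfl
    · rw [one_mul, mul_one]
    · exact hz2.symm
    · exact hq2.symm
    · rw [mul_assoc, ← hq2, ← mul_assoc, ← hz2, mul_assoc]
  · intro U hU hSU
    by_cases hb : U = ⊥
    · left; rw [hb]; exact bot_le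
    have hU2 : IsPGroup 2 U := (isPGroup_vv (S := S)).to_le hU
    obtain ⟨u, hu, hu1, huz⟩ := RedEBb.exists_zc S hU2 hSU hb
    have hpU : p i ∈ U := by
      rw [hzc] at huz
      have h1 : u = 1 ∨ u = p i := (Geo.mem_zpowers_iff_of_mul_self (h.p_sq i)).1 huz
      rcases h1 with h1 | h1
      · exact absurd h1 hu1
      · rw [← h1]; exact hu
    have h1 : Nat.card U ∣ 4 := by rw [← h4]; exact Subgroup.card_dvd_of_le hU
    have h2 : Nat.card U ≠ 1 := fun h3 => hb (Subgroup.card_eq_one.1 h3)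
    have hc2 : Nat.card (zpowers (p i)) = 2 := by
      rw [Nat.card_zpowers]
      exact orderOf_eq_prime (by rw [pow_two]; exact h.p_sq i) (h.p_ne i)
    have h3 : Nat.card U ≤ 4 := Nat.le_of_dvd (by norm_num) h1
    by_cases h5 : Nat.card U = 4
    · right
      exact (Subgroup.eq_of_le_of_card_ge hU (by rw [h4, h5])).ge
    · left
      have h6 : Nat.card U ≤ 2 := by
        interval_cases h7 : Nat.card U <;> omega
      exact (Subgroup.eq_of_le_of_card_ge (zpowers_le.2 hpU) (by rw [hc2]; exact h6)).ge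
  · intro U hU hVU hCU
    by_contra hb
    have hX : o2 (normalizer (U : Set G)) ≠ ⊥ := by
      intro h1
      apply hb
      rw [eq_bot_iff, ← h1]
      exact Block.le_o2 hU le_normalizer le_rfl
    have hSX : (S : Subgroup G) ≤ normalizer (U : Set G) := hSV.trans hVU
    have hxX : x ∈ normalizer (U : Set G) := by
      apply hCU
      rw [mem_centralizer_singleton_iff]
      exact h.xZ _ (h.p_mem i)
    have hLX : L ≤ normalizer (U : Set G) :=
      h.gen.trans (sup_le (sup_le (h.T_le_S.trans hSX) (zpowers_le.2 (hVU h.ξ_LL))) (zpowers_le.2 hxX))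
    have h1 := h.uniq _ hX hLX ((ZN.ChoiceBase.jj_le _).trans hSX)
    apply h.c2
    refine ⟨((normalizer_jj_le_vv _).trans hVU).trans h1, ?_⟩
    refine le_trans ?_ (hCU.trans h1)
    exact centralizer_le (Set.singleton_subset_iff.2 hi)

/-- **2D** -/
theorem out (h : Sb S T L O₁ O A ξ x p N e) (h16 : Nat.card (vv (S : Subgroup G)) = 16) :
    Out S T L O₁ O A ξ x p N := by
  obtain ⟨H, M, i1, i2, i3, i4, r, ρ, ι, y, f, d⟩ := h.exists_dat
  have hV : vv (S : Subgroup G) = ww N ⊓ centralizer (jj (S : Subgroup G) : Set G) :=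
    Subgroup.eq_of_le_of_card_ge h.V_wj (by rw [h16, h.card_wj])
  obtain ⟨hc6, hall⟩ := Vsix.main d.rep.inj d.sq d.cyc d.o2 (by rw [d.card_eq, h16]) d.hn d.y3 d.fp d.ff d.fy
  have hn := d.hn
  obtain ⟨hξ', hy⟩ := d.y_eq
  obtain ⟨he', hf⟩ := d.f_eq
  -- every element of `N(J)` acts as `ξ ^ a * e ^ b`
  have hdec : ∀ g : normalizer (jj (S : Subgroup G) : Set G), ∃ a b : H, a ∈ zpowers y ∧ b ∈ zpowers f ∧ r g = a * b := by
    intro g
    have h1 := hall (r g)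
    rw [← SetLike.mem_coe, Subgroup.normal_mul] at h1
    obtain ⟨a, ha, b, hb, hab⟩ := h1
    exact ⟨a, b, ha, hb, hab.symm⟩
  have hppV : pp p ≤ vv (S : Subgroup G) := by
    rw [hV]
    refine le_inf h.pp_le_ww ?_
    intro z hz
    rw [mem_centralizer_iff]
    intro j hj
    rcases h.mem_pp.1 hz with rfl | ⟨i, rfl⟩
    · rw [mul_one, one_mul]
    · exact (mem_pl.1 (h.np i).p_pl).2 j hj
  -- `f` fixes `pp p`
  have hffix : ∀ b ∈ zpowers f, ∀ v : M, ι v ∈ pp p → ρ b v = v := by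
    intro b hb v hv
    have h1 : ρ f v = v := by
      rw [← hf, d.rep.fix]
      exact h.p_comm hv h.eT
    exact FFPsl.fx_le_of_mem ρ hb h1
  -- fixing one point of `pp p`
  have hone : ∀ g : normalizer (jj (S : Subgroup G) : Set G), ∀ z ∈ pp p, z ≠ 1 → (g : G) * z = z * g → r g ∈ zpowers f := by
    intro g z hz hz1 hgz
    obtain ⟨a, b, ha, hb, hab⟩ := hdec g
    obtain ⟨v, hv⟩ := d.rep.exists_v (hppV hz)
    have h1 : ρ (r g) v = v := d.rep.fix.2 (by rw [hv]; exact hgz)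
    have h2 : ρ b v = v := hffix b hb v (by rw [hv]; exact hz)
    have h3 : ρ a v = v := by
      rw [hab, map_mul, MulAut.mul_apply, h2] at h1
      exact h1
    have ha1 : a = 1 := by
      by_contra ha1
      have h4 := d.fp' ha ha1 h3
      apply hz1
      rw [← hv, h4, map_one]
    rw [hab, ha1, one_mul]
    exact hb
  -- the image of `S` is `⟨f⟩`
  have hyy : y⁻¹ ≠ y := by
    intro h1
    have h2 := inv_mul_cancel y
    rw [h1] at h2
    have h3 : orderOf y ∣ 2 := orderOf_dvd_of_pow_eq_one (by rw [pow_two, h2])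
    rw [d.y3] at h3
    omega
  have hf1 : f ≠ 1 := by
    intro h1
    have h2 := d.fy
    rw [h1, one_mul, inv_one, mul_one] at h2
    exact hyy h2.symm
  have hof : orderOf f = 2 := orderOf_eq_prime (by rw [pow_two]; exact d.ff) hf1
  have hSf : ∀ (s : G) (hs : s ∈ (S : Subgroup G)), r ⟨s, S_le_NJ S hs⟩ ∈ zpowers f := by
    intro s hs
    obtain ⟨Q, hQ⟩ : ∃ Q, Q = ((S : Subgroup G).subgroupOf (normalizer (jj (S : Subgroup G) : Set G))).map r := ⟨_, rfl⟩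
    have hQ2 : IsPGroup 2 Q := by
      rw [hQ]
      exact (S.isPGroup'.comap_of_injective _ (Subgroup.subtype_injective _)).map r
    have hfQ : f ∈ Q := by
      rw [hQ, ← hf]
      exact ⟨⟨e, he'⟩, mem_subgroupOf.2 (h.T_le_S h.eT), rfl⟩
    have h1 : Nat.card Q ≤ 2 := by
      have hf2 : Fact (Nat.Prime 2) := ⟨Nat.prime_two⟩
      obtain ⟨n, hn⟩ := IsPGroup.iff_card.1 hQ2
      have h2 : Nat.card Q ∣ 6 := by rw [← hc6]; exact Subgroup.card_subgroup_dvd_card Q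
      rw [hn] at h2 ⊢
      have h3 : n ≤ 1 := by
        by_contra hcon
        have h4 : 2 ^ 2 ∣ 2 ^ n := pow_dvd_pow 2 (by omega)
        have h5 := h4.trans h2
        norm_num at h5
      calc 2 ^ n ≤ 2 ^ 1 := Nat.pow_le_pow_right (by norm_num) h3
        _ = 2 := by norm_num
    have h2 : zpowers f = Q := Subgroup.eq_of_le_of_card_ge (zpowers_le.2 hfQ) (by rw [Nat.card_zpowers, hof]; exact h1)
    rw [h2, hQ]
    exact ⟨⟨s, S_le_NJ S hs⟩, mem_subgroupOf.2 hs, rfl⟩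
  have hppS : pp p ≤ zc (S : Subgroup G) := by
    intro z hz
    refine ZN.ChoiceBase.mem_zc.2 ⟨EmptyE.Closed.vv_le (hppV hz), ?_, ?_⟩
    · rw [pow_two]; exact vv_mul_self (hppV hz)
    · intro s hs
      obtain ⟨v, hv⟩ := d.rep.exists_v (hppV hz)
      have h1 := hffix _ (hSf s hs) v (by rw [hv]; exact hz)
      have h2 := d.rep.fix.1 h1
      rwa [hv] at h2
  refine { toTr := h.toTr, nb := h.nb, c2 := h.c2, V_eq := hV, card_V := h16, zc_eq := le_antisymm h.zc_le hppS,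
           S_T := ?_, six := ?_, cz := ?_, three := ?_ }
  · intro s hs
    obtain ⟨n, hn⟩ := hSf s hs
    refine ⟨e ^ n, zpow_mem h.eT n, ?_⟩
    have hkN : (e ^ n)⁻¹ * s ∈ normalizer (jj (S : Subgroup G) : Set G) :=
      mul_mem (inv_mem (zpow_mem he' n)) (S_le_NJ S hs)
    have h1 : r ⟨(e ^ n)⁻¹ * s, hkN⟩ = 1 := by
      have e1 : (⟨(e ^ n)⁻¹ * s, hkN⟩ : normalizer (jj (S : Subgroup G) : Set G)) =
          (⟨e, he'⟩ ^ n)⁻¹ * ⟨s, S_le_NJ S hs⟩ := by
        apply Subtype.ext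
        show (e ^ n)⁻¹ * s = _
        rw [Subgroup.coe_mul, Subgroup.coe_inv, Subgroup.coe_zpow]
      rw [e1, map_mul, map_inv, map_zpow, hf, ← hn]
      exact inv_mul_cancel _
    rw [d.rep.r_eq_one] at h1
    exact mem_centralizer_iff.2 fun v hv => (h1 v hv).symm
  · intro g hg
    obtain ⟨a, b, ha, hb, hab⟩ := hdec ⟨g, hg⟩
    obtain ⟨n, hn⟩ := ha
    refine ⟨ξ ^ (-n), zpow_mem (mem_zpowers ξ) _, ?_⟩
    intro z hz
    have hkN : ξ ^ (-n) * g ∈ normalizer (jj (S : Subgroup G) : Set G) := mul_mem (zpow_mem h.ξJ _) hg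
    have h1 : r ⟨ξ ^ (-n) * g, hkN⟩ = b := by
      have e1 : (⟨ξ ^ (-n) * g, hkN⟩ : normalizer (jj (S : Subgroup G) : Set G)) = ⟨ξ, hξ'⟩ ^ (-n) * ⟨g, hg⟩ := by
        apply Subtype.ext
        show ξ ^ (-n) * g = _
        rw [Subgroup.coe_mul, Subgroup.coe_zpow]
      rw [e1, map_mul, map_zpow, hy, hab, ← hn]
      simp
    obtain ⟨v, hv⟩ := d.rep.exists_v (hppV hz)
    have h2 : ρ (r ⟨ξ ^ (-n) * g, hkN⟩) v = v := by
      rw [h1]
      exact hffix b hb v (by rw [hv]; exact hz)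
    have h3 := d.rep.fix.1 h2
    rw [hv] at h3
    exact h3
  · intro g hg z hz hz1 hgz z' hz'
    have h1 := hone ⟨g, hg⟩ z hz hz1 hgz
    obtain ⟨v, hv⟩ := d.rep.exists_v (hppV hz')
    have h2 := hffix _ h1 v (by rw [hv]; exact hz')
    have h3 := d.rep.fix.1 h2
    rwa [hv] at h3
  · intro g hg hgc h3
    have h1 := hone ⟨g, hg⟩ (p 0) (h.mem_pp.2 (Or.inr ⟨0, rfl⟩)) (h.p_ne 0) (hgc _ (h.mem_pp.2 (Or.inr ⟨0, rfl⟩)))
    have h2 : orderOf (r ⟨g, hg⟩) ∣ 2 := by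
      have h4 := orderOf_dvd_natCard (⟨r ⟨g, hg⟩, h1⟩ : zpowers f)
      rw [Nat.card_zpowers, Subgroup.orderOf_mk] at h4
      refine h4.trans (orderOf_dvd_of_pow_eq_one ?_)
      rw [pow_two]; exact d.ff
    have h5 : orderOf (r ⟨g, hg⟩) ∣ 3 := by
      rw [← h3]
      have := orderOf_map_dvd r (⟨g, hg⟩ : normalizer (jj (S : Subgroup G) : Set G))
      rwa [Subgroup.orderOf_mk] at this
    have h6 : orderOf (r ⟨g, hg⟩) = 1 := by
      have := Nat.dvd_gcd h2 h5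
      simpa using this
    have h7 := (d.rep.r_eq_one (x := ⟨g, hg⟩)).1 (orderOf_eq_one_iff.1 h6)
    exact h.toTr.not_three h.nb.cx.cyc (i := 0) (hppV (h.mem_pp.2 (Or.inr ⟨0, rfl⟩))) hg
      (mem_centralizer_iff.2 fun v hv => (h7 v hv).symm) h3

/-- **2C, 2D** -/
theorem main (h : Sb S T L O₁ O A ξ x p N e) :
    (∃ i, SLb S (vv (S : Subgroup G)) (p i)) ∨ Out S T L O₁ O A ξ x p N := by
  rcases h.card_V with h1 | h1
  · exact Or.inl (h.slb h1)
  · exact Or.inr (h.out h1)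

end Sb

namespace Out

variable {S : Sylow 2 G} {T L O₁ O A : Subgroup G} {ξ x : G} {p : Fin 3 → G} {N : Fin 3 → Subgroup G}

theorem pp_le (h : Out S T L O₁ O A ξ x p N) : pp p ≤ vv (S : Subgroup G) := by
  rw [h.V_eq]
  refine le_inf h.pp_le_ww ?_
  intro z hz
  rw [mem_centralizer_iff]
  intro j hj
  rcases h.mem_pp.1 hz with rfl | ⟨i, rfl⟩
  · rw [mul_one, one_mul]
  · exact (mem_pl.1 (h.np i).p_pl).2 j hj

/-- `T = S`: `C_{Z_J}(L) = 1` -/
theorem inf_eq_bot (h : Out S T L O₁ O A ξ x p N) (hT : T = (S : Subgroup G)) :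
    zj (S : Subgroup G) ⊓ centralizer (L : Set G) = ⊥ := by
  by_contra hb
  have hn : (S : Subgroup G) ≤ normalizer ((zj (S : Subgroup G) ⊓ centralizer (L : Set G) : Subgroup G) : Set G) := by
    apply BcExit.nle_inf ((S_le_NJ S).trans (EmptySix.normalizer_jj_le_zj _))
    have h1 : (S : Subgroup G) ≤ normalizer (L : Set G) := by rw [← hT]; exact h.T_le_M
    exact h1.trans (DBlkReduce.nc _)
  have h2 : IsPGroup 2 (zj (S : Subgroup G) ⊓ centralizer (L : Set G) : Subgroup G) :=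
    S.isPGroup'.to_le (inf_le_left.trans ((zj_le_jj _).trans (ZN.ChoiceBase.jj_le _)))
  obtain ⟨u, hu, hu1, huz⟩ := RedEBb.exists_zc S h2 hn hb
  apply hu1
  have h3 : u ∈ vv (S : Subgroup G) := zc_le_vv _ huz
  rw [h.V_eq] at h3
  refine h.ξ_fix h3.1 (fun j hj => mem_centralizer_iff.1 h3.2 j hj) ?_
  exact mem_centralizer_iff.1 hu.2 ξ h.ξL

/-- `T = S`: `Z_J ≤ W` -/
theorem zj_le (h : Out S T L O₁ O A ξ x p N) (hT : T = (S : Subgroup G)) : zj (S : Subgroup G) ≤ ww N := by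
  have h1 := (Conj.main h.toTr).1
  have h2 : Coset.In.ii T L = ⊥ := by
    rw [eq_bot_iff, ← h.inf_eq_bot hT]
    intro i hi
    rw [← hT]
    exact ⟨hi.1, centralizer_le (SetLike.coe_subset_coe.2 le_sup_left) hi.2⟩
  rw [h1, h2, sup_bot_eq]
  exact inf_le_left

/-- `T = S`: `Z_J = V` -/
theorem zj_eq (h : Out S T L O₁ O A ξ x p N) (hT : T = (S : Subgroup G)) :
    zj (S : Subgroup G) = vv (S : Subgroup G) := by
  apply le_antisymm _ (vv_le_zj _)
  rw [h.V_eq]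
  refine le_inf (h.zj_le hT) ?_
  intro z hz
  rw [mem_centralizer_iff]
  intro j hj
  exact (ZN.mem_zj.1 hz).2.1 j hj

/-- `T = S`: the input of section 4 -/
theorem fin4 (h : Out S (S : Subgroup G) L O₁ O A ξ x p N) : Fin4 S L O₁ O A ξ x p N where
  toTr := h.toTr
  nb := h.nb
  c2 := h.c2
  zj_le := h.zj_le rfl
  zc_eq := h.zc_eq
  six := h.six
  cz := h.cz
  three := h.three

/-- `T = S` -/
theorem T_eq_S (h : Out S T L O₁ O A ξ x p N) : T = (S : Subgroup G) := by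
  by_contra hne
  have hTS := h.T_le_S
  have hdec := Conj.main h.toTr
  obtain ⟨l₂, l₃, hin⟩ := Conj.exists_in h.toTr
  have hz : zj T = zj (S : Subgroup G) := ZN.ChoiceBase.zj_congr (Conj.jj_eq h.toTr)
  -- `I ≠ 1`
  have hI : Coset.In.ii T L ≠ ⊥ := by
    intro hb
    apply hne
    apply le_antisymm hTS
    have h1 : zj (S : Subgroup G) = vv (S : Subgroup G) := by
      rw [hdec.1, hb, sup_bot_eq, h.V_eq, Coset.In.wj, Conj.jj_eq h.toTr]
    have h2 : bau (S : Subgroup G) = (S : Subgroup G) ⊓ centralizer (vv (S : Subgroup G) : Set G) := by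
      rw [bau, h1]
    intro s hs
    obtain ⟨t, ht, hts⟩ := h.S_T s hs
    have h3 : t⁻¹ * s ∈ T := by
      apply h.bau_le
      rw [h2]
      exact Subgroup.mem_inf.2 ⟨(S : Subgroup G).mul_mem ((S : Subgroup G).inv_mem (hTS ht)) hs, hts⟩
    have h4 := mul_mem ht h3
    rwa [mul_inv_cancel_left] at h4
  have hT2 : IsPGroup 2 T := S.isPGroup'.to_le hTS
  have hIT : Coset.In.ii T L ≤ T := inf_le_left.trans ((zj_le_jj T).trans (ZN.ChoiceBase.jj_le T))
  have hn : T ≤ normalizer ((Coset.In.ii T L : Subgroup G) : Set G) := by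
    apply BcExit.nle_inf
    · exact (le_normalizer.trans (Basic.normalizer_le_normalizer_jj _)).trans (EmptySix.normalizer_jj_le_zj _)
    · refine le_trans ?_ (DBlkReduce.nc _)
      intro t ht
      rw [ZN.ChoiceBase.mem_normalizer_iff_cj]
      have e1 := ZN.ChoiceBase.cj_eq_of_mem_normalizer (h.T_le_M ht)
      have e2 := ZN.ChoiceBase.cj_eq_of_mem_normalizer ((le_normalizer.trans (Basic.normalizer_le_normalizer_jj T)) ht)
      rw [show ZN.ChoiceBase.cj t (L ⊔ jj T) = ZN.ChoiceBase.cj t L ⊔ ZN.ChoiceBase.cj t (jj T) from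
        Subgroup.map_sup _ _ _, e1, e2]
  have hf2 : Fact (Nat.Prime 2) := ⟨Nat.prime_two⟩
  have h1 := PLocal.OffenderStep.inf_centralizer_ne_bot (Coset.In.ii T L) T (hT2.to_le hIT) hT2 hn hI
  obtain ⟨⟨r, hr⟩, hr1⟩ := Subgroup.ne_bot_iff_exists_ne_one.mp h1
  have hrJ := ZN.ChoiceBase.mem_zj.1 hr.1.1
  have hrc : r ∈ zc T := ZN.ChoiceBase.mem_zc.2 ⟨hIT hr.1, hrJ.2.1, fun t ht => mem_centralizer_iff.1 hr.2 t ht⟩
  refine Sec3.false_of h.toTr ?_ h.zc_eq.ge ?_ ⟨r, hrc, fun h2 => hr1 (Subtype.ext h2), ?_⟩ ?_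
  · intro hS
    apply hne
    rw [h.T_eq]
    exact inf_eq_left.2 hS
  · intro z hz'
    rw [← hz] at hz'
    obtain ⟨w, hw, i, hi, h2⟩ := hin.exists_mul hz'
    exact ⟨w, hw.1, i, fun l hl => mem_centralizer_iff.1 hi.2 l (le_sup_left (a := L) hl), h2⟩
  · exact fun l hl => mem_centralizer_iff.1 hr.1.2 l (le_sup_left (a := L) hl)
  · rw [← h.V_eq]
    exact (S_le_NJ S).trans (normalizer_jj_le_vv _)

end Out

/-- **2C, 2D, section 3**: either the exit, or `T = S` and the input of section 4 -/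
theorem Sb.final {S : Sylow 2 G} {T L O₁ O A : Subgroup G} {ξ x e : G} {p : Fin 3 → G} {N : Fin 3 → Subgroup G}
    (h : Sb S T L O₁ O A ξ x p N e) :
    (∃ i, SLb S (vv (S : Subgroup G)) (p i)) ∨ Fin4 S L O₁ O A ξ x p N := by
  rcases h.main with h1 | h1
  · exact Or.inl h1
  · right
    have hT := h1.T_eq_S
    subst hT
    exact h1.fin4

end Cfsg.Agent.OddCyclic.BcP
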