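import Cfsg.Agent.OddCyclic.BcP.MainA
import Cfsg.Agent.OddCyclic.BcP.Sec2
import Cfsg.Agent.OddCyclic.BcP.TwoCD
import Cfsg.Agent.OddCyclic.BcP.D4
import Cfsg.Agent.OddCyclic.Bc.Cases
import Cfsg.Agent.OddCyclic.EmpLine.Fin

/-!
# S0342, leaf [Bc]: type (b') is impossible
-/

set_option autoImplicit false
set_option linter.unusedSectionVars false

namespace Cfsg.Agent.OddCyclic.BcP.Main

open Subgroup Cfsg Cfsg.Agent.ZN Cfsg.Agent.MinSimple
open Cfsg.Agent.OddCyclic.L32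
open Cfsg.Agent.OddCyclic.RedTy
open Cfsg.Agent.OddCyclic.RedFinal (NoBlk)
open Cfsg.Agent.OddCyclic.BcExit (SLb)

universe u

variable {G : Type u} [Group G] [Finite G] {S : Sylow 2 G} {T L O₁ O A : Subgroup G} {ξ x : G}
  {p : Fin 3 → G} {N : Fin 3 → Subgroup G}

/-- **type (b') is impossible** (up to the exits) -/
theorem false_of (h : Tr S T L O₁ O A ξ x p N) (nb : NoBlk S)
    (hx : ∀ (V : Subgroup G) (z : G), SLb S V z → False) : False := by
  have nle := MainA.c2 nb h.toConf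
  obtain ⟨e, hV, -, heT, -, he2, heξ, hξ⟩ := Sec2.main h nb nle
  have hs : Sb S T L O₁ O A ξ x p N e :=
    { toTr := h, nb := nb, c2 := nle, V_le := hV, eT := heT, e_sq := he2, e_ξ := heξ, ξ_norm := hξ }
  rcases hs.final with ⟨i, hi⟩ | ho
  · exact hx _ _ hi
  · exact ho.false

/-- **type (b') is impossible** -/
theorem bpH (I : RedEFin.In G) : Bc.Cases.BpH G := by
  intro S T L O₁ O A ξ x p q nb c hp hq hp1 hq1 hpq rp rq
  obtain ⟨p', N, -, -, h⟩ := exists_tr c hp hq hp1 hq1 hpq rp rq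
  exact false_of h nb (fun V z hs => hs.false I)

end Cfsg.Agent.OddCyclic.BcP.Main
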