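import Cfsg.Agent.OddCyclic.FFStruct
import Cfsg.Agent.OddCyclic.CaseESz
import Cfsg.Agent.OddCyclic.FFSec
import Cfsg.Agent.ZN.Defs

/-!
# S0342, leaf [Bc], type (b'), (4.4)

`cases` : `O₂(H) = 1`, odd Sylow subgroups cyclic, `x` of order 3 inverted by the 2-element `t` modulo a 2-element:
`⟨x⟩` is normal in `H` or `x` lies in a simple normal subgroup.
`main` : the same for `C/O₂(C)`.
-/

set_option autoImplicit false
set_option linter.unusedSectionVars false

namespace Cfsg.Agent.OddCyclic.BcP.Comp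

open Subgroup Cfsg Cfsg.Agent.OddCyclic.T1Defs Cfsg.Agent.OddCyclic.CompBasic Cfsg.Agent.OddCyclic.FFStruct
open Cfsg.Agent.OddCyclic.PumpMain (KZero)
open Cfsg.Agent.SignalizersComponents.Components (layer_le_iff)

section abs

variable {H : Type*} [Group H] [Finite H]

theorem eq_one_of_two_three {M : Type*} [Group M] {y : M} (h3 : y ^ 3 = 1) (h2 : ∃ n : ℕ, y ^ 2 ^ n = 1) : y = 1 := by
  obtain ⟨k, hk⟩ := h2
  have h6 : Nat.gcd (2 ^ k) 3 = 1 := Nat.Coprime.pow_left k (by norm_num)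
  rw [← pow_one y, ← h6, pow_gcd_eq_one]
  exact ⟨hk, h3⟩

/-- the normal subgroup of order three -/
theorem zpowers_normal (hc : OddCyc H) {N : Subgroup H} (hN : N.Normal) (hcyc : IsCyclic N) (h3 : 3 ∣ Nat.card N) {x : H}
    (hx : orderOf x = 3) : (zpowers x).Normal := by
  have hxN := mem_of_orderOf hc Nat.prime_three (by norm_num) hN h3 hx
  refine ⟨fun y hy g => ?_⟩
  have h1 : g * x * g⁻¹ ∈ N := hN.conj_mem x hxN g
  have h2 : orderOf (⟨g * x * g⁻¹, h1⟩ : N) = orderOf (⟨x, hxN⟩ : N) := by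
    rw [orderOf_mk, orderOf_mk]
    exact MulEquiv.orderOf_eq (MulAut.conj g) x
  have h3 := zpowers_eq_of_cyclic h2
  have h4 : g * x * g⁻¹ ∈ zpowers x := by
    have h5 : (⟨g * x * g⁻¹, h1⟩ : N) ∈ zpowers (⟨x, hxN⟩ : N) := by
      rw [← h3]; exact mem_zpowers _
    obtain ⟨k, hk⟩ := h5
    exact ⟨k, congrArg Subtype.val hk⟩
  obtain ⟨k, rfl⟩ := hy
  have h5 : g * x ^ k * g⁻¹ = (g * x * g⁻¹) ^ k := by rw [conj_zpow]
  show g * x ^ k * g⁻¹ ∈ zpowers x
  rw [h5]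
  exact zpow_mem h4 k

/-- `x` centralises the Fitting subgroup -/
theorem cent_cyclic {N : Subgroup H} (hN : N.Normal) (hcyc : IsCyclic N) {x t : H} (hx : x ^ 3 = 1)
    (hinv : ∃ n : ℕ, (t * x * t⁻¹ * x) ^ 2 ^ n = 1) : ∀ y ∈ N, x * y = y * x := by
  let φ : H →* (ZMod (Nat.card N))ˣ :=
    ((IsCyclic.mulAutMulEquiv N).toMonoidHom).comp (MulAut.conjNormal (H := N))
  obtain ⟨n, hn⟩ := hinv
  have h1 : φ (t * x * t⁻¹ * x) = φ x * φ x := by
    rw [map_mul, map_mul, map_mul, map_inv, mul_comm (φ t) (φ x), mul_inv_cancel_right]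
  have h2 : (φ x * φ x) ^ 2 ^ n = 1 := by rw [← h1, ← map_pow, hn, map_one]
  have h3 : φ x = 1 := by
    apply eq_one_of_two_three
    · rw [← map_pow, hx, map_one]
    · refine ⟨n + 1, ?_⟩
      rw [pow_succ, mul_comm, pow_mul, pow_two, h2]
  have h4 : MulAut.conjNormal (H := N) x = 1 := by
    apply (IsCyclic.mulAutMulEquiv N).injective
    rw [map_one]
    exact h3
  intro y hy
  have h5 := congrArg (fun α : MulAut N => ((α ⟨y, hy⟩ : N) : H)) h4
  simp only [MulAut.conjNormal_apply, MulAut.one_apply] at h5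
  exact mul_inv_eq_iff_eq_mul.1 h5

/-- `x` centralises Suzuki groups -/
theorem cent_suzuki {K : Subgroup H} (hK : K.Normal) (hs : Cfsg.Lie.IsoSuzuki K) (h3 : ¬ 3 ∣ Nat.card K)
    (hcen : ∀ z ∈ K, z ∈ centralizer (K : Set H) → z = 1) {x t : H} (hx : x ^ 3 = 1) (ht : ∃ n : ℕ, t ^ 2 ^ n = 1)
    (hinv : ∃ n : ℕ, (t * x * t⁻¹ * x) ^ 2 ^ n = 1) : x ∈ centralizer (K : Set H) := by
  have hn : ∀ g : H, g ∈ normalizer (K : Set H) := fun g => by
    rw [normalizer_eq_top_iff.2 hK]; trivial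
  have hCn : (centralizer (K : Set H)).Normal := inferInstance
  have hM : (K ⊔ centralizer (K : Set H)).Normal := Subgroup.sup_normal _ _
  have h1 := CaseESz.inner hs (hn t) ht
  have h2 := CaseESz.inner hs (hn _) hinv
  have hxx : x * x ∈ K ⊔ centralizer (K : Set H) := by
    have h4 : x⁻¹ * t⁻¹ * x ∈ K ⊔ centralizer (K : Set H) := by
      have h5 := hM.conj_mem _ (inv_mem h1) x⁻¹
      rwa [inv_inv] at h5
    -- `x x = (x⁻¹ t x)⁻¹ ...`
    have h5 := mul_mem (inv_mem h1) h2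
    have e1 : t⁻¹ * (t * x * t⁻¹ * x) = x * t⁻¹ * x := by group
    rw [e1] at h5
    have h6 : x * t * x⁻¹ ∈ K ⊔ centralizer (K : Set H) := hM.conj_mem _ h1 x
    have h7 := mul_mem h6 h5
    have e2 : x * t * x⁻¹ * (x * t⁻¹ * x) = x * x := by group
    rwa [e2] at h7
  have hxM : x ∈ K ⊔ centralizer (K : Set H) := by
    have h4 := mul_mem hxx hxx
    have : x * x * (x * x) = x := by
      have h5 : x * x * (x * x) = x ^ 3 * x := by rw [pow_succ, pow_two]; group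
      rw [h5, hx, one_mul]
    rwa [this] at h4
  obtain ⟨k, hk, c, hc, hkc⟩ := (mem_sup_of_normal_left).1 hxM
  have hcomm : k * c = c * k := mem_centralizer_iff.1 hc k hk
  have hk3 : k ^ 3 = 1 := by
    apply hcen
    · exact pow_mem hk 3
    · have h5 : k ^ 3 * c ^ 3 = 1 := by
        rw [← (show Commute k c from hcomm).mul_pow, hkc, hx]
      rw [mul_eq_one_iff_eq_inv.1 h5]
      exact inv_mem (pow_mem hc 3)
  have hk1 : k = 1 := by
    by_contra hne
    have : Fact (Nat.Prime 3) := ⟨Nat.prime_three⟩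
    apply h3
    have h5 : orderOf (⟨k, hk⟩ : K) = 3 := orderOf_eq_prime (Subtype.ext hk3) (fun h => hne (congrArg Subtype.val h))
    rw [← h5]
    exact orderOf_dvd_natCard _
  rw [← hkc, hk1, one_mul]
  exact hc

/-- **(4.4), abstract form** -/
theorem cases (hc : OddCyc H) (hk : ∀ J : Subgroup H, IsSimpleGroup J → (∃ x y : J, x * y ≠ y * x) → KZero J)
    (h2 : pCore 2 H = ⊥) {x t : H} (hx : orderOf x = 3) (ht : ∃ n : ℕ, t ^ 2 ^ n = 1)
    (hinv : ∃ n : ℕ, (t * x * t⁻¹ * x) ^ 2 ^ n = 1) :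
    (zpowers x).Normal ∨ ∃ K : Subgroup H, K.Normal ∧ IsSimpleGroup K ∧ KZero K ∧ x ∈ K := by
  by_contra hcon
  push Not at hcon
  obtain ⟨hnn, hno⟩ := hcon
  have hx3 : x ^ 3 = 1 := by rw [← hx]; exact pow_orderOf_eq_one x
  have hcyc := isCyclic_fitting hc h2
  have hFn : (fittingSubgroup H).Normal := Cfsg.Agent.Lib.Cores.fittingSubgroup_normal
  have hF3 : ¬ 3 ∣ Nat.card (fittingSubgroup H) := fun h => hnn (zpowers_normal hc hFn hcyc h hx)
  have h1 : ∀ y ∈ fittingSubgroup H, x * y = y * x := cent_cyclic hFn hcyc hx3 hinv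
  have h3 : ∀ K : Subgroup H, IsComponent K → x ∈ centralizer (K : Set H) := by
    intro K hK
    have hs := simple_component hc h2 hK
    have hKn := component_normal hc hK
    have hna : ∃ a b : K, a * b ≠ b * a := by
      by_contra hcon
      push Not at hcon
      apply Cfsg.Agent.SignalizersComponents.Components.quasisimple_not_isSolvable hK.2
      exact Group.isSolvable_of_comm hcon
    have hkz := hk K hs hna
    have h4 : ¬ 3 ∣ Nat.card K := by
      intro h4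
      exact hno K hKn hs hkz (mem_of_orderOf hc Nat.prime_three (by norm_num) hKn h4 hx)
    have hsz : Cfsg.Lie.IsoSuzuki K := by
      by_contra hns
      exact h4 (three_dvd_of_kZero hkz hns)
    exact cent_suzuki hKn hsz h4 (inter_centralizer hc h2 hK) hx3 ht hinv
  set C := centralizer (generalizedFittingSubgroup H : Set H) with hC
  have hGn : (generalizedFittingSubgroup H).Normal := Cfsg.Agent.Lib.GenFitting.genFitting_normal
  have hCn : C.Normal := by rw [hC]; infer_instance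
  have hle : C ≤ generalizedFittingSubgroup H := Cfsg.Agent.Lib.GenFitting.centralizer_genFitting_le
  have haC : x ∈ C := by
    rw [hC, mem_centralizer_iff]
    have h4 : generalizedFittingSubgroup H ≤ centralizer ({x} : Set H) := by
      rw [Cfsg.Agent.Lib.GenFitting.genFitting_def, sup_le_iff]
      constructor
      · rw [layer_le_iff]
        intro K hK k hk
        rw [mem_centralizer_singleton_iff]
        exact (mem_centralizer_iff.mp (h3 K hK)) k hk
      · intro y hy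
        rw [mem_centralizer_singleton_iff]
        exact (h1 y hy).symm
    intro y hy
    exact mem_centralizer_singleton_iff.mp (h4 hy)
  have hab : ∀ u ∈ C, ∀ v ∈ C, u * v = v * u := by
    intro u hu v hv
    exact ((mem_centralizer_iff.mp hv) u (hle hu))
  have hnil : Group.IsNilpotent C := by
    let _ : CommGroup C := { (inferInstance : Group C) with mul_comm := fun u v => Subtype.ext (hab u u.2 v v.2) }
    infer_instance
  have hxF : x ∈ fittingSubgroup H := Cfsg.Agent.Lib.Cores.le_fittingSubgroup hCn hnil haC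
  apply hF3
  rw [← hx, ← Subgroup.orderOf_mk x hxF]
  exact orderOf_dvd_natCard _

end abs

/-! ### in the group -/

section group

universe u

open Cfsg.Agent.ZN (o2)

variable {G : Type*} [Group G] [Finite G] {C : Subgroup G} {x t : G}

/-- **(4.4)** -/
theorem main (hc : OddCyc G)
    (hk : ∀ J : Subgroup (C ⧸ pCore 2 C), IsSimpleGroup J → (∃ x y : J, x * y ≠ y * x) → KZero J)
    (hxC : x ∈ C) (htC : t ∈ C) (hx : orderOf x = 3) (ht : ∃ n : ℕ, t ^ 2 ^ n = 1)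
    (hinv : ∃ n : ℕ, (t * x * t⁻¹ * x) ^ 2 ^ n = 1) :
    C ≤ normalizer ((o2 C ⊔ zpowers x : Subgroup G) : Set G) ∨
      ∃ (K₁ : Subgroup G) (K : Subgroup (C ⧸ pCore 2 C)) (π : K₁ →* K), o2 C ≤ K₁ ∧ K₁ ≤ C ∧
        C ≤ normalizer (K₁ : Set G) ∧ x ∈ K₁ ∧ IsSimpleGroup K ∧ KZero K ∧ Function.Surjective π ∧
        π.ker = (o2 C).subgroupOf K₁ ∧
        ∀ k : K₁, ∀ hk : (k : G) ∈ C, ((π k : K) : C ⧸ pCore 2 C) = QuotientGroup.mk (⟨k, hk⟩ : C) := by
  set q : C →* C ⧸ pCore 2 C := QuotientGroup.mk' (pCore 2 C) with hq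
  have hqs : Function.Surjective q := QuotientGroup.mk'_surjective _
  have hker : q.ker = pCore 2 C := QuotientGroup.ker_mk' _
  have ho2 : (pCore 2 C).map C.subtype = o2 C := rfl
  have hmemo : ∀ c : C, (c : G) ∈ o2 C ↔ c ∈ pCore 2 C := by
    intro c
    rw [← ho2]
    constructor
    · rintro ⟨d, hd, h1⟩
      have : d = c := Subtype.ext h1
      rwa [← this]
    · intro h
      exact ⟨c, h, rfl⟩
  set x' : C := ⟨x, hxC⟩ with hx'
  set t' : C := ⟨t, htC⟩ with ht'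
  have hx3 : x ^ 3 = 1 := by rw [← hx]; exact pow_orderOf_eq_one x
  have hx1 : x ≠ 1 := by
    rintro rfl
    rw [orderOf_one] at hx
    omega
  have hqx : orderOf (q x') = 3 := by
    have : Fact (Nat.Prime 3) := ⟨Nat.prime_three⟩
    apply orderOf_eq_prime
    · rw [← map_pow]
      have : x' ^ 3 = 1 := Subtype.ext hx3
      rw [this, map_one]
    · intro h1
      have h2 : x' ∈ pCore 2 C := by rw [← hker]; exact h1
      obtain ⟨k, hk⟩ := (Cfsg.Agent.Lib.Cores.pCore_isPGroup (G := C) 2) ⟨x', h2⟩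
      have h3 : x ^ 2 ^ k = 1 := congrArg (fun z : pCore 2 C => ((z : C) : G)) hk
      exact hx1 (eq_one_of_two_three hx3 ⟨k, h3⟩)
  have hc' : OddCyc (C ⧸ pCore 2 C) := oddCyc_quotient (oddCyc_subgroup hc C) (pCore 2 C)
  have h2' : pCore 2 (C ⧸ pCore 2 C) = ⊥ := Lib.Cores.pCore_quotient_pCore 2
  obtain ⟨n, hn⟩ := ht
  obtain ⟨m, hm⟩ := hinv
  rcases cases hc' hk h2' hqx (t := q t') ⟨n, by
      rw [← map_pow]
      have : t' ^ 2 ^ n = 1 := Subtype.ext hn
      rw [this, map_one]⟩ ⟨m, by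
      rw [← map_inv, ← map_mul, ← map_mul, ← map_mul, ← map_pow]
      have : (t' * x' * t'⁻¹ * x') ^ 2 ^ m = 1 := Subtype.ext hm
      rw [this, map_one]⟩ with h | ⟨K, hKn, hKs, hKz, hxK⟩
  · left
    -- the preimage of `⟨x̄⟩`
    have h1 : (zpowers (q x')).comap q = pCore 2 C ⊔ zpowers x' := by
      rw [← MonoidHom.map_zpowers, Subgroup.comap_map_eq, hker, sup_comm]
    have h2 : (pCore 2 C ⊔ zpowers x').Normal := by
      rw [← h1]; infer_instance
    have h3 : (pCore 2 C ⊔ zpowers x').map C.subtype = o2 C ⊔ zpowers x := by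
      rw [Subgroup.map_sup, MonoidHom.map_zpowers]; rfl
    intro c hcC
    rw [mem_normalizer_iff]
    have key : ∀ c : C, ∀ y ∈ o2 C ⊔ zpowers x, (c : G) * y * (c : G)⁻¹ ∈ o2 C ⊔ zpowers x := by
      intro c y hy
      rw [← h3] at hy ⊢
      obtain ⟨d, hd, rfl⟩ := hy
      exact ⟨c * d * c⁻¹, h2.conj_mem d hd c, rfl⟩
    intro y
    refine ⟨key ⟨c, hcC⟩ y, fun hy => ?_⟩
    have h4 := key (⟨c, hcC⟩⁻¹) _ hy
    have h5 : ((⟨c, hcC⟩⁻¹ : C) : G) * (c * y * c⁻¹) * ((⟨c, hcC⟩⁻¹ : C) : G)⁻¹ = y := by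
      show c⁻¹ * (c * y * c⁻¹) * c⁻¹⁻¹ = y
      group
    rwa [h5] at h4
  · right
    set K₁ : Subgroup G := (K.comap q).map C.subtype with hK₁
    have hmem : ∀ k : K₁, ∃ hk : (k : G) ∈ C, q ⟨k, hk⟩ ∈ K := by
      rintro ⟨_, ⟨d, hd, rfl⟩⟩
      exact ⟨d.2, hd⟩
    let π : K₁ →* K :=
      { toFun := fun k => ⟨q ⟨k, (hmem k).choose⟩, (hmem k).choose_spec⟩
        map_one' := Subtype.ext (map_one q)
        map_mul' := fun a b => Subtype.ext (by
          show q _ = q _ * q _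
          rw [← map_mul]; rfl) }
    have hπ : ∀ (k : K₁) (hk : (k : G) ∈ C), ((π k : K) : C ⧸ pCore 2 C) = q ⟨k, hk⟩ := fun k hk => rfl
    refine ⟨K₁, K, π, ?_, map_subtype_le _, ?_, ⟨x', hxK, rfl⟩, hKs, hKz, ?_, ?_, hπ⟩
    · rintro y ⟨d, hd, rfl⟩
      refine ⟨d, ?_, rfl⟩
      show q d ∈ K
      have : q d = 1 := by rw [← MonoidHom.mem_ker, hker]; exact hd
      rw [this]
      exact one_mem _
    · have hn' : (K.comap q).Normal := hKn.comap q
      intro c hcC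
      rw [mem_normalizer_iff]
      have key : ∀ c : C, ∀ y ∈ K₁, (c : G) * y * (c : G)⁻¹ ∈ K₁ := by
        rintro c _ ⟨d, hd, rfl⟩
        exact ⟨c * d * c⁻¹, hn'.conj_mem d hd c, rfl⟩
      intro y
      refine ⟨key ⟨c, hcC⟩ y, fun hy => ?_⟩
      have h4 := key (⟨c, hcC⟩⁻¹) _ hy
      have h5 : ((⟨c, hcC⟩⁻¹ : C) : G) * (c * y * c⁻¹) * ((⟨c, hcC⟩⁻¹ : C) : G)⁻¹ = y := by
        show c⁻¹ * (c * y * c⁻¹) * c⁻¹⁻¹ = y
        group
      rwa [h5] at h4
    · rintro ⟨k, hk⟩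
      obtain ⟨d, rfl⟩ := hqs k
      exact ⟨⟨d, ⟨d, hk, rfl⟩⟩, Subtype.ext rfl⟩
    · ext k
      rw [MonoidHom.mem_ker, mem_subgroupOf]
      obtain ⟨hkC, -⟩ := hmem k
      have h1 : (k : G) ∈ o2 C ↔ q ⟨k, hkC⟩ = 1 := by
        rw [← MonoidHom.mem_ker, hker]
        exact hmemo ⟨k, hkC⟩
      rw [h1, ← hπ k hkC]
      exact ⟨fun h => by rw [h]; rfl, fun h => Subtype.ext h⟩

/-- **(4.4)** with `SecZero` -/
theorem main' {G : Type u} [Group G] [Finite G] {C : Subgroup G} {x t : G} (hc : OddCyc G)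
    (hz : CompStart.SecZero G) (hC : C ≠ ⊤)
    (hxC : x ∈ C) (htC : t ∈ C) (hx : orderOf x = 3) (ht : ∃ n : ℕ, t ^ 2 ^ n = 1)
    (hinv : ∃ n : ℕ, (t * x * t⁻¹ * x) ^ 2 ^ n = 1) :
    C ≤ normalizer ((o2 C ⊔ zpowers x : Subgroup G) : Set G) ∨
      ∃ (K₁ : Subgroup G) (K : Subgroup (C ⧸ pCore 2 C)) (π : K₁ →* K), o2 C ≤ K₁ ∧ K₁ ≤ C ∧
        C ≤ normalizer (K₁ : Set G) ∧ x ∈ K₁ ∧ IsSimpleGroup K ∧ KZero K ∧ Function.Surjective π ∧
        π.ker = (o2 C).subgroupOf K₁ ∧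
        ∀ k : K₁, ∀ hk : (k : G) ∈ C, ((π k : K) : C ⧸ pCore 2 C) = QuotientGroup.mk (⟨k, hk⟩ : C) :=
  main hc (fun J hJ hJn => FFSec.kzero_of_image hz hC (QuotientGroup.mk' (pCore 2 C))
    (QuotientGroup.mk'_surjective _) J hJ hJn) hxC htC hx ht hinv

end group

end Cfsg.Agent.OddCyclic.BcP.Comp
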