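import Cfsg.Agent.OddCyclic.L32.FD

/-!
# S0342, [Bc], type (b'), (1.1)-(1.2): the coset trick

`In T W L l₂ l₃` : `W ≤ T` elementary abelian, normalised by `T` and `L`; the elementary abelian subgroups of `T` of
maximal order are offenders on `W`; `L` normalises `C_T(W)`; three conjugates `J, J₂, J₃` of `J = J(T)` under `L` with
`W = C_W(J) C_W(J₂) = C_W(J) C_W(J₃)`, `C_W(J) = C_W(J J₂) C_W(J J₃)`, `L ≤ ⟨J, J₂, J₃⟩`.
* `comm` : `[Ω₁Z(J(C_T(W))), g] ≤ W` for `g ∈ ⟨J, J₂, J₃⟩`;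
* `zj_eq` : `Ω₁Z(J) = C_W(J) × I`, `I = C_{Ω₁Z(J)}(L J)`;
* `inv_eq` : `I = C_{Ω₁Z(J)}(x)`, `x ∈ L`, `C_{C_W(J)}(x) = 1`.
-/

set_option autoImplicit false
set_option linter.unusedSectionVars false
set_option linter.unusedVariables false

namespace Cfsg.Agent.OddCyclic.BcP.Coset

open Subgroup Cfsg Cfsg.Agent.ZN.ChoiceBase
open Cfsg.Agent.ZN (jj zj)
open Cfsg.Agent.OddCyclic.L32.FD (comm_of_sq inv_of_sq)

universe u

variable {G : Type u} [Group G]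

/-- the input of (1.1), (1.2) -/
structure In (T W L : Subgroup G) (l₂ l₃ : G) : Prop where
  wsq : ∀ w ∈ W, w * w = 1
  wT : W ≤ T
  TW : T ≤ normalizer (W : Set G)
  LW : L ≤ normalizer (W : Set G)
  LQ : L ≤ normalizer ((T ⊓ centralizer (W : Set G) : Subgroup G) : Set G)
  off : ∀ A ∈ AA T, ¬ A ≤ centralizer (W : Set G) →
    (A ⊓ centralizer (W : Set G)).relIndex A ≤ (W ⊓ centralizer (A : Set G)).relIndex W
  l2 : l₂ ∈ L
  l3 : l₃ ∈ L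
  s12 : W ≤ (W ⊓ centralizer (jj T : Set G)) ⊔ (W ⊓ centralizer (cj l₂ (jj T) : Set G))
  s13 : W ≤ (W ⊓ centralizer (jj T : Set G)) ⊔ (W ⊓ centralizer (cj l₃ (jj T) : Set G))
  s123 : W ⊓ centralizer (jj T : Set G) ≤
    (W ⊓ centralizer (jj T : Set G) ⊓ centralizer (cj l₂ (jj T) : Set G)) ⊔
      (W ⊓ centralizer (jj T : Set G) ⊓ centralizer (cj l₃ (jj T) : Set G))
  gen : L ≤ jj T ⊔ cj l₂ (jj T) ⊔ cj l₃ (jj T)

variable {T W L : Subgroup G} {l₂ l₃ : G}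

theorem isElem_of {A : Subgroup G} (h : ∀ a ∈ A, a * a = 1) : IsElementaryAbelian 2 A :=
  PLocal.ThompsonJ.isElementaryAbelian_iff.2
    ⟨fun _ ha _ hb => comm_of_sq h ha hb, fun a ha => by rw [pow_two]; exact h a ha⟩

theorem sq_of {A : Subgroup G} (h : IsElementaryAbelian 2 A) : ∀ a ∈ A, a * a = 1 := fun a ha => by
  rw [← pow_two]; exact h.2 a ha

/-- `Q = C_T(W)` -/
abbrev qm (T W : Subgroup G) : Subgroup G := T ⊓ centralizer (W : Set G)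

/-- `Z₀ = Ω₁Z(J(Q))` -/
abbrev z0 (T W : Subgroup G) : Subgroup G := zj (qm T W)

theorem normalizer_zj_le {Q X : Subgroup G} (hX : X ≤ normalizer (Q : Set G)) : X ≤ normalizer (zj Q : Set G) := by
  intro x hx
  rw [mem_normalizer_iff_cj, ← zj_cj, cj_eq_of_mem_normalizer (hX hx)]

/-- the elements `g` normalising `Z` and `W` with `[g, Z] ≤ W` -/
def KK (Z W : Subgroup G) (hWZ : W ≤ Z) (hZ : ∀ v ∈ Z, v * v = 1) : Subgroup G where
  carrier := {g | g ∈ normalizer (Z : Set G) ∧ g ∈ normalizer (W : Set G) ∧ ∀ v ∈ Z, g * v * g⁻¹ * v⁻¹ ∈ W}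
  mul_mem' := by
    rintro a b ⟨ha1, ha2, ha3⟩ ⟨hb1, hb2, hb3⟩
    refine ⟨mul_mem ha1 hb1, mul_mem ha2 hb2, fun v hv => ?_⟩
    have h1 := (mem_normalizer_iff.1 ha2 _).1 (hb3 v hv)
    have h2 := mul_mem h1 (ha3 v hv)
    have e : a * (b * v * b⁻¹ * v⁻¹) * a⁻¹ * (a * v * a⁻¹ * v⁻¹) = a * b * v * (a * b)⁻¹ * v⁻¹ := by group
    rwa [e] at h2
  one_mem' := ⟨one_mem _, one_mem _, fun v _ => by
    have e : 1 * v * 1⁻¹ * v⁻¹ = 1 := by group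
    rw [e]; exact one_mem _⟩
  inv_mem' := by
    rintro a ⟨ha1, ha2, ha3⟩
    refine ⟨inv_mem ha1, inv_mem ha2, fun v hv => ?_⟩
    have h1 := inv_mem ((mem_normalizer_iff.1 (inv_mem ha2) _).1 (ha3 v hv))
    have e : (a⁻¹ * (a * v * a⁻¹ * v⁻¹) * a⁻¹⁻¹)⁻¹ = a⁻¹ * v * a⁻¹⁻¹ * v⁻¹ := by group
    rwa [e] at h1

theorem mem_KK {Z W : Subgroup G} {hWZ : W ≤ Z} {hZ : ∀ v ∈ Z, v * v = 1} {g : G} :
    g ∈ KK Z W hWZ hZ ↔
      g ∈ normalizer (Z : Set G) ∧ g ∈ normalizer (W : Set G) ∧ ∀ v ∈ Z, g * v * g⁻¹ * v⁻¹ ∈ W := Iff.rfl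

namespace In

variable [Finite G]

theorem W_le (h : In T W L l₂ l₃) : W ≤ qm T W :=
  le_inf h.wT fun w hw => mem_centralizer_iff.2 fun v hv => comm_of_sq h.wsq hv hw

/-- `A₀ = C_A(W) W` -/
theorem exists_max (h : In T W L l₂ l₃) {A : Subgroup G} (hA : A ∈ AA T) :
    ∃ A₀ ∈ AA T, A₀ ≤ qm T W ∧ ((A ≤ centralizer (W : Set G) ∧ A₀ = A) ∨
      A₀ = (A ⊓ centralizer (W : Set G)) ⊔ W) := by
  by_cases hc : A ≤ centralizer (W : Set G)
  · exact ⟨A, hA, le_inf hA.2.1 hc, Or.inl ⟨hc, rfl⟩⟩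
  refine ⟨(A ⊓ centralizer (W : Set G)) ⊔ W, ?_, ?_, Or.inr rfl⟩
  · have hAsq := sq_of hA.1
    set C : Subgroup G := A ⊓ centralizer (W : Set G) with hC
    have hCW : C ≤ normalizer (W : Set G) := inf_le_right.trans (centralizer_le_normalizer _)
    have hsq : ∀ b ∈ C ⊔ W, b * b = 1 := fun b hb => by
      obtain ⟨c, hc, v, hv, rfl⟩ := MinSimple.FFBlock.mem_sup_of_le_normalizer hCW hb
      have h3 := mem_centralizer_iff.1 hc.2 v hv
      calc c * v * (c * v) = (c * c) * (v * v) := by rw [mul_assoc, ← mul_assoc v, h3]; group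
        _ = 1 := by rw [h.wsq v hv, hAsq c hc.1, mul_one]
    rw [mem_AA_iff]
    refine ⟨isElem_of hsq, sup_le (inf_le_left.trans hA.2.1) h.wT, ?_⟩
    rw [mm_eq hA]
    have h1 := T1Tools.card_sup_mul hCW
    have h2 : Nat.card (W ⊓ C : Subgroup G) ≤ Nat.card (W ⊓ centralizer (A : Set G) : Subgroup G) := by
      refine Subgroup.card_le_of_le (le_inf inf_le_left fun v hv => ?_)
      rw [mem_centralizer_iff]
      exact fun a ha => comm_of_sq hAsq ha hv.2.1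
    have h3 := h.off A hA hc
    have h4 := T1Tools.card_mul_relIndex (inf_le_left : W ⊓ centralizer (A : Set G) ≤ W)
    have h5 := T1Tools.card_mul_relIndex (inf_le_left : A ⊓ centralizer (W : Set G) ≤ A)
    rw [sup_comm]
    refine Nat.le_of_mul_le_mul_right ?_ (Nat.card_pos : 0 < Nat.card (W ⊓ centralizer (A : Set G) : Subgroup G))
    calc Nat.card A * Nat.card (W ⊓ centralizer (A : Set G) : Subgroup G)
        = Nat.card C * C.relIndex A * Nat.card (W ⊓ centralizer (A : Set G) : Subgroup G) := by rw [h5]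
      _ ≤ Nat.card C * (W ⊓ centralizer (A : Set G)).relIndex W *
          Nat.card (W ⊓ centralizer (A : Set G) : Subgroup G) := by gcongr
      _ = Nat.card W * Nat.card C := by rw [← h4]; ring
      _ = Nat.card (W ⊔ C : Subgroup G) * Nat.card (W ⊓ C : Subgroup G) := h1.symm
      _ ≤ _ := by gcongr
  · refine sup_le (inf_le_inf_right _ hA.2.1) h.W_le

theorem mm_le (h : In T W L l₂ l₃) : mm T ≤ mm (qm T W) := by
  obtain ⟨A, hA⟩ := AA_nonempty T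
  obtain ⟨A₀, hA₀, hle, -⟩ := h.exists_max hA
  rw [mm_eq hA₀]
  exact card_le_mm hA₀.1 hle

theorem mem_AA {A : Subgroup G} (hA : A ∈ AA T) (hle : A ≤ qm T W) : A ∈ AA (qm T W) :=
  ⟨hA.1, hle, fun B hB hBQ => hA.2.2 B hB (hBQ.trans inf_le_left)⟩

theorem jj_q_le (h : In T W L l₂ l₃) : jj (qm T W) ≤ jj T := jj_mono inf_le_left h.mm_le

theorem W_le_jj (h : In T W L l₂ l₃) : W ≤ jj T := by
  by_cases hc : ∀ A ∈ AA T, A ≤ centralizer (W : Set G)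
  · intro w hw
    refine mem_jj_of_comm (h.wT hw) (by rw [pow_two]; exact h.wsq w hw) fun y hy => ?_
    have h1 : jj T ≤ centralizer (W : Set G) := by
      rw [jj_eq]
      exact sSup_le hc
    exact (mem_centralizer_iff.1 (h1 hy) w hw).symm
  · push Not at hc
    obtain ⟨A, hA, hAc⟩ := hc
    obtain ⟨A₀, hA₀, -, h1 | h1⟩ := h.exists_max hA
    · exact absurd h1.1 hAc
    · exact (by rw [h1]; exact le_sup_right : W ≤ A₀).trans (le_jj hA₀)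

/-- `Z_J ≤ Z₀` -/
theorem zj_le (h : In T W L l₂ l₃) : zj T ≤ z0 T W := by
  intro v hv
  rw [mem_zj] at hv
  have h1 : v ∈ qm T W := ⟨jj_le T hv.1, mem_centralizer_iff.2 fun w hw => hv.2.2 w (h.W_le_jj hw)⟩
  have h2 : ∀ y ∈ jj (qm T W), y * v = v * y := fun y hy => hv.2.2 y (h.jj_q_le hy)
  rw [mem_zj]
  exact ⟨mem_jj_of_comm h1 hv.2.1 h2, hv.2.1, h2⟩

theorem W_le_z0 (h : In T W L l₂ l₃) : W ≤ z0 T W := by
  intro w hw
  have h2 : ∀ y ∈ jj (qm T W), y * w = w * y := fun y hy =>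
    (mem_centralizer_iff.1 (jj_le _ hy).2 w hw).symm
  rw [mem_zj]
  have h3 : w ^ 2 = 1 := by rw [pow_two]; exact h.wsq w hw
  exact ⟨mem_jj_of_comm (h.W_le hw) h3 h2, h3, h2⟩

theorem z0_sq (_ : In T W L l₂ l₃) : ∀ v ∈ z0 T W, v * v = 1 := fun v hv => by
  rw [← pow_two]; exact (mem_zj.1 hv).2.1

theorem z0_comm (h : In T W L l₂ l₃) {v w : G} (hv : v ∈ z0 T W) (hw : w ∈ z0 T W) : v * w = w * v :=
  comm_of_sq h.z0_sq hv hw

/-- an element of `Z₀` centralised by `J` is in `Z_J` -/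
theorem mem_zj_of (h : In T W L l₂ l₃) {v : G} (hv : v ∈ z0 T W) (hJ : v ∈ centralizer (jj T : Set G)) : v ∈ zj T := by
  rw [mem_zj] at hv ⊢
  exact ⟨h.jj_q_le hv.1, hv.2.1, fun y hy => mem_centralizer_iff.1 hJ y hy⟩

/-- the elements `g` with `[g, Z₀] ≤ W` -/
abbrev K (h : In T W L l₂ l₃) : Subgroup G := KK (z0 T W) W h.W_le_z0 h.z0_sq

theorem T_le_q (h : In T W L l₂ l₃) : T ≤ normalizer (qm T W : Set G) := by
  intro t ht
  rw [mem_normalizer_iff_cj, cj_inf, cj_centralizer, cj_eq_of_mem_normalizer (h.TW ht),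
    cj_eq_of_mem_normalizer (le_normalizer ht)]

/-- (1.1) -/
theorem A_le_K (h : In T W L l₂ l₃) {A : Subgroup G} (hA : A ∈ AA T) : A ≤ h.K := by
  have hAT := hA.2.1
  intro a ha
  refine ⟨normalizer_zj_le h.T_le_q (hAT ha), h.TW (hAT ha), fun v hv => ?_⟩
  obtain ⟨A₀, hA₀, hle, h1⟩ := h.exists_max hA
  have hA₀' : A₀ ≤ jj (qm T W) := le_jj (mem_AA hA₀ hle)
  have hv' := mem_zj.1 hv
  rcases h1 with ⟨-, h1⟩ | h1
  · have h2 : a * v = v * a := hv'.2.2 a (hA₀' (by rw [h1]; exact ha))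
    have e : a * v * a⁻¹ * v⁻¹ = 1 := by rw [h2]; group
    rw [e]; exact one_mem _
  · -- `Z₀ ≤ A₀`
    have h2 : v ∈ A₀ := by
      have h3 : IsElementaryAbelian 2 (A₀ ⊔ z0 T W : Subgroup G) := by
        have hn : z0 T W ≤ normalizer (A₀ : Set G) := by
          refine le_trans (fun z hz => ?_) (centralizer_le_normalizer _)
          exact mem_centralizer_iff.2 fun b hb => (mem_zj.1 hz).2.2 b (hA₀' hb)
        refine isElem_of fun b hb => ?_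
        rw [sup_comm] at hb
        obtain ⟨c, hc, w, hw, rfl⟩ := MinSimple.FFBlock.mem_sup_of_le_normalizer hn hb
        have h4 : w * c = c * w := (mem_zj.1 hc).2.2 w (hA₀' hw)
        calc c * w * (c * w) = (c * c) * (w * w) := by rw [mul_assoc, ← mul_assoc w, h4]; group
          _ = 1 := by rw [sq_of hA₀.1 w hw, h.z0_sq c hc, mul_one]
      have h4 : A₀ ⊔ z0 T W ≤ T := sup_le hA₀.2.1 ((fun z hz => (jj_le _ (mem_zj.1 hz).1).1 : z0 T W ≤ T))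
      have h5 : A₀ = A₀ ⊔ z0 T W := Subgroup.eq_of_le_of_card_ge le_sup_left (hA₀.2.2 _ h3 h4)
      rw [h5]
      exact le_sup_right (a := A₀) hv
    rw [h1] at h2
    have hCW : A ⊓ centralizer (W : Set G) ≤ normalizer (W : Set G) :=
      inf_le_right.trans (centralizer_le_normalizer _)
    obtain ⟨c, hc, w, hw, rfl⟩ := MinSimple.FFBlock.mem_sup_of_le_normalizer hCW h2
    have h3 : a * c = c * a := comm_of_sq (sq_of hA.1) ha hc.1
    have h4 : a * w * a⁻¹ * w⁻¹ ∈ W := mul_mem ((mem_normalizer_iff.1 (h.TW (hAT ha)) w).1 hw) (inv_mem hw)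
    have h5 := mem_centralizer_iff.1 hc.2 _ h4
    have e : a * (c * w) * a⁻¹ * (c * w)⁻¹ = a * w * a⁻¹ * w⁻¹ := by
      calc a * (c * w) * a⁻¹ * (c * w)⁻¹ = (a * c) * w * a⁻¹ * w⁻¹ * c⁻¹ := by group
        _ = c * (a * w * a⁻¹ * w⁻¹) * c⁻¹ := by rw [h3]; group
        _ = a * w * a⁻¹ * w⁻¹ := by rw [← h5]; group
    rw [e]; exact h4

theorem jj_le_K (h : In T W L l₂ l₃) : jj T ≤ h.K := by
  rw [jj_eq]
  exact sSup_le fun A hA => h.A_le_K hA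

theorem L_norm_z0 (h : In T W L l₂ l₃) : L ≤ normalizer (z0 T W : Set G) := normalizer_zj_le h.LQ

theorem cj_le_K (h : In T W L l₂ l₃) {l : G} (hl : l ∈ L) : cj l (jj T) ≤ h.K := by
  intro g hg
  have h1 : l⁻¹ * g * l ∈ h.K := h.jj_le_K (mem_cj.1 hg)
  have hZ := h.L_norm_z0 hl
  have hW := h.LW hl
  obtain ⟨h2, h3, h4⟩ := h1
  have e : g = l * (l⁻¹ * g * l) * l⁻¹ := by group
  refine ⟨?_, ?_, fun v hv => ?_⟩
  · rw [e]; exact mul_mem (mul_mem hZ h2) (inv_mem hZ)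
  · rw [e]; exact mul_mem (mul_mem hW h3) (inv_mem hW)
  · have h5 : l⁻¹ * v * l ∈ z0 T W := by
      have := (mem_normalizer_iff.1 (inv_mem hZ) v).1 hv
      rwa [inv_inv] at this
    have h6 := (mem_normalizer_iff.1 hW _).1 (h4 _ h5)
    have e2 : l * (l⁻¹ * g * l * (l⁻¹ * v * l) * (l⁻¹ * g * l)⁻¹ * (l⁻¹ * v * l)⁻¹) * l⁻¹ = g * v * g⁻¹ * v⁻¹ := by
      group
    rwa [e2] at h6

/-- (1.1): `[Z₀, J_L] ≤ W` -/
theorem gen_le_K (h : In T W L l₂ l₃) : jj T ⊔ cj l₂ (jj T) ⊔ cj l₃ (jj T) ≤ h.K :=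
  sup_le (sup_le h.jj_le_K (h.cj_le_K h.l2)) (h.cj_le_K h.l3)

theorem L_le_K (h : In T W L l₂ l₃) : L ≤ h.K := h.gen.trans h.gen_le_K

/-- (1.1) -/
theorem comm (h : In T W L l₂ l₃) {g v : G} (hg : g ∈ L ⊔ jj T) (hv : v ∈ z0 T W) : g * v * g⁻¹ * v⁻¹ ∈ W :=
  ((sup_le h.L_le_K h.jj_le_K : L ⊔ jj T ≤ h.K) hg).2.2 v hv

/-- (1.2): every coset `v W`, `v ∈ Z_J`, contains an element centralised by `L J` -/
theorem exists_fix (h : In T W L l₂ l₃) {v : G} (hv : v ∈ zj T) :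
    ∃ u ∈ zj T, u ∈ centralizer ((L ⊔ jj T : Subgroup G) : Set G) ∧ v * u⁻¹ ∈ W := by
  have hv0 := h.zj_le hv
  have hvJ : v ∈ centralizer (jj T : Set G) := mem_centralizer_iff.2 fun y hy => (mem_zj.1 hv).2.2 y hy
  -- conjugates of `v`
  have hcon : ∀ l ∈ L, l * v * l⁻¹ ∈ z0 T W ∧ l * v * l⁻¹ ∈ centralizer (cj l (jj T) : Set G) ∧
      l * v * l⁻¹ * v⁻¹ ∈ W := fun l hl => by
    refine ⟨(mem_normalizer_iff.1 (h.L_norm_z0 hl) v).1 hv0, ?_, (h.L_le_K hl).2.2 v hv0⟩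
    rw [← cj_centralizer, mem_cj]
    have e : l⁻¹ * (l * v * l⁻¹) * l = v := by group
    rwa [e]
  obtain ⟨a2, b2, c2⟩ := hcon l₂ h.l2
  obtain ⟨a3, b3, c3⟩ := hcon l₃ h.l3
  obtain ⟨v₂, hv₂⟩ : ∃ v₂, v₂ = l₂ * v * l₂⁻¹ := ⟨_, rfl⟩
  obtain ⟨v₃, hv₃⟩ : ∃ v₃, v₃ = l₃ * v * l₃⁻¹ := ⟨_, rfl⟩
  rw [← hv₂] at a2 b2 c2
  rw [← hv₃] at a3 b3 c3
  have hcomm : ∀ X : Subgroup G, W ⊓ X ≤ normalizer ((W ⊓ X : Subgroup G) : Set G) := fun X => le_normalizer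
  have hsup : ∀ X Y : Subgroup G, ∀ w ∈ (W ⊓ X) ⊔ (W ⊓ Y), ∃ a ∈ W ⊓ X, ∃ b ∈ W ⊓ Y, w = a * b := by
    intro X Y w hw
    have h1 : W ⊓ X ≤ normalizer ((W ⊓ Y : Subgroup G) : Set G) := by
      refine le_trans (fun a ha => ?_) (centralizer_le_normalizer _)
      exact mem_centralizer_iff.2 fun b hb => comm_of_sq h.wsq hb.1 ha.1
    obtain ⟨a, ha, b, hb, rfl⟩ := MinSimple.FFBlock.mem_sup_of_le_normalizer h1 hw
    exact ⟨a, ha, b, hb, rfl⟩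
  obtain ⟨w₁, hw₁, w₂, hw₂, e12⟩ := hsup _ _ _ (h.s12 c2)
  obtain ⟨w₁', hw₁', w₃, hw₃, e13⟩ := hsup _ _ _ (h.s13 c3)
  have hWz := h.W_le_z0
  have cm : ∀ {a b : G}, a ∈ z0 T W → b ∈ z0 T W → a * b = b * a := fun ha hb => h.z0_comm ha hb
  have hd : w₁ * w₁'⁻¹ ∈ W ⊓ centralizer (jj T : Set G) := mul_mem hw₁ (inv_mem hw₁')
  have hd' := h.s123 hd
  have h7 : ∃ a ∈ W ⊓ centralizer (jj T : Set G) ⊓ centralizer (cj l₂ (jj T) : Set G),
      ∃ b ∈ W ⊓ centralizer (jj T : Set G) ⊓ centralizer (cj l₃ (jj T) : Set G), w₁ * w₁'⁻¹ = a * b := by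
    rw [inf_assoc, inf_assoc] at hd' ⊢
    exact hsup _ _ _ hd'
  obtain ⟨a, ha, b, hb, eab⟩ := h7
  -- `u = a⁻¹ w₁ v = b w₁' v`
  have z1 := hWz hw₁.1
  have z1' := hWz hw₁'.1
  have z2 := hWz hw₂.1
  have z3 := hWz hw₃.1
  have za := hWz ha.1.1
  have zb := hWz hb.1.1
  have e12' : w₁ * v = w₂⁻¹ * v₂ := by
    have h8 : v₂ = w₁ * w₂ * v := by rw [← e12]; group
    rw [h8, cm z1 z2]; group
  have e13' : w₁' * v = w₃⁻¹ * v₃ := by
    have h8 : v₃ = w₁' * w₃ * v := by rw [← e13]; group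
    rw [h8, cm z1' z3]; group
  have eu : a⁻¹ * (w₁ * v) = b * (w₁' * v) := by
    have h9 : w₁ = a * b * w₁' := by rw [← eab]; group
    rw [h9]; group
  obtain ⟨u, hu⟩ : ∃ u, u = a⁻¹ * (w₁ * v) := ⟨_, rfl⟩
  have hu0 : u ∈ z0 T W := by rw [hu]; exact mul_mem (inv_mem za) (mul_mem z1 hv0)
  have u1 : u ∈ centralizer (jj T : Set G) := by
    rw [hu]; exact mul_mem (inv_mem ha.1.2) (mul_mem hw₁.2 hvJ)
  have u2 : u ∈ centralizer (cj l₂ (jj T) : Set G) := by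
    rw [hu, e12']; exact mul_mem (inv_mem ha.2) (mul_mem (inv_mem hw₂.2) b2)
  have u3 : u ∈ centralizer (cj l₃ (jj T) : Set G) := by
    rw [hu, eu, e13']; exact mul_mem hb.2 (mul_mem (inv_mem hw₃.2) b3)
  have hall : jj T ⊔ cj l₂ (jj T) ⊔ cj l₃ (jj T) ≤ centralizer ({u} : Set G) := by
    refine sup_le (sup_le ?_ ?_) ?_ <;> intro g hg <;> rw [mem_centralizer_iff] <;> rintro _ rfl
    · exact (mem_centralizer_iff.1 u1 g hg).symm
    · exact (mem_centralizer_iff.1 u2 g hg).symm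
    · exact (mem_centralizer_iff.1 u3 g hg).symm
  refine ⟨u, h.mem_zj_of hu0 u1, ?_, ?_⟩
  · have h10 : L ⊔ jj T ≤ centralizer ({u} : Set G) :=
      sup_le (h.gen.trans hall) ((le_sup_left.trans le_sup_left).trans hall)
    exact mem_centralizer_iff.2 fun g hg => (mem_centralizer_iff.1 (h10 hg) u rfl).symm
  · have e : v * u⁻¹ = w₁⁻¹ * a := by
      rw [hu, mul_inv_rev, mul_inv_rev, inv_inv, ← mul_assoc, ← mul_assoc, mul_inv_cancel, one_mul]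
    rw [e]
    exact mul_mem (inv_mem hw₁.1) ha.1.1

/-- `W_J = C_W(J)` -/
abbrev wj (T W : Subgroup G) : Subgroup G := W ⊓ centralizer (jj T : Set G)

/-- `I = C_{Z_J}(L J)` -/
abbrev ii (T L : Subgroup G) : Subgroup G := zj T ⊓ centralizer ((L ⊔ jj T : Subgroup G) : Set G)

theorem wj_le (h : In T W L l₂ l₃) : wj T W ≤ zj T := fun _ hw => h.mem_zj_of (h.W_le_z0 hw.1) hw.2

/-- (1.2): `v = w u`, `w ∈ W_J`, `u ∈ I` -/
theorem exists_mul (h : In T W L l₂ l₃) {v : G} (hv : v ∈ zj T) : ∃ w ∈ wj T W, ∃ u ∈ ii T L, v = w * u := by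
  obtain ⟨u, hu, huc, hw⟩ := h.exists_fix hv
  have hc : zj T ≤ centralizer (jj T : Set G) := fun a ha =>
    mem_centralizer_iff.2 fun y hy => (mem_zj.1 ha).2.2 y hy
  exact ⟨v * u⁻¹, ⟨hw, hc (mul_mem hv (inv_mem hu))⟩, u, ⟨hu, huc⟩, by group⟩

/-- **(1.2)** `Z_J = W_J I` -/
theorem zj_eq (h : In T W L l₂ l₃) : zj T = wj T W ⊔ ii T L := by
  apply le_antisymm
  · intro v hv
    obtain ⟨w, hw, u, hu, rfl⟩ := h.exists_mul hv
    exact mul_mem (mem_sup_left hw) (mem_sup_right hu)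
  · exact sup_le h.wj_le inf_le_left

theorem zj_comm (h : In T W L l₂ l₃) {a b : G} (ha : a ∈ zj T) (hb : b ∈ zj T) : a * b = b * a :=
  h.z0_comm (h.zj_le ha) (h.zj_le hb)

section x

variable {x : G}

/-- `W_J ∩ I = 1`, if `C_{W_J}(x) = 1` -/
theorem disj (hx : x ∈ L) (h1 : ∀ w ∈ wj T W, x * w = w * x → w = 1) : wj T W ⊓ ii T L = ⊥ := by
  rw [eq_bot_iff]
  rintro w ⟨hw, hi⟩
  rw [mem_bot]
  exact h1 w hw (mem_centralizer_iff.1 hi.2 x (mem_sup_left hx))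

/-- **(1.2)** `I = C_{Z_J}(x)`, if `C_{W_J}(x) = 1` -/
theorem inv_eq (h : In T W L l₂ l₃) (hx : x ∈ L) (h1 : ∀ w ∈ wj T W, x * w = w * x → w = 1) :
    zj T ⊓ centralizer ({x} : Set G) = ii T L := by
  apply le_antisymm
  · rintro v ⟨hv, hvx⟩
    obtain ⟨w, hw, u, hu, rfl⟩ := h.exists_mul hv
    have h2 : x * (w * u) = w * u * x := mem_centralizer_iff.1 hvx x rfl
    have h3 : x * u = u * x := mem_centralizer_iff.1 hu.2 x (mem_sup_left hx)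
    have h4 : x * w = w * x := by
      have h5 : x * w * u = w * x * u := by
        calc x * w * u = x * (w * u) := mul_assoc _ _ _
          _ = w * (u * x) := by rw [h2, mul_assoc]
          _ = w * x * u := by rw [← h3, mul_assoc]
      exact mul_right_cancel h5
    rw [h1 w hw h4, one_mul]
    exact hu
  · rintro v ⟨hv, hvc⟩
    refine ⟨hv, mem_centralizer_iff.2 ?_⟩
    rintro _ rfl
    exact mem_centralizer_iff.1 hvc _ (mem_sup_left hx)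

/-- `x ∈ N_L(J)` normalises `W_J` -/
theorem x_norm (h : In T W L l₂ l₃) (hx : x ∈ L) (hxJ : x ∈ normalizer (jj T : Set G)) :
    x ∈ normalizer (wj T W : Set G) := by
  rw [mem_normalizer_iff_cj, cj_inf, cj_centralizer, cj_eq_of_mem_normalizer (h.LW hx), cj_eq_of_mem_normalizer hxJ]

/-- **(1.2)** `[Z_J, x] ≤ W_J` -/
theorem comm_mem (h : In T W L l₂ l₃) (hx : x ∈ L) (hxJ : x ∈ normalizer (jj T : Set G)) {v : G} (hv : v ∈ zj T) :
    x * v * x⁻¹ * v⁻¹ ∈ wj T W := by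
  obtain ⟨w, hw, u, hu, rfl⟩ := h.exists_mul hv
  have h3 : x * u = u * x := mem_centralizer_iff.1 hu.2 x (mem_sup_left hx)
  have e : x * (w * u) * x⁻¹ * (w * u)⁻¹ = (x * w * x⁻¹) * w⁻¹ := by
    calc x * (w * u) * x⁻¹ * (w * u)⁻¹ = x * w * (u * x⁻¹) * u⁻¹ * w⁻¹ := by group
      _ = x * w * (x⁻¹ * u) * u⁻¹ * w⁻¹ := by
          congr 3
          calc u * x⁻¹ = x⁻¹ * (x * u) * x⁻¹ := by group
            _ = x⁻¹ * u := by rw [h3]; group
      _ = (x * w * x⁻¹) * w⁻¹ := by group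
  rw [e]
  exact mul_mem ((mem_normalizer_iff.1 (h.x_norm hx hxJ) w).1 hw) (inv_mem hw)

/-- **(1.2)** `W_J ≤ [W_J, x]` -/
theorem exists_comm (h : In T W L l₂ l₃) (hx : x ∈ L) (hxJ : x ∈ normalizer (jj T : Set G))
    (h1 : ∀ w ∈ wj T W, x * w = w * x → w = 1) {w : G} (hw : w ∈ wj T W) :
    ∃ v ∈ wj T W, w = x * v * x⁻¹ * v⁻¹ := by
  have hn := h.x_norm hx hxJ
  let f : wj T W → wj T W := fun v => ⟨x * v * x⁻¹ * (v : G)⁻¹,
    mul_mem ((mem_normalizer_iff.1 hn v).1 v.2) (inv_mem v.2)⟩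
  have hf : Function.Injective f := by
    intro a b hab
    have h2 : x * (a : G) * x⁻¹ * (a : G)⁻¹ = x * b * x⁻¹ * (b : G)⁻¹ := congrArg Subtype.val hab
    have hab' : (a : G) * b = b * a := comm_of_sq h.wsq a.2.1 b.2.1
    have h3 : (b : G)⁻¹ * a = 1 := by
      apply h1 _ (mul_mem (inv_mem b.2) a.2)
      have h4 : x * ((b : G)⁻¹ * a) * x⁻¹ = (b : G)⁻¹ * a := by
        calc x * ((b : G)⁻¹ * a) * x⁻¹ = (x * b * x⁻¹)⁻¹ * (x * a * x⁻¹ * (a : G)⁻¹) * a := by group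
          _ = (x * b * x⁻¹)⁻¹ * (x * b * x⁻¹ * (b : G)⁻¹) * a := by rw [h2]
          _ = (b : G)⁻¹ * a := by group
      calc x * ((b : G)⁻¹ * a) = (x * ((b : G)⁻¹ * a) * x⁻¹) * x := by group
        _ = (b : G)⁻¹ * a * x := by rw [h4]
    exact Subtype.ext (inv_mul_eq_one.1 h3).symm
  obtain ⟨v, hv⟩ := Finite.surjective_of_injective hf ⟨w, hw⟩
  exact ⟨v, v.2, (congrArg Subtype.val hv).symm⟩

end x

end In

end Cfsg.Agent.OddCyclic.BcP.Coset
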