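import Cfsg.Agent.OddCyclic.BcP.MAb
import Cfsg.Agent.OddCyclic.BcP.FinDef

/-!
# S0342, leaf [Bc], (D4): (3.1)-(3.3) of blueprints/S0342-Bc-helper108.md

`Hyp S Z V ξ` (group level): `Z = zc S`, `V = Z × Z^ξ`, `N(J) = ⟨ξ⟩ (N(J) ∩ C(Z))`. `C = C_G(Z)`, `D = C_G(V)`.

* `cent_eq` (3.1): `C_G(z) = C` for `z ∈ Z#`.   `fp` (FP): `C_C(v) = D` for `v ∈ V - Z`.
* `fus` (3.2): `v ∈ V - Z`, `c ∈ C`, `v^c ∈ V` ⇒ `c ∈ N(V)`.
* `c0_le`: `N_C(V) = D S`; `comm`: `[V, N_C(V)] ≤ Z`; `three`: `N_C(V)` is a 3'-group.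
* `M_le`, `M_comm`, `ab`, `sq'` (3.3): `M = ⟨V^C⟩ ≤ O₂(C)` is elementary abelian, `[M, O₂(C)] ≤ Z`.
-/

set_option autoImplicit false
set_option linter.unusedSectionVars false

namespace Cfsg.Agent.OddCyclic.BcP.D4A

open Subgroup Cfsg Cfsg.Agent.ZN Cfsg.Agent.ZN.ChoiceBase Cfsg.Agent.MinSimple
open Cfsg.Agent.MinSimple.LemX (nc le_nc nc_le le_normalizer_nc)
open Cfsg.Agent.OddCyclic.RedFinal (NoBlk)
open Cfsg.Agent.OddCyclic.BcP.MAb (cj_le_nc nc_le_iff)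

universe u

variable {G : Type u} [Group G]

/-- the (D4) situation: `Z = Ω₁Z(S)`, `V = Z × Z^ξ`, `N(J) = ⟨ξ⟩ (N(J) ∩ C(Z))` -/
structure Hyp (S : Sylow 2 G) (Z V : Subgroup G) (ξ : G) : Prop where
  nb : NoBlk S
  Z_eq : zc (S : Subgroup G) = Z
  ZV : Z ≤ V
  sq : ∀ v ∈ V, v * v = 1
  JV : jj (S : Subgroup G) ≤ centralizer (V : Set G)
  NJ : normalizer (jj (S : Subgroup G) : Set G) ≤ normalizer (V : Set G)
  SV : ∀ s ∈ (S : Subgroup G), ∀ v ∈ V, s * v * s⁻¹ * v⁻¹ ∈ Z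
  split : ∀ v ∈ V, ∃ a ∈ Z, ∃ b ∈ Z, v = a * (ξ * b * ξ⁻¹)
  ξJ : ξ ∈ normalizer (jj (S : Subgroup G) : Set G)
  ξ3 : orderOf ξ = 3
  disj : ∀ z ∈ Z, ξ * z * ξ⁻¹ ∈ Z → z = 1
  four : ∃ a ∈ Z, ∃ b ∈ Z, a ≠ 1 ∧ b ≠ 1 ∧ a ≠ b
  six : ∀ g ∈ normalizer (jj (S : Subgroup G) : Set G), ∃ k ∈ zpowers ξ, ∀ z ∈ Z, (k * g) * z = z * (k * g)
  cz : ∀ g ∈ normalizer (jj (S : Subgroup G) : Set G), ∀ z ∈ Z, z ≠ 1 → g * z = z * g → ∀ z' ∈ Z, g * z' = z' * g

open scoped Classical in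
theorem three_pow {ξ k : G} (h3 : orderOf ξ = 3) (hk : k ∈ zpowers ξ) : k = 1 ∨ k = ξ ∨ k = ξ⁻¹ := by
  have hf : IsOfFinOrder ξ := by
    rw [← orderOf_pos_iff, h3]; norm_num
  rw [hf.mem_zpowers_iff_mem_range_orderOf, h3] at hk
  obtain ⟨n, hn, rfl⟩ := Finset.mem_image.1 hk
  rw [Finset.mem_range] at hn
  interval_cases n
  · left; exact pow_zero ξ
  · right; left; exact pow_one ξ
  · right; right
    have h1 := pow_orderOf_eq_one ξ
    rw [h3, pow_succ] at h1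
    exact eq_inv_of_mul_eq_one_left h1

namespace Hyp

variable {S : Sylow 2 G} {Z V : Subgroup G} {ξ : G}

theorem comm_V (h : Hyp S Z V ξ) {a b : G} (ha : a ∈ V) (hb : b ∈ V) : a * b = b * a := by
  have h1 := h.sq _ (mul_mem ha hb)
  have h2 := h.sq a ha
  have h3 := h.sq b hb
  have h4 : a⁻¹ = a := inv_eq_of_mul_eq_one_left h2
  have h5 : b⁻¹ = b := inv_eq_of_mul_eq_one_left h3
  have h6 : (a * b)⁻¹ = a * b := inv_eq_of_mul_eq_one_left h1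
  rw [mul_inv_rev, h4, h5] at h6
  exact h6.symm

theorem S_le (h : Hyp S Z V ξ) : (S : Subgroup G) ≤ centralizer (Z : Set G) := by
  intro s hs
  rw [mem_centralizer_iff]
  intro z hz
  rw [SetLike.mem_coe, ← h.Z_eq] at hz
  exact (Block.zc_comm hs hz).symm

theorem SV' (h : Hyp S Z V ξ) : (S : Subgroup G) ≤ normalizer (V : Set G) := by
  refine Block.le_normalizer_of_forall fun s hs v hv => ?_
  have e : s * v * s⁻¹ = (s * v * s⁻¹ * v⁻¹) * v := by group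
  rw [e]
  exact mul_mem (h.ZV (h.SV s hs v hv)) hv

theorem ξ_not (h : Hyp S Z V ξ) : ξ ∉ centralizer (Z : Set G) := by
  intro h1
  obtain ⟨a, ha, -, -, ha1, -, -⟩ := h.four
  apply ha1
  apply h.disj a ha
  have h2 := mem_centralizer_iff.1 h1 a ha
  rw [← h2, mul_inv_cancel_right]
  exact ha

theorem mem_V (h : Hyp S Z V ξ) {z : G} (hz : z ∈ Z) : ξ * z * ξ⁻¹ ∈ V :=
  (mem_normalizer_iff.1 (h.NJ h.ξJ) z).1 (h.ZV hz)

/-- `c ∈ C(Z)` centralises `V` if it centralises `Z^ξ` -/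
theorem mem_D (h : Hyp S Z V ξ) {c : G} (hc : c ∈ centralizer (Z : Set G))
    (h1 : ξ⁻¹ * c * ξ ∈ centralizer (Z : Set G)) : c ∈ centralizer (V : Set G) := by
  rw [mem_centralizer_iff]
  intro v hv
  obtain ⟨a, ha, b, hb, rfl⟩ := h.split v hv
  have h2 := mem_centralizer_iff.1 hc a ha
  have h3 := mem_centralizer_iff.1 h1 b hb
  calc a * (ξ * b * ξ⁻¹) * c = a * ξ * (b * (ξ⁻¹ * c * ξ)) * ξ⁻¹ := by group
    _ = (a * c) * (ξ * b * ξ⁻¹) := by rw [h3]; group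
    _ = c * (a * (ξ * b * ξ⁻¹)) := by rw [h2]; group

theorem D_le (h : Hyp S Z V ξ) : centralizer (V : Set G) ≤ centralizer (Z : Set G) := centralizer_le h.ZV

theorem DV (_ : Hyp S Z V ξ) : centralizer (V : Set G) ≤ normalizer (V : Set G) := centralizer_le_normalizer _

theorem NV (_ : Hyp S Z V ξ) : normalizer (V : Set G) ≤ normalizer (centralizer (V : Set G) : Set G) := by
  refine Block.le_normalizer_of_forall fun g hg c hc => ?_
  rw [mem_centralizer_iff]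
  intro v hv
  have h1 := mem_centralizer_iff.1 hc _ ((mem_normalizer_iff''.1 hg v).1 hv)
  calc v * (g * c * g⁻¹) = g * ((g⁻¹ * v * g) * c) * g⁻¹ := by group
    _ = g * (c * (g⁻¹ * v * g)) * g⁻¹ := by rw [h1]
    _ = g * c * g⁻¹ * v := by group

theorem D_conj (_ : Hyp S Z V ξ) {d v : G} (hd : d ∈ centralizer (V : Set G)) (hv : v ∈ V) : d * v * d⁻¹ = v := by
  rw [← mem_centralizer_iff.1 hd v hv]; group

/-! ### `B = N(J) ∩ C(Z)` -/

/-- `n ∈ B - D`: `ξ n ξ ∈ C(Z)` -/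
theorem flip (h : Hyp S Z V ξ) {n : G} (hn : n ∈ normalizer (jj (S : Subgroup G) : Set G))
    (hnZ : n ∈ centralizer (Z : Set G)) (hnD : n ∉ centralizer (V : Set G)) : ξ * n * ξ ∈ centralizer (Z : Set G) := by
  obtain ⟨k, hk, hkz⟩ := h.six (n * ξ) (mul_mem hn h.ξJ)
  have h1 : k * (n * ξ) ∈ centralizer (Z : Set G) := by
    rw [mem_centralizer_iff]
    exact fun z hz => (hkz z hz).symm
  rcases three_pow h.ξ3 hk with rfl | rfl | rfl
  · exfalso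
    rw [one_mul] at h1
    apply h.ξ_not
    have e : ξ = n⁻¹ * (n * ξ) := by group
    rw [e]
    exact mul_mem (inv_mem hnZ) h1
  · rw [mul_assoc]; exact h1
  · exfalso
    apply hnD
    refine h.mem_D hnZ ?_
    rw [mul_assoc]; exact h1

/-- `B / (B ∩ D)` has order at most 2 -/
theorem two (h : Hyp S Z V ξ) {m n : G} (hm : m ∈ normalizer (jj (S : Subgroup G) : Set G))
    (hmZ : m ∈ centralizer (Z : Set G)) (hmD : m ∉ centralizer (V : Set G))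
    (hn : n ∈ normalizer (jj (S : Subgroup G) : Set G))
    (hnZ : n ∈ centralizer (Z : Set G)) (hnD : n ∉ centralizer (V : Set G)) : m * n ∈ centralizer (V : Set G) := by
  have h1 := h.flip hn hnZ hnD
  have h2 := h.flip (inv_mem hm) (inv_mem hmZ) (fun h3 => hmD (by simpa using inv_mem h3))
  refine h.mem_D (mul_mem hmZ hnZ) ?_
  have e : ξ⁻¹ * (m * n) * ξ = (ξ * m⁻¹ * ξ)⁻¹ * (ξ * n * ξ) := by group
  rw [e]
  exact mul_mem (inv_mem h2) h1

theorem sqD (h : Hyp S Z V ξ) {n : G} (hn : n ∈ normalizer (jj (S : Subgroup G) : Set G))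
    (hnZ : n ∈ centralizer (Z : Set G)) : n * n ∈ centralizer (V : Set G) := by
  by_cases hnD : n ∈ centralizer (V : Set G)
  · exact mul_mem hnD hnD
  · exact h.two hn hnZ hnD hn hnZ hnD

section fin

variable [Finite G]

theorem S_NJ (_ : Hyp S Z V ξ) : (S : Subgroup G) ≤ normalizer (jj (S : Subgroup G) : Set G) :=
  ZN.le_normalizer_jj _

theorem syl (_ : Hyp S Z V ξ) {X : Subgroup G} (hX : (S : Subgroup G) ≤ X) : ¬ 2 ∣ (S : Subgroup G).relIndex X := by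
  have hf : Fact (Nat.Prime 2) := ⟨Nat.prime_two⟩
  intro h1
  apply S.not_dvd_index
  rw [← relIndex_mul_index hX]
  exact Dvd.dvd.mul_right h1 _

/-- `N(D) = D N(J)` -/
theorem exists_dn (h : Hyp S Z V ξ) {c : G} (hc : c ∈ normalizer (centralizer (V : Set G) : Set G)) :
    ∃ d ∈ centralizer (V : Set G), ∃ n ∈ normalizer (jj (S : Subgroup G) : Set G), c = d * n := by
  have hS : (S : Subgroup G) ≤ normalizer (centralizer (V : Set G) : Set G) := h.SV'.trans h.NV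
  have h1 := Basic.frattini_jj hS S.isPGroup' (h.syl hS) le_rfl h.JV hc
  rw [sup_comm] at h1
  obtain ⟨n, hn, d, hd, hnd⟩ := FFBlock.mem_sup_of_le_normalizer (inf_le_left) (inv_mem h1)
  refine ⟨d⁻¹, inv_mem hd, n⁻¹, inv_mem hn.2, ?_⟩
  rw [← mul_inv_rev, ← hnd, inv_inv]

/-- `B ≤ D S` -/
theorem B_le (h : Hyp S Z V ξ) : normalizer (jj (S : Subgroup G) : Set G) ⊓ centralizer (Z : Set G) ≤
    centralizer (V : Set G) ⊔ (S : Subgroup G) := by
  obtain ⟨B, hB⟩ : ∃ B, B = normalizer (jj (S : Subgroup G) : Set G) ⊓ centralizer (Z : Set G) := ⟨_, rfl⟩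
  rw [← hB]
  have hBn : B ≤ normalizer (centralizer (V : Set G) : Set G) := by
    rw [hB]; exact inf_le_left.trans (h.NJ.trans h.NV)
  have hSB : (S : Subgroup G) ≤ B := by rw [hB]; exact le_inf h.S_NJ h.S_le
  have hN : ((centralizer (V : Set G)).subgroupOf B).Normal := normal_subgroupOf_of_le_normalizer hBn
  have h2 : IsPGroup 2 (B ⧸ (centralizer (V : Set G)).subgroupOf B) := by
    intro q
    induction q using QuotientGroup.induction_on with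
    | H b =>
      refine ⟨1, ?_⟩
      rw [pow_one, ← QuotientGroup.mk_pow, QuotientGroup.eq_one_iff, mem_subgroupOf, pow_two]
      have hb : (b : G) ∈ normalizer (jj (S : Subgroup G) : Set G) ⊓ centralizer (Z : Set G) := by rw [← hB]; exact b.2
      exact h.sqD hb.1 hb.2
  obtain ⟨k, hk⟩ := (IsPGroup.iff_card (p := 2)).1 h2
  have h3 : (centralizer (V : Set G)).relIndex B = 2 ^ k := hk
  have h4 : (centralizer (V : Set G) ⊔ (S : Subgroup G)).relIndex B ∣ 2 ^ k := by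
    rw [← h3]; exact relIndex_dvd_of_le_left _ le_sup_left
  have h5 : (centralizer (V : Set G) ⊔ (S : Subgroup G)).relIndex B ∣ (S : Subgroup G).relIndex B :=
    relIndex_dvd_of_le_left _ le_sup_right
  have h6 : ¬ 2 ∣ (centralizer (V : Set G) ⊔ (S : Subgroup G)).relIndex B := fun h7 => h.syl hSB (h7.trans h5)
  obtain ⟨j, -, hj⟩ := (Nat.dvd_prime_pow Nat.prime_two).1 h4
  have h7 : j = 0 := by
    by_contra hj0
    apply h6
    rw [hj]
    exact dvd_pow_self 2 hj0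
  rw [h7, pow_zero] at hj
  exact relIndex_eq_one.1 hj

/-- `N_C(V) = D S` -/
theorem c0_le (h : Hyp S Z V ξ) {c : G} (hc : c ∈ centralizer (Z : Set G)) (hcV : c ∈ normalizer (V : Set G)) :
    ∃ d ∈ centralizer (V : Set G), ∃ s ∈ (S : Subgroup G), c = d * s := by
  obtain ⟨d, hd, n, hn, rfl⟩ := h.exists_dn (h.NV hcV)
  have hnZ : n ∈ centralizer (Z : Set G) := by
    have e : n = d⁻¹ * (d * n) := by group
    rw [e]; exact mul_mem (inv_mem (h.D_le hd)) hc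
  have h1 := h.B_le ⟨hn, hnZ⟩
  rw [sup_comm] at h1
  obtain ⟨s, hs, d', hd', hsd⟩ := FFBlock.mem_sup_of_le_normalizer (h.SV'.trans h.NV) (inv_mem h1)
  refine ⟨d * d'⁻¹, mul_mem hd (inv_mem hd'), s⁻¹, inv_mem hs, ?_⟩
  rw [mul_assoc, ← mul_inv_rev, ← hsd, inv_inv]

/-- `[V, N_C(V)] ≤ Z` -/
theorem comm (h : Hyp S Z V ξ) : ∀ c ∈ centralizer (Z : Set G), c ∈ normalizer (V : Set G) → ∀ v ∈ V,
    c * v * c⁻¹ * v⁻¹ ∈ Z := by
  intro c hc hcV v hv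
  obtain ⟨d, hd, s, hs, rfl⟩ := h.c0_le hc hcV
  have hsv : s * v * s⁻¹ ∈ V := (mem_normalizer_iff.1 (h.SV' hs) v).1 hv
  have e : d * s * v * (d * s)⁻¹ * v⁻¹ = (d * (s * v * s⁻¹) * d⁻¹) * v⁻¹ := by group
  rw [e, h.D_conj hd hsv]
  exact h.SV s hs v hv

/-- `D` is a 3'-group -/
theorem three_D (h : Hyp S Z V ξ) : ¬ 3 ∣ Nat.card (centralizer (V : Set G)) := by
  intro h3
  apply h.ξ_not
  apply h.D_le
  exact UniStruct.mem_of_normal h.nb.cx.cyc h.DV h.NV Nat.prime_three (by norm_num) h3 (h.NJ h.ξJ) h.ξ3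

/-- `N_C(V)` is a 3'-group -/
theorem three (h : Hyp S Z V ξ) : ∀ c ∈ centralizer (Z : Set G), c ∈ normalizer (V : Set G) → orderOf c ≠ 3 := by
  intro c hc hcV hc3
  obtain ⟨d, hd, s, hs, rfl⟩ := h.c0_le hc hcV
  have h1 : (d * s) * (d * s) ∈ centralizer (V : Set G) := by
    have e : (d * s) * (d * s) = d * (s * d * s⁻¹) * (s * s) := by group
    rw [e]
    exact mul_mem (mul_mem hd ((mem_normalizer_iff.1 ((h.SV'.trans h.NV) hs) d).1 hd)) (h.sqD (h.S_NJ hs) (h.S_le hs))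
  have h2 : d * s ∈ centralizer (V : Set G) := by
    have h3 := pow_orderOf_eq_one (d * s)
    rw [hc3, pow_succ, pow_two] at h3
    rw [← inv_inv (d * s), ← eq_inv_of_mul_eq_one_left h3]
    exact inv_mem h1
  apply h.three_D
  rw [← hc3, ← Subgroup.orderOf_mk _ h2]
  exact orderOf_dvd_natCard _

/-! ### (3.1), (FP), (3.2) -/

/-- (3.1) -/
theorem cent_eq (h : Hyp S Z V ξ) {z : G} (hz : z ∈ Z) (hz1 : z ≠ 1) :
    centralizer ({z} : Set G) = centralizer (Z : Set G) := by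
  have h1 := MAb.cent_eq h.nb (z := z) (by rw [h.Z_eq]; exact hz) hz1 (by
    rintro g ⟨hg, hgJ⟩
    rw [h.Z_eq, mem_centralizer_iff]
    intro z' hz'
    exact (h.cz g hgJ z hz hz1 (mem_centralizer_singleton_iff.1 hg) z' hz').symm)
  rwa [h.Z_eq] at h1

/-- (FP) -/
theorem fp (h : Hyp S Z V ξ) {c v : G} (hc : c ∈ centralizer (Z : Set G)) (hv : v ∈ V) (hvZ : v ∉ Z)
    (hcv : c * v = v * c) : c ∈ centralizer (V : Set G) := by
  obtain ⟨a, ha, b, hb, rfl⟩ := h.split v hv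
  have hb1 : b ≠ 1 := by
    rintro rfl
    apply hvZ
    rw [mul_one, mul_inv_cancel, mul_one]
    exact ha
  refine h.mem_D hc ?_
  rw [← h.cent_eq hb hb1, mem_centralizer_singleton_iff]
  have h1 := mem_centralizer_iff.1 hc a ha
  have h2 : c * (ξ * b * ξ⁻¹) = (ξ * b * ξ⁻¹) * c := by
    calc c * (ξ * b * ξ⁻¹) = a⁻¹ * (a * c) * (ξ * b * ξ⁻¹) := by group
      _ = a⁻¹ * (c * (a * (ξ * b * ξ⁻¹))) := by rw [h1]; group
      _ = (ξ * b * ξ⁻¹) * c := by rw [hcv]; group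
  calc ξ⁻¹ * c * ξ * b = ξ⁻¹ * (c * (ξ * b * ξ⁻¹)) * ξ := by group
    _ = b * (ξ⁻¹ * c * ξ) := by rw [h2]; group

/-- (3.2) -/
theorem fus (h : Hyp S Z V ξ) : ∀ c ∈ centralizer (Z : Set G), ∀ v ∈ V, v ∉ Z → c * v * c⁻¹ ∈ V →
    c ∈ normalizer (V : Set G) := by
  intro c hc v hv hvZ hcv
  have hcv' : c * v * c⁻¹ ∉ Z := by
    intro h1
    apply hvZ
    have h2 := mem_centralizer_iff.1 hc _ h1
    have e : v = c⁻¹ * ((c * v * c⁻¹) * c) := by group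
    rw [e, h2, inv_mul_cancel_left]
    exact h1
  have hcD : c ∈ normalizer (centralizer (V : Set G) : Set G) := by
    rw [mem_normalizer_iff]
    intro d
    constructor
    · intro hd
      refine h.fp (mul_mem (mul_mem hc (h.D_le hd)) (inv_mem hc)) hcv hcv' ?_
      have h1 := mem_centralizer_iff.1 hd v hv
      calc c * d * c⁻¹ * (c * v * c⁻¹) = c * (d * v) * c⁻¹ := by group
        _ = c * (v * d) * c⁻¹ := by rw [h1]
        _ = c * v * c⁻¹ * (c * d * c⁻¹) := by group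
    · intro hd
      have hdC : d ∈ centralizer (Z : Set G) := by
        have e : d = c⁻¹ * (c * d * c⁻¹) * c := by group
        rw [e]
        exact mul_mem (mul_mem (inv_mem hc) (h.D_le hd)) hc
      refine h.fp hdC hv hvZ ?_
      have h1 := mem_centralizer_iff.1 hd _ hcv
      calc d * v = c⁻¹ * ((c * d * c⁻¹) * (c * v * c⁻¹)) * c := by group
        _ = c⁻¹ * ((c * v * c⁻¹) * (c * d * c⁻¹)) * c := by rw [h1]
        _ = v * d := by group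
  obtain ⟨d, hd, n, hn, rfl⟩ := h.exists_dn hcD
  exact mul_mem (h.DV hd) (h.NJ hn)

/-! ### (3.3) -/

theorem V_le_C (h : Hyp S Z V ξ) : V ≤ centralizer (Z : Set G) := by
  intro v hv
  rw [mem_centralizer_iff]
  exact fun z hz => h.comm_V (h.ZV hz) hv

theorem o2_le_S (h : Hyp S Z V ξ) : o2 (centralizer (Z : Set G)) ≤ (S : Subgroup G) :=
  ZN.o2_le_of_sylow h.S_le S.isPGroup' (h.syl h.S_le)

theorem comm_o2 (h : Hyp S Z V ξ) : ∀ v ∈ V, ∀ q ∈ o2 (centralizer (Z : Set G)), v * q * v⁻¹ * q⁻¹ ∈ Z := by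
  intro v hv q hq
  have h1 := h.SV q (h.o2_le_S hq) v hv
  have e : v * q * v⁻¹ * q⁻¹ = (q * v * q⁻¹ * v⁻¹)⁻¹ := by group
  rw [e]
  exact inv_mem h1

/-- `C` is 2-local -/
theorem isTwoLocal (h : Hyp S Z V ξ) : IsTwoLocal (centralizer (Z : Set G)) := by
  obtain ⟨a, ha, -, -, ha1, -, -⟩ := h.four
  rw [← h.cent_eq ha ha1]
  exact Geo.isTwoLocal_centralizer (h.sq a (h.ZV ha)) ha1

theorem M_le_o2 (h : Hyp S Z V ξ) : nc (centralizer (Z : Set G)) V ≤ o2 (centralizer (Z : Set G)) :=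
  MAb.M_le le_rfl (fun z hz => h.sq z (h.ZV hz)) (Geo.inf_centralizer_o2_le h.nb.cx.char2 h.isTwoLocal) h.V_le_C
    h.comm_o2

theorem M_le (h : Hyp S Z V ξ) : nc (centralizer (Z : Set G)) V ≤ (S : Subgroup G) := h.M_le_o2.trans h.o2_le_S

/-- `[M, O₂(C)] ≤ Z` -/
theorem M_comm (h : Hyp S Z V ξ) {m q : G} (hm : m ∈ nc (centralizer (Z : Set G)) V)
    (hq : q ∈ o2 (centralizer (Z : Set G))) : m * q * m⁻¹ * q⁻¹ ∈ Z := MAb.M_comm le_rfl h.V_le_C h.comm_o2 hm hq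

/-- `V^c ≤ D` for `c ∈ C` -/
theorem cj_le (h : Hyp S Z V ξ) {c : G} (hc : c ∈ centralizer (Z : Set G)) : cj c V ≤ centralizer (V : Set G) := by
  obtain ⟨a, ha, b, hb, ha1, hb1, hab⟩ := h.four
  have hV2 : V ≤ o2 (centralizer (Z : Set G)) := (le_nc _ V).trans h.M_le_o2
  have hcV : cj c V ≤ o2 (centralizer (Z : Set G)) := (cj_le_nc hc).trans h.M_le_o2
  -- products of two elements of `V` not centralising `V^c` centralise it
  have key : ∀ v ∈ V, ∀ w ∈ V, v ∉ centralizer (cj c V : Set G) → w ∉ centralizer (cj c V : Set G) →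
      v * w ∈ centralizer (cj c V : Set G) := by
    have key0 : ∀ v : G, v ∈ centralizer (cj c V : Set G) ↔ c⁻¹ * v * c ∈ centralizer (V : Set G) := by
      intro v
      rw [← ChoiceBase.mem_cj, ChoiceBase.cj_centralizer]
    intro v hv w hw hv2 hw2
    rw [key0] at hv2 hw2 ⊢
    have h1 : ∀ v ∈ V, c⁻¹ * v * c ∈ (S : Subgroup G) := fun v hv =>
      h.o2_le_S (by
        have := Block.o2_conj (inv_mem hc) (hV2 hv)
        rwa [inv_inv] at this)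
    have h2 := h.two (h.S_NJ (h1 v hv)) (h.S_le (h1 v hv)) hv2 (h.S_NJ (h1 w hw)) (h.S_le (h1 w hw)) hw2
    have e : c⁻¹ * (v * w) * c = (c⁻¹ * v * c) * (c⁻¹ * w * c) := by group
    rw [e]; exact h2
  -- an element of `V - Z` centralising `V^c`
  obtain ⟨v, hv, hvZ, hvc⟩ : ∃ v ∈ V, v ∉ Z ∧ v ∈ centralizer (cj c V : Set G) := by
    have h1 : ∀ z ∈ Z, z ≠ 1 → ξ * z * ξ⁻¹ ∉ Z := fun z hz hz1 h2 => hz1 (h.disj z hz h2)
    by_cases h2 : ξ * a * ξ⁻¹ ∈ centralizer (cj c V : Set G)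
    · exact ⟨_, h.mem_V ha, h1 a ha ha1, h2⟩
    by_cases h3 : ξ * b * ξ⁻¹ ∈ centralizer (cj c V : Set G)
    · exact ⟨_, h.mem_V hb, h1 b hb hb1, h3⟩
    refine ⟨ξ * (a * b) * ξ⁻¹, h.mem_V (mul_mem ha hb), h1 _ (mul_mem ha hb) ?_, ?_⟩
    · intro h4
      apply hab
      have h5 : b⁻¹ = b := inv_eq_of_mul_eq_one_left (h.sq b (h.ZV hb))
      rw [← h5]
      exact eq_inv_of_mul_eq_one_left h4
    · have e : ξ * (a * b) * ξ⁻¹ = (ξ * a * ξ⁻¹) * (ξ * b * ξ⁻¹) := by group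
      rw [e]
      exact key _ (h.mem_V ha) _ (h.mem_V hb) h2 h3
  intro u hu
  have huC : u ∈ centralizer (Z : Set G) := Block.o2_le _ (hcV hu)
  exact h.fp huC hv hvZ (mem_centralizer_iff.1 hvc u hu)

theorem ab' (h : Hyp S Z V ξ) : nc (centralizer (Z : Set G)) V ≤ centralizer (nc (centralizer (Z : Set G)) V : Set G) := by
  refine nc_le_iff.2 fun g hg => ?_
  rw [← le_centralizer_iff]
  refine nc_le_iff.2 fun c hc => ?_
  rw [← le_centralizer_iff]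
  rintro _ ⟨a, ha, rfl⟩
  rw [mem_centralizer_iff]
  rintro _ ⟨b, hb, rfl⟩
  have hgc : g⁻¹ * c ∈ centralizer (Z : Set G) := mul_mem (inv_mem hg) hc
  have h1 := mem_centralizer_iff.1 (h.cj_le hgc (MAb.conj_mem_cj (g := g⁻¹ * c) hb)) a ha
  show c * b * c⁻¹ * (g * a * g⁻¹) = g * a * g⁻¹ * (c * b * c⁻¹)
  calc c * b * c⁻¹ * (g * a * g⁻¹) = g * ((g⁻¹ * c * b * (g⁻¹ * c)⁻¹) * a) * g⁻¹ := by group
    _ = g * (a * (g⁻¹ * c * b * (g⁻¹ * c)⁻¹)) * g⁻¹ := by rw [h1]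
    _ = _ := by group

/-- (3.3) `M` is abelian -/
theorem ab (h : Hyp S Z V ξ) : ∀ a ∈ nc (centralizer (Z : Set G)) V, ∀ b ∈ nc (centralizer (Z : Set G)) V,
    a * b = b * a := fun _ ha b hb => (mem_centralizer_iff.1 (h.ab' ha) b hb).symm

/-- (3.3) `M` has exponent 2 -/
theorem sq' (h : Hyp S Z V ξ) : ∀ a ∈ nc (centralizer (Z : Set G)) V, a * a = 1 := by
  have h1 : nc (centralizer (Z : Set G)) V ≤
      { carrier := {x : G | x ∈ nc (centralizer (Z : Set G)) V ∧ x * x = 1}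
        one_mem' := ⟨one_mem _, by simp⟩
        mul_mem' := by
          rintro x y ⟨hx, hx2⟩ ⟨hy, hy2⟩
          refine ⟨mul_mem hx hy, ?_⟩
          calc x * y * (x * y) = x * (y * x) * y := by group
            _ = x * (x * y) * y := by rw [h.ab x hx y hy]
            _ = (x * x) * (y * y) := by group
            _ = 1 := by rw [hx2, hy2, one_mul]
        inv_mem' := by
          rintro x ⟨hx, hx2⟩
          refine ⟨inv_mem hx, ?_⟩
          rw [← mul_inv_rev, hx2, inv_one] } := by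
    refine nc_le_iff.2 fun g hg => ?_
    rintro _ ⟨w, hw, rfl⟩
    refine ⟨cj_le_nc hg ⟨w, hw, rfl⟩, ?_⟩
    show g * w * g⁻¹ * (g * w * g⁻¹) = 1
    calc g * w * g⁻¹ * (g * w * g⁻¹) = g * (w * w) * g⁻¹ := by group
      _ = 1 := by rw [h.sq w hw]; group
  exact fun _ ha => (h1 ha).2

end fin

end Hyp

/-! ### the instance from `Fin4` -/

section inst

variable [Finite G] {S : Sylow 2 G} {L O₁ O A : Subgroup G} {ξ x : G} {p : Fin 3 → G} {N : Fin 3 → Subgroup G}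

theorem NJ_le : normalizer (jj (S : Subgroup G) : Set G) ≤ normalizer (zj (S : Subgroup G) : Set G) := by
  refine Block.le_normalizer_of_forall fun g hg v hv => ?_
  rw [ZN.mem_zj] at hv ⊢
  obtain ⟨h1, h2, h3⟩ := hv
  refine ⟨(mem_normalizer_iff.1 hg v).1 h1, fun b hb => ?_, ?_⟩
  · have h4 := h2 _ ((mem_normalizer_iff''.1 hg b).1 hb)
    calc b * (g * v * g⁻¹) = g * ((g⁻¹ * b * g) * v) * g⁻¹ := by group
      _ = g * (v * (g⁻¹ * b * g)) * g⁻¹ := by rw [h4]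
      _ = g * v * g⁻¹ * b := by group
  · rw [conj_pow, h3]; group

/-- `[H_i, S] ≤ ⟨p_i⟩` -/
theorem comm_hh (h : Fin4 S L O₁ O A ξ x p N) {i : Fin 3} {s n : G} (hs : s ∈ (S : Subgroup G)) (hn : n ∈ hh S N i) :
    s * n * s⁻¹ = n ∨ s * n * s⁻¹ = p i * n := by
  have hsM := h.T_le_M hs
  have hsp : s * p i = p i * s := Block.zc_comm hs (h.p_mem i)
  have hsp' : s * p i * s⁻¹ = p i := by rw [hsp, mul_inv_cancel_right]
  have hp2 := h.p_sq i
  have hξ : ξ * p i * ξ⁻¹ ∈ hh S N i := h.mem_hh.2 (Or.inr (Or.inr (Or.inl rfl)))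
  -- the element `ξ p ξ⁻¹`
  have key : s * (ξ * p i * ξ⁻¹) * s⁻¹ = ξ * p i * ξ⁻¹ ∨ s * (ξ * p i * ξ⁻¹) * s⁻¹ = p i * (ξ * p i * ξ⁻¹) := by
    have h1 : s * (ξ * p i * ξ⁻¹) * s⁻¹ ∈ hh S N i := by
      refine ⟨h.conj_N hsM hξ.1, mem_centralizer_iff.2 fun j hj => ?_⟩
      have h2 : s⁻¹ * j * s ∈ jj (S : Subgroup G) :=
        (mem_normalizer_iff''.1 (ZN.le_normalizer_jj _ hs) j).1 hj
      have h3 := mem_centralizer_iff.1 hξ.2 _ h2
      calc j * (s * (ξ * p i * ξ⁻¹) * s⁻¹) = s * ((s⁻¹ * j * s) * (ξ * p i * ξ⁻¹)) * s⁻¹ := by group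
        _ = s * ((ξ * p i * ξ⁻¹) * (s⁻¹ * j * s)) * s⁻¹ := by rw [h3]
        _ = s * (ξ * p i * ξ⁻¹) * s⁻¹ * j := by group
    rcases h.mem_hh.1 h1 with h2 | h2 | h2 | h2
    · exfalso
      apply h.p_ne i
      have e : p i = ξ⁻¹ * (s⁻¹ * (s * (ξ * p i * ξ⁻¹) * s⁻¹) * s) * ξ := by group
      rw [e, h2]; group
    · exfalso
      apply (h.np i).xp
      have e : ξ * p i * ξ⁻¹ = s⁻¹ * (s * (ξ * p i * ξ⁻¹) * s⁻¹) * s := by group
      have e2 : ξ * p i * ξ⁻¹ = p i := by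
        rw [e, h2, mul_assoc, ← hsp]; group
      calc ξ * p i = (ξ * p i * ξ⁻¹) * ξ := by group
        _ = p i * ξ := by rw [e2]
    · exact Or.inl h2
    · exact Or.inr h2
  rcases h.mem_hh.1 hn with rfl | rfl | rfl | rfl
  · left; group
  · left; exact hsp'
  · exact key
  · have e : s * (p i * (ξ * p i * ξ⁻¹)) * s⁻¹ = (s * p i * s⁻¹) * (s * (ξ * p i * ξ⁻¹) * s⁻¹) := by group
    rw [e, hsp']
    rcases key with h2 | h2
    · left; rw [h2]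
    · right; rw [h2]

theorem split_hh (h : Fin4 S L O₁ O A ξ x p N) {i : Fin 3} {n : G} (hn : n ∈ hh S N i) :
    ∃ a ∈ pp p, ∃ b ∈ pp p, n = a * (ξ * b * ξ⁻¹) := by
  have hp : p i ∈ pp p := h.mem_pp.2 (Or.inr ⟨i, rfl⟩)
  rcases h.mem_hh.1 hn with rfl | rfl | rfl | rfl
  · exact ⟨1, one_mem _, 1, one_mem _, by group⟩
  · exact ⟨p i, hp, 1, one_mem _, by group⟩
  · exact ⟨1, one_mem _, p i, hp, by group⟩
  · exact ⟨p i, hp, p i, hp, rfl⟩

/-- the (D4) situation of `Fin4` -/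
theorem hyp_of (h : Fin4 S L O₁ O A ξ x p N) : Hyp S (pp p) (zj (S : Subgroup G)) ξ where
  nb := h.nb
  Z_eq := h.zc_eq
  ZV := by
    intro z hz
    rcases h.mem_pp.1 hz with rfl | ⟨i, rfl⟩
    · exact one_mem _
    · exact h.hh_le i (h.p_hh i)
  sq := fun v hv => by rw [← pow_two]; exact (ZN.mem_zj.1 hv).2.2
  JV := by
    intro j hj
    rw [mem_centralizer_iff]
    exact fun v hv => ((ZN.mem_zj.1 hv).2.1 j hj).symm
  NJ := NJ_le
  SV := by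
    intro s hs v hv
    obtain ⟨a, ha, b, hb, rfl⟩ := h.mem_zj_split (i := 0) (j := 1) (by decide) hv
    have hp : ∀ i, p i ∈ pp p := fun i => h.mem_pp.2 (Or.inr ⟨i, rfl⟩)
    have h1 : ∀ i, ∀ n ∈ hh S N i, s * n * s⁻¹ * n⁻¹ ∈ pp p := by
      intro i n hn
      rcases comm_hh h hs hn with h2 | h2
      · rw [h2, mul_inv_cancel]; exact one_mem _
      · rw [h2, mul_inv_cancel_right]; exact hp i
    have haW : a ∈ ww N := h.N_le_ww 0 ha.1
    have h2 := h1 0 a ha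
    have h3 := h1 1 b hb
    have h4 : (s * b * s⁻¹ * b⁻¹) * a⁻¹ = a⁻¹ * (s * b * s⁻¹ * b⁻¹) :=
      h.ww_comm (h.pp_le_ww h3) (inv_mem haW)
    have e : s * (a * b) * s⁻¹ * (a * b)⁻¹ = (s * a * s⁻¹ * a⁻¹) * (a * ((s * b * s⁻¹ * b⁻¹) * a⁻¹)) := by group
    rw [e, h4, mul_inv_cancel_left]
    exact mul_mem h2 h3
  split := by
    intro v hv
    obtain ⟨a, ha, b, hb, rfl⟩ := h.mem_zj_split (i := 0) (j := 1) (by decide) hv
    obtain ⟨a₁, ha₁, a₂, ha₂, rfl⟩ := split_hh h ha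
    obtain ⟨b₁, hb₁, b₂, hb₂, rfl⟩ := split_hh h hb
    refine ⟨a₁ * b₁, mul_mem ha₁ hb₁, a₂ * b₂, mul_mem ha₂ hb₂, ?_⟩
    have h1 : (ξ * a₂ * ξ⁻¹) * b₁ = b₁ * (ξ * a₂ * ξ⁻¹) :=
      h.ww_comm (h.conj_ww (h.L_le_M h.ξL) (h.pp_le_ww ha₂)) (h.pp_le_ww hb₁)
    calc a₁ * (ξ * a₂ * ξ⁻¹) * (b₁ * (ξ * b₂ * ξ⁻¹)) = a₁ * ((ξ * a₂ * ξ⁻¹) * b₁) * (ξ * b₂ * ξ⁻¹) := by group
      _ = a₁ * b₁ * (ξ * (a₂ * b₂) * ξ⁻¹) := by rw [h1]; group
  ξJ := h.ξJ
  ξ3 := h.ξ3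
  disj := by
    intro z hz hz2
    rcases h.mem_pp.1 hz with h1 | ⟨i, rfl⟩
    · exact h1
    · exfalso
      rcases h.N_inf_pp (h.conj_N (h.L_le_M h.ξL) (h.p_N i)) hz2 with h2 | h2
      · apply h.p_ne i
        have e : p i = ξ⁻¹ * (ξ * p i * ξ⁻¹) * ξ := by group
        rw [e, h2]; group
      · apply (h.np i).xp
        calc ξ * p i = (ξ * p i * ξ⁻¹) * ξ := by group
          _ = p i * ξ := by rw [h2]
  four := ⟨p 0, h.mem_pp.2 (Or.inr ⟨0, rfl⟩), p 1, h.mem_pp.2 (Or.inr ⟨1, rfl⟩), h.p_ne 0, h.p_ne 1,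
    h.p_ne_p (by decide)⟩
  six := h.six
  cz := h.cz

end inst

end Cfsg.Agent.OddCyclic.BcP.D4A
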