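import Cfsg.Agent.OddCyclic.L32.LemKBase
import Cfsg.Agent.OddCyclic.Eq.PartIFourA
import Cfsg.Agent.OddCyclic.RedRep
import Cfsg.Agent.Lib.SylowNormalInf
import Cfsg.Agent.OddCyclic.L32.FD
import Cfsg.Agent.OddCyclic.Eq.Crd
import Cfsg.Agent.OddCyclic.T1Structure

/-!
# S0342, [Bc], type (b'), (1.3): the element `e`

`Eh`: the data. `N₁`, `N₂` natural `L₃(2)`-modules for `L ⊴ M`, `H₁ = C_{N₁}(J)`, `Ω₁Z(J) = H₁ f(H₁) I`.
* `exists_e` : `e ∈ T ∩ L` moves `H₁`;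
* `e_sq`, `e_x`, `index_e` : `e` acts on `Z_J` as an involution inverting `x`, `|Z_J : C(e)| ≤ 4`;
* `pstar` : (P*); `tiStar` : (TI');
* `lk` : the input of LEMMA K.
-/

set_option autoImplicit false
set_option linter.unusedSectionVars false

namespace Cfsg.Agent.OddCyclic.BcP.Ee

open Subgroup
open Cfsg.Agent.OddCyclic.T1Defs (OddCyc)
open Cfsg.Agent.OddCyclic.Eq.PartIFour (four_cases odd_cent sym3)
open Cfsg.Agent.OddCyclic.T1Module Cfsg.Agent.OddCyclic.FFBasic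

universe u

variable {G : Type u} [Group G]

/-! ### four-groups -/

section four

variable {U : Subgroup G} (hU : Nat.card U = 4) (h2 : ∀ x ∈ U, x * x = 1)

include hU h2

theorem four_fpf {x : G} (hx : x ∈ normalizer (U : Set G)) (ho : Odd (orderOf x)) (hm : x ∉ centralizer (U : Set G)) :
    ∀ u ∈ U, x * u = u * x → u = 1 := by
  intro u hu hxu
  by_contra hu1
  exact hm (odd_cent hU h2 hu hu1 hx (by rw [hxu, mul_inv_cancel_right]) ho)

/-- two elements of order 3 of `GL₂(2)` are equal or inverse -/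
theorem four_same {x y : G} (hx : x ∈ normalizer (U : Set G)) (hxf : ∀ u ∈ U, x * u = u * x → u = 1)
    (hy : y ∈ normalizer (U : Set G)) (hyf : ∀ u ∈ U, y * u = u * y → u = 1) :
    y * x⁻¹ ∈ centralizer (U : Set G) ∨ y * x ∈ centralizer (U : Set G) := by
  have hcom : ∀ a ∈ U, ∀ b ∈ U, a * b = b * a := fun a ha b hb => L32.FD.comm_of_sq h2 ha hb
  have hNx : ∀ a ∈ U, x * a * x⁻¹ ∈ U := fun a ha => CompStandard.forall_of_mem_normalizer hx _ ha
  have hNy : ∀ a ∈ U, y * a * y⁻¹ ∈ U := fun a ha => CompStandard.forall_of_mem_normalizer hy _ ha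
  have hne1 : ∀ g : G, ∀ a : G, a ≠ 1 → g * a * g⁻¹ ≠ 1 := fun g a ha h => ha (conj_eq_one_iff.1 h)
  have hfx : ∀ a ∈ U, a ≠ 1 → x * a * x⁻¹ ≠ a := fun a ha ha1 h => ha1 (hxf a ha (mul_inv_eq_iff_eq_mul.1 h))
  have hfy : ∀ a ∈ U, a ≠ 1 → y * a * y⁻¹ ≠ a := fun a ha ha1 h => ha1 (hyf a ha (mul_inv_eq_iff_eq_mul.1 h))
  obtain ⟨a, ha, ha1, -⟩ := Eq.PartIFour.exists_ne hU (1 : G)
  set b := x * a * x⁻¹ with hb
  have hbU : b ∈ U := hNx a ha
  have hb1 : b ≠ 1 := hne1 x a ha1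
  have hab : a ≠ b := fun h => hfx a ha ha1 h.symm
  have hab1 : a * b ≠ 1 := by
    intro h
    apply hab
    rw [eq_inv_of_mul_eq_one_left h]
    exact inv_eq_of_mul_eq_one_left (h2 b hbU)
  have habU : a * b ∈ U := mul_mem ha hbU
  have hcases := fun {w : G} (hw : w ∈ U) => four_cases hU h2 ha hbU ha1 hb1 hab hw
  -- a map of the group without fixed points
  have key : ∀ g : G, g ∈ normalizer (U : Set G) → (∀ c ∈ U, c ≠ 1 → g * c * g⁻¹ ≠ c) →
      (g * a * g⁻¹ = b → g * b * g⁻¹ = a * b) ∧ (g * a * g⁻¹ = a * b → g * b * g⁻¹ = a) := by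
    intro g hg hgf
    have hNg : ∀ a ∈ U, g * a * g⁻¹ ∈ U := fun a ha => CompStandard.forall_of_mem_normalizer hg _ ha
    have hgab : g * (a * b) * g⁻¹ = (g * a * g⁻¹) * (g * b * g⁻¹) := by group
    constructor
    · intro h
      rcases hcases (hNg b hbU) with h1 | h1 | h1 | h1
      · exact absurd h1 (hne1 g b hb1)
      · exfalso
        apply hgf _ habU hab1
        rw [hgab, h, h1, hcom _ hbU _ ha]
      · exact absurd h1 (hgf b hbU hb1)
      · exact h1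
    · intro h
      rcases hcases (hNg b hbU) with h1 | h1 | h1 | h1
      · exact absurd h1 (hne1 g b hb1)
      · exact h1
      · exact absurd h1 (hgf b hbU hb1)
      · exfalso
        have h3 : g * (a * b) * g⁻¹ = 1 := by rw [hgab, h, h1, h2 _ habU]
        exact hne1 g _ hab1 h3
  have hxb : x * b * x⁻¹ = a * b := (key x hx hfx).1 rfl
  -- elements centralising `a` and `b`
  have hfin : ∀ c : G, c * a = a * c → c * b = b * c → c ∈ centralizer (U : Set G) := by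
    intro c hca hcb
    rw [mem_centralizer_iff]
    intro w hw
    rcases hcases hw with h | h | h | h
    · rw [h, one_mul, mul_one]
    · rw [h, hca]
    · rw [h, hcb]
    · rw [h, mul_assoc, ← hcb, ← mul_assoc, ← hca, mul_assoc]
  have hxab : x * (a * b) * x⁻¹ = a := by
    have : x * (a * b) * x⁻¹ = (x * a * x⁻¹) * (x * b * x⁻¹) := by group
    rw [this, ← hb, hxb, ← mul_assoc, hcom _ hbU _ ha, mul_assoc, h2 b hbU, mul_one]
  have hxia : x⁻¹ * a * x = a * b := by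
    calc x⁻¹ * a * x = x⁻¹ * (x * (a * b) * x⁻¹) * x := by rw [hxab]
      _ = a * b := by group
  have hxib : x⁻¹ * b * x = a := by rw [hb]; group
  rcases hcases (hNy a ha) with h | h | h | h
  · exact absurd h (hne1 y a ha1)
  · exact absurd h (hfy a ha ha1)
  · left
    have hyb := (key y hy hfy).1 h
    have hyab : y * (a * b) * y⁻¹ = a := by
      have : y * (a * b) * y⁻¹ = (y * a * y⁻¹) * (y * b * y⁻¹) := by group
      rw [this, h, hyb, ← mul_assoc, hcom _ hbU _ ha, mul_assoc, h2 b hbU, mul_one]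
    apply hfin
    · calc y * x⁻¹ * a = y * (x⁻¹ * a * x) * y⁻¹ * (y * x⁻¹) := by group
        _ = a * (y * x⁻¹) := by rw [hxia, hyab]
    · calc y * x⁻¹ * b = y * (x⁻¹ * b * x) * y⁻¹ * (y * x⁻¹) := by group
        _ = b * (y * x⁻¹) := by rw [hxib, h]
  · right
    have hyb := (key y hy hfy).2 h
    have hyab : y * (a * b) * y⁻¹ = b := by
      have : y * (a * b) * y⁻¹ = (y * a * y⁻¹) * (y * b * y⁻¹) := by group
      rw [this, h, hyb, hcom _ ha _ hbU, mul_assoc, h2 a ha, mul_one]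
    apply hfin
    · calc y * x * a = y * (x * a * x⁻¹) * y⁻¹ * (y * x) := by group
        _ = a * (y * x) := by rw [← hb, hyb]
    · calc y * x * b = y * (x * b * x⁻¹) * y⁻¹ * (y * x) := by group
        _ = b * (y * x) := by rw [hxb, hyab]

end four

/-! ### the data -/

/-- the data of (1.3): `L ⊴ M`, `T ∈ Syl₂(M)`, `L` full on the natural modules `N₁ ≅ N₂`, `H₁ = C_{N₁}(J)`, `p ∈ H₁`
fixed by `T`, `x ∈ L ∩ N(J)` of order 3, `Ω₁Z(J) = H₁ f(H₁) I` -/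
structure Eh (M L T N₁ N₂ H₁ I ZJ NJ : Subgroup G) (f : N₁ ≃* N₂) (p x : G) : Prop where
  cyc : OddCyc G
  LM : L ≤ M
  nL : M ≤ normalizer (L : Set G)
  TM : T ≤ M
  T2 : IsPGroup 2 T
  Tsyl : ¬ 2 ∣ T.relIndex M
  n1 : M ≤ normalizer (N₁ : Set G)
  card : Nat.card N₁ = 8
  disj : N₁ ⊓ N₂ = ⊥
  eqv : ∀ g ∈ M, ∀ a b : N₁, (b : G) = g * a * g⁻¹ → (f b : G) = g * f a * g⁻¹
  HN : H₁ ≤ N₁
  cardH : Nat.card H₁ = 4
  pH : p ∈ H₁
  p1 : p ≠ 1
  trans : ∀ a ∈ N₁, a ≠ 1 → ∃ g ∈ L, g * a * g⁻¹ = p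
  pT : ∀ t ∈ T, t * p = p * t
  TJ : T ≤ NJ
  JH : M ⊓ NJ ≤ normalizer (H₁ : Set G)
  xL : x ∈ L
  xJ : x ∈ NJ
  x3 : orderOf x = 3
  xH : x ∉ centralizer (H₁ : Set G)
  sq : ∀ a ∈ ZJ, a * a = 1
  JZ : NJ ≤ normalizer (ZJ : Set G)
  HZ : H₁ ≤ ZJ
  fZ : ∀ a : N₁, (a : G) ∈ H₁ → (f a : G) ∈ ZJ
  IZ : I ≤ ZJ
  LI : ∀ g ∈ L, ∀ i ∈ I, g * i = i * g
  dec : ∀ z ∈ ZJ, ∃ a b : N₁, (a : G) ∈ H₁ ∧ (b : G) ∈ H₁ ∧ ∃ i ∈ I, z = a * f b * i
  uniq : ∀ i ∈ I, i ≠ 1 → ∀ g, g * i = i * g → g ∈ M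
  idx8 : 8 ∣ (centralizer (N₁ : Set G)).relIndex L

namespace Eh

variable {M L T N₁ N₂ H₁ I ZJ NJ : Subgroup G} {f : N₁ ≃* N₂} {p x : G}

theorem comm (h : Eh M L T N₁ N₂ H₁ I ZJ NJ f p x) {a b : G} (ha : a ∈ ZJ) (hb : b ∈ ZJ) : a * b = b * a :=
  L32.FD.comm_of_sq h.sq ha hb

theorem sqH (h : Eh M L T N₁ N₂ H₁ I ZJ NJ f p x) : ∀ a ∈ H₁, a * a = 1 := fun a ha => h.sq a (h.HZ ha)

/-- all elements of `N₁` are involutions -/
theorem sqN (h : Eh M L T N₁ N₂ H₁ I ZJ NJ f p x) : ∀ a ∈ N₁, a * a = 1 := by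
  intro a ha
  by_cases ha1 : a = 1
  · rw [ha1, one_mul]
  obtain ⟨g, -, hg⟩ := h.trans a ha ha1
  have h1 := h.sqH p h.pH
  rw [← hg] at h1
  have h2 : g * (a * a) * g⁻¹ = 1 := by rw [← h1]; group
  exact conj_eq_one_iff.1 h2

theorem commN (h : Eh M L T N₁ N₂ H₁ I ZJ NJ f p x) {a b : G} (ha : a ∈ N₁) (hb : b ∈ N₁) : a * b = b * a :=
  L32.FD.comm_of_sq h.sqN ha hb

/-- conjugation by `g ∈ M` on `N₁` and `N₂` -/
theorem exists_conj (h : Eh M L T N₁ N₂ H₁ I ZJ NJ f p x) {g : G} (hg : g ∈ M) (a : N₁) :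
    ∃ b : N₁, (b : G) = g * a * g⁻¹ ∧ (f b : G) = g * f a * g⁻¹ := by
  have h1 : g * (a : G) * g⁻¹ ∈ N₁ := CompStandard.forall_of_mem_normalizer (h.n1 hg) _ a.2
  exact ⟨⟨_, h1⟩, rfl, h.eqv g hg a _ rfl⟩

/-- `g ∈ M` commuting with `a` commutes with `f a` -/
theorem comm_f (h : Eh M L T N₁ N₂ H₁ I ZJ NJ f p x) {g : G} (hg : g ∈ M) {a : N₁} (ha : g * (a : G) = a * g) :
    g * (f a : G) = f a * g := by
  have h1 := h.eqv g hg a a (by rw [ha, mul_inv_cancel_right])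
  exact (mul_inv_eq_iff_eq_mul.1 h1.symm)

/-- elements of `L` centralising `H₁` centralise `Z_J` -/
theorem cent_of (h : Eh M L T N₁ N₂ H₁ I ZJ NJ f p x) {g : G} (hg : g ∈ L) (hc : g ∈ centralizer (H₁ : Set G)) :
    g ∈ centralizer (ZJ : Set G) := by
  rw [mem_centralizer_iff] at hc ⊢
  intro z hz
  obtain ⟨a, b, ha, hb, i, hi, rfl⟩ := h.dec z hz
  have h1 := hc a ha
  have h2 := h.comm_f (h.LM hg) (hc b hb).symm
  have h3 := h.LI g hg i hi
  calc (a : G) * f b * i * g = a * f b * (g * i) := by rw [h3]; group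
    _ = a * (f b * g) * i := by group
    _ = a * (g * f b) * i := by rw [h2]
    _ = (a * g) * f b * i := by group
    _ = g * a * f b * i := by rw [h1]
    _ = g * (a * f b * i) := by group

/-! ### the element `e` -/

/-- `|T ∩ L : C(N₁)|` is divisible by 8 -/
theorem eight_dvd [Finite G] (h : Eh M L T N₁ N₂ H₁ I ZJ NJ f p x) :
    8 ∣ (centralizer (N₁ : Set G)).relIndex (T ⊓ L) := by
  have : Fact (Nat.Prime 2) := ⟨Nat.prime_two⟩
  have hodd : ¬ 2 ∣ T.relIndex L := by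
    have hT : IsPGroup 2 (T.subgroupOf M) := h.T2.comap_of_injective M.subtype M.subtype_injective
    have : (L.subgroupOf M).Normal := normal_subgroupOf_of_le_normalizer h.nL
    have h1 := Lib.SylowNormalInf.not_dvd_relIndex (hT.toSylow h.Tsyl) (L.subgroupOf M)
    change ¬ 2 ∣ (T.subgroupOf M).relIndex (L.subgroupOf M) at h1
    rwa [Subgroup.relIndex_subgroupOf h.LM] at h1
  have h1 : (centralizer (N₁ : Set G) ⊓ (T ⊓ L)).relIndex (T ⊓ L) * (T ⊓ L).relIndex L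
      = (centralizer (N₁ : Set G) ⊓ (T ⊓ L)).relIndex L := relIndex_mul_relIndex _ _ _ inf_le_right inf_le_right
  have h2 : (centralizer (N₁ : Set G) ⊓ (T ⊓ L)).relIndex (centralizer (N₁ : Set G) ⊓ L) *
      (centralizer (N₁ : Set G) ⊓ L).relIndex L = (centralizer (N₁ : Set G) ⊓ (T ⊓ L)).relIndex L :=
    relIndex_mul_relIndex _ _ _ (le_inf inf_le_left (inf_le_right.trans inf_le_right)) inf_le_right
  rw [inf_relIndex_right, inf_relIndex_right] at h1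
  rw [inf_relIndex_right] at h2
  have h3 : 8 ∣ (centralizer (N₁ : Set G)).relIndex (T ⊓ L) * T.relIndex L := by
    rw [h1, ← h2]
    exact Dvd.dvd.mul_left h.idx8 _
  have hcop : Nat.Coprime 8 (T.relIndex L) := by
    have : Nat.Coprime (2 ^ 3) (T.relIndex L) :=
      Nat.Coprime.pow_left 3 ((Nat.Prime.coprime_iff_not_dvd Nat.prime_two).2 hodd)
    exact this
  exact hcop.dvd_of_dvd_mul_right h3

theorem le_nH (h : Eh M L T N₁ N₂ H₁ I ZJ NJ f p x) : T ≤ normalizer (H₁ : Set G) :=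
  (le_inf h.TM h.TJ).trans h.JH

/-- there is `e ∈ T ∩ L` moving `H₁` -/
theorem exists_e [Finite G] (h : Eh M L T N₁ N₂ H₁ I ZJ NJ f p x) :
    ∃ e, e ∈ T ∧ e ∈ L ∧ e ∉ centralizer (H₁ : Set G) := by
  classical
  by_contra hcon
  push Not at hcon
  have h8 := h.eight_dvd
  obtain ⟨n, hn, hnH⟩ : ∃ n ∈ N₁, n ∉ H₁ := by
    by_contra hcon
    push Not at hcon
    have h1 : N₁ ≤ H₁ := hcon
    have h2 := Subgroup.card_le_of_le h1
    rw [h.card, h.cardH] at h2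
    omega
  have hrel : H₁.relIndex N₁ = 2 := by
    have h1 := Lib.SylowNormalInf.card_mul_relIndex H₁ N₁ h.HN
    rw [h.card, h.cardH] at h1
    omega
  have h2 : ∀ a ∈ N₁, ∀ b ∈ N₁, a ∉ H₁ → b ∉ H₁ → a⁻¹ * b ∈ H₁ := by
    intro a ha b hb ha1 hb1
    have h3 := Subgroup.mul_mem_iff_of_index_two (H := H₁.subgroupOf N₁) hrel (a := (⟨a, ha⟩ : N₁)⁻¹) (b := ⟨b, hb⟩)
    simp only [mem_subgroupOf, Subgroup.coe_mul, Subgroup.coe_inv, inv_mem_iff] at h3
    exact h3.2 ⟨fun h4 => absurd h4 ha1, fun h4 => absurd h4 hb1⟩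
  have h4 : (centralizer (N₁ : Set G)).relIndex (T ⊓ L) ≤ Nat.card ((fun w => n * w) '' (H₁ : Set G) : Set G) := by
    refine Eq.Crd.Sys.relIndex_le_of' _ (fun t => t * n * t⁻¹) ?_ ?_
    · intro t ht
      have h5 : t * n * t⁻¹ ∈ N₁ := CompStandard.forall_of_mem_normalizer (h.n1 (h.TM ht.1)) _ hn
      have h6 : t * n * t⁻¹ ∉ H₁ := by
        intro h7
        have h8 : t⁻¹ * (t * n * t⁻¹) * t⁻¹⁻¹ ∈ H₁ :=
          CompStandard.forall_of_mem_normalizer (inv_mem (h.le_nH ht.1)) _ h7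
        apply hnH
        have h9 : t⁻¹ * (t * n * t⁻¹) * t⁻¹⁻¹ = n := by group
        rwa [h9] at h8
      exact ⟨n⁻¹ * (t * n * t⁻¹), h2 n hn _ h5 hnH h6, by group⟩
    · intro a ha b hb hab
      have h5 : a⁻¹ * b ∈ centralizer (H₁ : Set G) :=
        mul_mem (inv_mem (hcon a ha.1 ha.2)) (hcon b hb.1 hb.2)
      have h6 : (a⁻¹ * b) * n = n * (a⁻¹ * b) := by
        have h7 : a * n * a⁻¹ = b * n * b⁻¹ := hab
        calc (a⁻¹ * b) * n = a⁻¹ * (b * n * b⁻¹) * b := by group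
          _ = a⁻¹ * (a * n * a⁻¹) * b := by rw [h7]
          _ = n * (a⁻¹ * b) := by group
      rw [mem_centralizer_iff] at h5 ⊢
      intro w hw
      by_cases hwH : w ∈ H₁
      · exact h5 w hwH
      · have h7 := h5 _ (h2 n hn w hw hnH hwH)
        have h8 : w = n * (n⁻¹ * w) := by group
        calc w * (a⁻¹ * b) = n * ((n⁻¹ * w) * (a⁻¹ * b)) := by group
          _ = n * ((a⁻¹ * b) * (n⁻¹ * w)) := by rw [h7]
          _ = (n * (a⁻¹ * b)) * (n⁻¹ * w) := by group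
          _ = ((a⁻¹ * b) * n) * (n⁻¹ * w) := by rw [h6]
          _ = (a⁻¹ * b) * w := by group
  have h5 : Nat.card ((fun w => n * w) '' (H₁ : Set G) : Set G) = 4 := by
    rw [← h.cardH]
    exact Nat.card_image_of_injective (mul_right_injective n) _
  rw [h5] at h4
  have h6 : 0 < (centralizer (N₁ : Set G)).relIndex (T ⊓ L) := Nat.pos_of_ne_zero index_ne_zero_of_finite
  have h7 := Nat.le_of_dvd h6 h8
  omega

section e

variable {e : G} (he : e ∈ T) (heL : e ∈ L) (hm : e ∉ centralizer (H₁ : Set G))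

include he heL hm

theorem e_nH (h : Eh M L T N₁ N₂ H₁ I ZJ NJ f p x) : e ∈ normalizer (H₁ : Set G) := h.le_nH he

/-- `C_{H₁}(e) = ⟨p⟩` -/
theorem fix_e (h : Eh M L T N₁ N₂ H₁ I ZJ NJ f p x) {a : G} (ha : a ∈ H₁) (hc : e * a = a * e) : a = 1 ∨ a = p := by
  by_contra hcon
  push Not at hcon
  apply hm
  rw [mem_centralizer_iff]
  intro w hw
  have hep := h.pT e he
  rcases four_cases h.cardH h.sqH ha h.pH hcon.1 h.p1 hcon.2 hw with h1 | h1 | h1 | h1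
  · rw [h1, one_mul, mul_one]
  · rw [h1, hc]
  · rw [h1, hep]
  · rw [h1, mul_assoc, ← hep, ← mul_assoc, ← hc, mul_assoc]

/-- `[H₁, e] ≤ ⟨p⟩` -/
theorem comm_e (h : Eh M L T N₁ N₂ H₁ I ZJ NJ f p x) {a : G} (ha : a ∈ H₁) :
    e * a * e⁻¹ = a ∨ e * a * e⁻¹ = p * a := by
  have hep := h.pT e he
  have heN := h.le_nH he
  by_cases ha1 : a = 1
  · left; rw [ha1]; group
  by_cases hap : a = p
  · left; rw [hap, hep, mul_inv_cancel_right]
  rcases four_cases h.cardH h.sqH ha h.pH ha1 h.p1 hap (CompStandard.forall_of_mem_normalizer heN _ ha)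
    with h1 | h1 | h1 | h1
  · exact absurd (conj_eq_one_iff.1 h1) ha1
  · left; exact h1
  · exfalso
    apply hap
    have h2 : a = e⁻¹ * p * e := by rw [← h1]; group
    rw [h2, mul_assoc, ← hep]; group
  · right; rw [h1]; exact h.comm (h.HZ ha) (h.HZ h.pH)

theorem e_sq (h : Eh M L T N₁ N₂ H₁ I ZJ NJ f p x) : e * e ∈ centralizer (ZJ : Set G) := by
  apply h.cent_of (mul_mem heL heL)
  rw [mem_centralizer_iff]
  intro a ha
  have hep := h.pT e he
  have hpp := h.sqH p h.pH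
  have h1 : e * e * a * (e * e)⁻¹ = a := by
    have h2 : e * e * a * (e * e)⁻¹ = e * (e * a * e⁻¹) * e⁻¹ := by group
    rcases h.comm_e he heL hm ha with h3 | h3
    · rw [h2, h3, h3]
    · have h4 : e * (p * a) * e⁻¹ = (e * p * e⁻¹) * (e * a * e⁻¹) := by group
      have h5 : e * p * e⁻¹ = p := by rw [hep, mul_inv_cancel_right]
      rw [h2, h3, h4, h5, h3, ← mul_assoc, hpp, one_mul]
  exact (mul_inv_eq_iff_eq_mul.1 h1).symm

/-- `e x e⁻¹ x` centralises `Z_J` -/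
theorem e_x (h : Eh M L T N₁ N₂ H₁ I ZJ NJ f p x) : e * x * e⁻¹ * x ∈ centralizer (ZJ : Set G) := by
  have hxN : x ∈ normalizer (H₁ : Set G) := h.JH ⟨h.LM h.xL, h.xJ⟩
  have hx3 : x ^ 3 = 1 := by rw [← h.x3, pow_orderOf_eq_one]
  have hfpf := four_fpf h.cardH h.sqH hxN (by rw [h.x3]; decide) h.xH
  obtain ⟨n, hn⟩ := h.T2 ⟨e, he⟩
  have hn' : e ^ 2 ^ n = 1 := by
    have h1 := congrArg Subtype.val hn
    simpa using h1
  refine h.cent_of (mul_mem (mul_mem (mul_mem heL h.xL) (inv_mem heL)) h.xL) ?_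
  exact sym3 h.cardH h.sqH hxN hx3 hfpf (h.le_nH he) hn' hm

/-- `[z, e]` for `z = a f(b) i` -/
theorem conj_dec (h : Eh M L T N₁ N₂ H₁ I ZJ NJ f p x) {z : G} (hz : z ∈ ZJ) :
    ∃ a b : N₁, (a : G) ∈ H₁ ∧ (b : G) ∈ H₁ ∧ ∃ i ∈ I, z = a * f b * i ∧
      ∃ a' b' : N₁, (a' : G) = e * a * e⁻¹ ∧ (b' : G) = e * b * e⁻¹ ∧ e * z * e⁻¹ = a' * f b' * i := by
  obtain ⟨a, b, ha, hb, i, hi, rfl⟩ := h.dec z hz
  obtain ⟨a', ha', hfa'⟩ := h.exists_conj (h.TM he) a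
  obtain ⟨b', hb', hfb'⟩ := h.exists_conj (h.TM he) b
  refine ⟨a, b, ha, hb, i, hi, rfl, a', b', ha', hb', ?_⟩
  have h1 := h.LI e heL i hi
  rw [ha', hfb']
  calc e * ((a : G) * f b * i) * e⁻¹ = (e * a * e⁻¹) * (e * f b * e⁻¹) * (e * i) * e⁻¹ := by group
    _ = (e * a * e⁻¹) * (e * f b * e⁻¹) * (i * e) * e⁻¹ := by rw [h1]
    _ = (e * a * e⁻¹) * (e * f b * e⁻¹) * i := by group

/-- `C_{Z_J}(e) = ⟨p, f p⟩ I` -/
theorem fix_dec (h : Eh M L T N₁ N₂ H₁ I ZJ NJ f p x) {z : G} (hz : z ∈ ZJ) (hc : e * z = z * e) :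
    ∃ a b : N₁, ((a : G) = 1 ∨ (a : G) = p) ∧ ((b : G) = 1 ∨ (b : G) = p) ∧ ∃ i ∈ I, z = a * f b * i := by
  obtain ⟨a, b, ha, hb, i, hi, hz', a', b', ha', hb', hez⟩ := h.conj_dec he heL hm hz
  have haN : (a' : G) ∈ H₁ := by rw [ha']; exact CompStandard.forall_of_mem_normalizer (h.le_nH he) _ ha
  have hbN : (b' : G) ∈ H₁ := by rw [hb']; exact CompStandard.forall_of_mem_normalizer (h.le_nH he) _ hb
  have h1 : (a' : G) * f b' * i = a * f b * i := by rw [← hez, hc, mul_inv_cancel_right, hz']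
  have h2 : (a' : G) * f b' = a * f b := mul_right_cancel h1
  have h3 : (a : G)⁻¹ * a' = f b * (f b' : G)⁻¹ := by
    rw [eq_mul_inv_iff_mul_eq, mul_assoc, h2]; group
  have h4 : (a : G)⁻¹ * a' ∈ N₁ ⊓ N₂ :=
    mem_inf.2 ⟨mul_mem (inv_mem a.2) a'.2, by rw [h3]; exact mul_mem (f b).2 (inv_mem (f b').2)⟩
  rw [h.disj, mem_bot] at h4
  have h5 : (a : G) = a' := by rw [inv_mul_eq_one] at h4; exact h4
  have h6 : f b = f b' := by
    rw [h4] at h3
    exact Subtype.ext (mul_inv_eq_one.1 h3.symm)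
  have h7 : b = b' := f.injective h6
  refine ⟨a, b, ?_, ?_, i, hi, hz'⟩
  · apply h.fix_e he heL hm ha
    rw [ha'] at h5
    exact (eq_mul_inv_iff_mul_eq.1 h5).symm
  · apply h.fix_e he heL hm hb
    have h8 : (b : G) = e * b * e⁻¹ := by rw [← hb', h7]
    exact (eq_mul_inv_iff_mul_eq.1 h8).symm

/-- `|Z_J : C(e)| ≤ 4` -/
theorem index_e [Finite G] (h : Eh M L T N₁ N₂ H₁ I ZJ NJ f p x) :
    (centralizer ({e} : Set G)).relIndex ZJ ≤ 4 := by
  classical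
  have hp1 : (1 : G) ∈ N₁ := one_mem _
  set P : N₁ := ⟨p, h.HN h.pH⟩ with hP
  have h1 : (centralizer ({e} : Set G)).relIndex ZJ ≤
      Nat.card ((fun q : Bool × Bool => (bif q.1 then p else 1) * (bif q.2 then (f P : G) else 1)) ''
        (Set.univ : Set (Bool × Bool)) : Set G) := by
    refine Eq.Crd.Sys.relIndex_le_of' _ (fun z => e * z * e⁻¹ * z⁻¹) ?_ ?_
    · intro z hz
      obtain ⟨a, b, ha, hb, i, hi, hz', a', b', ha', hb', hez⟩ := h.conj_dec he heL hm hz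
      have hia := h.IZ hi
      have hab : (f b : G) ∈ ZJ := h.fZ b hb
      have hbN : (b' : G) ∈ H₁ := by rw [hb']; exact CompStandard.forall_of_mem_normalizer (h.le_nH he) _ hb
      have haN : (a' : G) ∈ H₁ := by rw [ha']; exact CompStandard.forall_of_mem_normalizer (h.le_nH he) _ ha
      have hab' : (f b' : G) ∈ ZJ := h.fZ b' hbN
      have hfb := h.comm hab' hab
      have h2 : e * z * e⁻¹ * z⁻¹ = (a' * (a : G)⁻¹) * (f b' * (f b : G)⁻¹) := by
        rw [hez, hz']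
        have h3 : (a : G)⁻¹ * (f b' * (f b : G)⁻¹) = f b' * (f b : G)⁻¹ * (a : G)⁻¹ :=
          h.comm (inv_mem (h.HZ ha)) (mul_mem hab' (inv_mem hab))
        calc (a' : G) * f b' * i * ((a : G) * f b * i)⁻¹ = a' * (f b' * (f b : G)⁻¹ * (a : G)⁻¹) := by group
          _ = (a' * (a : G)⁻¹) * (f b' * (f b : G)⁻¹) := by rw [← h3]; group
      have key : ∀ c c' : N₁, (c : G) ∈ H₁ → (c' : G) = e * c * e⁻¹ → c' * c⁻¹ = 1 ∨ c' * c⁻¹ = P := by
        intro c c' hc hc'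
        rcases h.comm_e he heL hm hc with h3 | h3
        · left
          rw [mul_inv_eq_one]
          exact Subtype.ext (hc'.trans h3)
        · right
          rw [mul_inv_eq_iff_eq_mul]
          exact Subtype.ext (hc'.trans h3)
      have hka : (a' : G) * (a : G)⁻¹ = 1 ∨ (a' : G) * (a : G)⁻¹ = p := by
        rcases key a a' ha ha' with h3 | h3
        · left; exact Subtype.ext_iff.1 h3
        · right; exact Subtype.ext_iff.1 h3
      have hkb : (f b' : G) * (f b : G)⁻¹ = 1 ∨ (f b' : G) * (f b : G)⁻¹ = f P := by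
        have h4 : (f b' : G) * (f b : G)⁻¹ = f (b' * b⁻¹) := by
          rw [map_mul, map_inv]; rfl
        rcases key b b' hb hb' with h3 | h3
        · left; rw [h4, h3, map_one]; rfl
        · right; rw [h4, h3]
      change e * z * e⁻¹ * z⁻¹ ∈ _
      rw [h2]
      rcases hka with h3 | h3 <;> rcases hkb with h4 | h4
      · exact ⟨(false, false), Set.mem_univ _, by simp [h3, h4]⟩
      · exact ⟨(false, true), Set.mem_univ _, by simp [h3, h4]⟩
      · exact ⟨(true, false), Set.mem_univ _, by simp [h3, h4]⟩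
      · exact ⟨(true, true), Set.mem_univ _, by simp [h3, h4]⟩
    · intro a ha b hb hab
      have h2 : e * a * e⁻¹ * a⁻¹ = e * b * e⁻¹ * b⁻¹ := hab
      have heZ : ∀ c ∈ ZJ, e * c * e⁻¹ ∈ ZJ := fun c hc =>
        CompStandard.forall_of_mem_normalizer (h.JZ (h.TJ he)) _ hc
      rw [mem_centralizer_singleton_iff]
      have h3 : e * (a⁻¹ * b) * e⁻¹ = a⁻¹ * b := by
        have h4 : (e * a * e⁻¹)⁻¹ * (e * b * e⁻¹) = a⁻¹ * b := by
          have h5 := h.comm (inv_mem ha) (heZ b hb)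
          have h6 : e * a * e⁻¹ = e * b * e⁻¹ * b⁻¹ * a := by rw [← h2]; group
          rw [h6]
          calc (e * b * e⁻¹ * b⁻¹ * a)⁻¹ * (e * b * e⁻¹)
              = a⁻¹ * b * (e * b * e⁻¹)⁻¹ * (e * b * e⁻¹) := by group
            _ = a⁻¹ * b := by group
        have h7 : e * (a⁻¹ * b) * e⁻¹ = (e * a * e⁻¹)⁻¹ * (e * b * e⁻¹) := by group
        exact h7.trans h4
      exact (mul_inv_eq_iff_eq_mul.1 h3).symm
  refine h1.trans ?_
  have h2 := Set.ncard_image_le (f := fun q : Bool × Bool => (bif q.1 then p else 1) * (bif q.2 then (f P : G) else 1))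
    (s := (Set.univ : Set (Bool × Bool))) Set.finite_univ
  rw [Set.ncard_univ] at h2
  rw [Nat.card_coe_set_eq]
  refine h2.trans ?_
  simp

/-- an element of order 3 of `L` centralising `C_{Z_J}(e)` -/
theorem exists_xp (h : Eh M L T N₁ N₂ H₁ I ZJ NJ f p x) :
    ∃ y ∈ L, orderOf y = 3 ∧ ∀ z ∈ ZJ, e * z = z * e → y * z = z * y := by
  have hxM := h.LM h.xL
  have hxN : x ∈ normalizer (H₁ : Set G) := h.JH ⟨hxM, h.xJ⟩
  have hx3 : x ^ 3 = 1 := by rw [← h.x3, pow_orderOf_eq_one]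
  obtain ⟨n, hn, hnH⟩ : ∃ n ∈ N₁, n ∉ H₁ := by
    by_contra hcon
    push Not at hcon
    have h1 : N₁ ≤ H₁ := hcon
    have : Finite H₁ := Nat.finite_of_card_ne_zero (by rw [h.cardH]; decide)
    have h2 := Subgroup.card_le_of_le h1
    rw [h.card, h.cardH] at h2
    omega
  have hrel : H₁.relIndex N₁ = 2 := by
    have h1 := Lib.SylowNormalInf.card_mul_relIndex H₁ N₁ h.HN
    rw [h.card, h.cardH] at h1
    omega
  have h2 : ∀ a ∈ N₁, ∀ b ∈ N₁, (a * b ∈ H₁ ↔ (a ∈ H₁ ↔ b ∈ H₁)) := by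
    intro a ha b hb
    have h3 := Subgroup.mul_mem_iff_of_index_two (H := H₁.subgroupOf N₁) hrel (a := ⟨a, ha⟩) (b := ⟨b, hb⟩)
    simpa only [mem_subgroupOf, Subgroup.coe_mul] using h3
  have h3 : ∀ a ∈ N₁, x * a * x⁻¹ ∈ N₁ := fun a ha => CompStandard.forall_of_mem_normalizer (h.n1 hxM) _ ha
  have h4 : ∀ a, a ∉ H₁ → x * a * x⁻¹ ∉ H₁ := by
    intro a ha h5
    have h8 : x⁻¹ * (x * a * x⁻¹) * x⁻¹⁻¹ ∈ H₁ :=
      CompStandard.forall_of_mem_normalizer (inv_mem hxN) _ h5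
    apply ha
    have h9 : x⁻¹ * (x * a * x⁻¹) * x⁻¹⁻¹ = a := by group
    rwa [h9] at h8
  set n₁ := x * n * x⁻¹ with hn₁
  set n₂ := x * n₁ * x⁻¹ with hn₂
  have hn₁N := h3 n hn
  have hn₂N := h3 n₁ hn₁N
  have hw : n * n₁ * n₂ ∉ H₁ := by
    rw [h2 _ (mul_mem hn hn₁N) _ hn₂N, h2 _ hn _ hn₁N]
    have := h4 n hnH
    have := h4 n₁ this
    tauto
  have hn3 : x * n₂ * x⁻¹ = n := by
    have h5 : x * n₂ * x⁻¹ = x ^ 3 * n * (x ^ 3)⁻¹ := by
      simp only [hn₂, hn₁, pow_succ, pow_zero, one_mul]; group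
    rw [h5, hx3]; group
  have hxw : x * (n * n₁ * n₂) * x⁻¹ = n * n₁ * n₂ := by
    have h5 : x * (n * n₁ * n₂) * x⁻¹ = (x * n * x⁻¹) * (x * n₁ * x⁻¹) * (x * n₂ * x⁻¹) := by group
    rw [h5, ← hn₁, ← hn₂, hn3]
    exact (h.commN (mul_mem hn₁N hn₂N) hn).trans (mul_assoc _ _ _).symm
  have hw1 : n * n₁ * n₂ ≠ 1 := fun h5 => hw (by rw [h5]; exact one_mem _)
  obtain ⟨g, hg, hgw⟩ := h.trans _ (mul_mem (mul_mem hn hn₁N) hn₂N) hw1
  have hyL : g * x * g⁻¹ ∈ L := mul_mem (mul_mem hg h.xL) (inv_mem hg)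
  refine ⟨g * x * g⁻¹, hyL, ?_, ?_⟩
  · rw [← MulAut.conj_apply, MulEquiv.orderOf_eq, h.x3]
  · have hyp : (g * x * g⁻¹) * p = p * (g * x * g⁻¹) := by
      rw [← hgw]
      have h5 : x * (n * n₁ * n₂) = (n * n₁ * n₂) * x := mul_inv_eq_iff_eq_mul.1 hxw
      calc g * x * g⁻¹ * (g * (n * n₁ * n₂) * g⁻¹) = g * (x * (n * n₁ * n₂)) * g⁻¹ := by group
        _ = g * ((n * n₁ * n₂) * x) * g⁻¹ := by rw [h5]
        _ = g * (n * n₁ * n₂) * g⁻¹ * (g * x * g⁻¹) := by group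
    intro z hz hez
    obtain ⟨a, b, ha, hb, i, hi, rfl⟩ := h.fix_dec he heL hm hz hez
    have key : ∀ c : N₁, ((c : G) = 1 ∨ (c : G) = p) → (g * x * g⁻¹) * c = c * (g * x * g⁻¹) := by
      rintro c (hc | hc)
      · rw [hc, one_mul, mul_one]
      · rw [hc, hyp]
    have ka := key a ha
    have kb := h.comm_f (h.LM hyL) (key b hb)
    have ki := h.LI _ hyL i hi
    generalize g * x * g⁻¹ = y at *
    calc y * ((a : G) * f b * i) = y * a * f b * i := by group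
      _ = a * (y * f b) * i := by rw [ka]; group
      _ = a * f b * (y * i) := by rw [kb]; group
      _ = a * f b * i * y := by rw [ki]; group

/-- (P*) -/
theorem pstar [Finite G] (h : Eh M L T N₁ N₂ H₁ I ZJ NJ f p x) {y : G} (hy : orderOf y = 3) {D : Subgroup G}
    (hD : D ≤ ZJ) (hDe : ∀ d ∈ D, e * d = d * e) (hyD : ∀ d ∈ D, y * d * y⁻¹ ∈ D) : ∀ d ∈ D, y * d = d * y := by
  obtain ⟨w, -, hw, hwc⟩ := h.exists_xp he heL hm
  exact AOneSit.p1 h.cyc Nat.prime_three (by decide) hy hw (fun d hd => hwc d (hD hd) (hDe d hd)) hyD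

end e

/-- `C_{Z_J}(x) = I` -/
theorem mem_I (h : Eh M L T N₁ N₂ H₁ I ZJ NJ f p x) {z : G} (hz : z ∈ ZJ) (hc : x * z = z * x) : z ∈ I := by
  have hxM := h.LM h.xL
  have hxN : x ∈ normalizer (H₁ : Set G) := h.JH ⟨hxM, h.xJ⟩
  have hfpf := four_fpf h.cardH h.sqH hxN (by rw [h.x3]; decide) h.xH
  obtain ⟨a, b, ha, hb, i, hi, rfl⟩ := h.dec z hz
  obtain ⟨a', ha', -⟩ := h.exists_conj hxM a
  obtain ⟨b', hb', hfb'⟩ := h.exists_conj hxM b
  have hxi := h.LI x h.xL i hi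
  have h1 : x * ((a : G) * f b * i) * x⁻¹ = a' * f b' * i := by
    rw [ha', hfb']
    calc x * ((a : G) * f b * i) * x⁻¹ = (x * a * x⁻¹) * (x * f b * x⁻¹) * (x * i) * x⁻¹ := by group
      _ = (x * a * x⁻¹) * (x * f b * x⁻¹) * (i * x) * x⁻¹ := by rw [hxi]
      _ = (x * a * x⁻¹) * (x * f b * x⁻¹) * i := by group
  rw [hc, mul_inv_cancel_right] at h1
  have h2 : (a' : G) * f b' = a * f b := mul_right_cancel h1.symm
  have h3 : (a : G)⁻¹ * a' = f b * (f b' : G)⁻¹ := by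
    rw [eq_mul_inv_iff_mul_eq, mul_assoc, h2]; group
  have h4 : (a : G)⁻¹ * a' ∈ N₁ ⊓ N₂ :=
    mem_inf.2 ⟨mul_mem (inv_mem a.2) a'.2, by rw [h3]; exact mul_mem (f b).2 (inv_mem (f b').2)⟩
  rw [h.disj, mem_bot] at h4
  have h5 : (a : G) = a' := by rw [inv_mul_eq_one] at h4; exact h4
  have h6 : f b = f b' := by
    rw [h4] at h3
    exact Subtype.ext (mul_inv_eq_one.1 h3.symm)
  have h7 : b = b' := f.injective h6
  have h8 : (a : G) = 1 := by
    apply hfpf a ha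
    rw [ha'] at h5
    exact (eq_mul_inv_iff_mul_eq.1 h5).symm
  have h9 : (b : G) = 1 := by
    apply hfpf b hb
    have h8 : (b : G) = x * b * x⁻¹ := by rw [← hb', h7]
    exact (eq_mul_inv_iff_mul_eq.1 h8).symm
  have h10 : b = 1 := Subtype.ext h9
  rw [h8, h10, map_one]
  simpa using hi

/-- (TI'): `g ∈ N(J)` commuting with `z ∈ C_{Z_J}(x)^#` normalises `⟨x⟩ C(Z_J)` -/
theorem tiStar (h : Eh M L T N₁ N₂ H₁ I ZJ NJ f p x) {z : G} (hz : z ∈ ZJ) (hz1 : z ≠ 1) (hc : x * z = z * x) {g : G}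
    (hg : g ∈ NJ) (hgz : g * z = z * g) :
    g * x * g⁻¹ * x⁻¹ ∈ centralizer (ZJ : Set G) ∨ g * x * g⁻¹ * x ∈ centralizer (ZJ : Set G) := by
  have hxM := h.LM h.xL
  have hxN : x ∈ normalizer (H₁ : Set G) := h.JH ⟨hxM, h.xJ⟩
  have hfpf := four_fpf h.cardH h.sqH hxN (by rw [h.x3]; decide) h.xH
  have hgM : g ∈ M := h.uniq z (h.mem_I hz hc) hz1 g hgz
  have hgN : g ∈ normalizer (H₁ : Set G) := h.JH ⟨hgM, hg⟩
  have hyL : g * x * g⁻¹ ∈ L := CompStandard.forall_of_mem_normalizer (h.nL hgM) _ h.xL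
  have hyN : g * x * g⁻¹ ∈ normalizer (H₁ : Set G) := mul_mem (mul_mem hgN hxN) (inv_mem hgN)
  have hyf : ∀ u ∈ H₁, (g * x * g⁻¹) * u = u * (g * x * g⁻¹) → u = 1 := by
    intro u hu hcu
    have h1 : g⁻¹ * u * g⁻¹⁻¹ ∈ H₁ := CompStandard.forall_of_mem_normalizer ((normalizer (H₁ : Set G)).inv_mem hgN) _ hu
    have h2 := hfpf _ h1 (by
      calc x * (g⁻¹ * u * g⁻¹⁻¹) = g⁻¹ * ((g * x * g⁻¹) * u) * g := by group
        _ = g⁻¹ * (u * (g * x * g⁻¹)) * g := by rw [hcu]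
        _ = g⁻¹ * u * g⁻¹⁻¹ * x := by group)
    exact conj_eq_one_iff.1 h2
  rcases four_same h.cardH h.sqH hxN hfpf hyN hyf with h1 | h1
  · exact Or.inl (h.cent_of (mul_mem hyL (inv_mem h.xL)) h1)
  · exact Or.inr (h.cent_of (mul_mem hyL h.xL) h1)

/-! ### level 2: the input of LEMMA K -/

/-- `3 ∤ |C(V)|` for `V ≤ Z_J` normal in `N(J)` and moved by `x` -/
theorem not_three [Finite G] (hc : OddCyc G) (hx3 : orderOf x = 3) {V : Subgroup G}
    (hxV : x ∈ normalizer (V : Set G)) (hxm : x ∉ centralizer (V : Set G)) :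
    ∀ y ∈ centralizer (V : Set G), orderOf y ≠ 3 := by
  intro y hy hy3
  apply hxm
  rw [mem_centralizer_iff] at hy ⊢
  intro a ha
  exact (AOneSit.p1 hc Nat.prime_three (by decide) hx3 hy3 (fun a ha => (hy a ha).symm)
    (fun a ha => CompStandard.forall_of_mem_normalizer hxV _ ha) a ha).symm

/-- an element of order 3 of the image lifts to an element of order 3 -/
theorem exists_lift [Finite G] {K : Type*} [Group K] (r : NJ →* K) (hr : Function.Surjective r)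
    (h3 : ∀ y : NJ, r y = 1 → orderOf y ≠ 3) {k : K} (hk : orderOf k = 3) :
    ∃ y : NJ, orderOf y = 3 ∧ r y = k := by
  obtain ⟨g, rfl⟩ := hr k
  have hm : ¬ 3 ∣ orderOf (g ^ 3) := by
    intro h
    have hm0 : orderOf (g ^ 3) ≠ 0 := (orderOf_pos _).ne'
    have h4 : orderOf ((g ^ 3) ^ (orderOf (g ^ 3) / 3)) = 3 := orderOf_pow_orderOf_div hm0 h
    refine h3 _ ?_ h4
    rw [map_pow, map_pow]
    have h5 : r g ^ 3 = 1 := by rw [← hk, pow_orderOf_eq_one]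
    rw [h5, one_pow]
  set m := orderOf (g ^ 3) with hmdef
  have hcop : Nat.Coprime m 3 := by
    rw [Nat.coprime_comm]
    exact (Nat.Prime.coprime_iff_not_dvd Nat.prime_three).2 hm
  obtain ⟨k, hk0, hk1⟩ := Nat.chineseRemainder hcop 0 1
  have hmk : m ∣ k := (Nat.modEq_zero_iff_dvd).1 hk0
  have h6 : (g ^ k) ^ 3 = 1 := by
    obtain ⟨c, rfl⟩ := hmk
    rw [← pow_mul, mul_comm (m * c) 3, pow_mul, pow_mul, hmdef, pow_orderOf_eq_one, one_pow]
  have h7 : r (g ^ k) = r g := by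
    have h8 : k % 3 = 1 := by
      have : k ≡ 1 [MOD 3] := hk1
      rw [Nat.ModEq] at this
      exact this
    rw [map_pow, ← pow_mod_orderOf, hk, h8, pow_one]
  refine ⟨g ^ k, ?_, h7⟩
  apply orderOf_eq_prime h6
  intro h8
  rw [h8, map_one] at h7
  rw [← h7, orderOf_one] at hk
  omega

/-- the input of LEMMA K -/
theorem lk [Finite G] (h : Eh M L T N₁ N₂ H₁ I ZJ NJ f p x) {V : Subgroup G} (hV : V ≤ ZJ)
    (hVN : NJ ≤ normalizer (V : Set G)) (hxV : x ∉ centralizer (V : Set G)) {e : G} (he : e ∈ T) (heL : e ∈ L)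
    (hm : e ∉ centralizer (H₁ : Set G)) {H W : Type u} [Group H] [CommGroup W] {r : NJ →* H} {ρ : H →* MulAut W}
    {ι : W →* G} (R : RedRep.Rep NJ V r ρ ι) {K : Subgroup H} (hK : r ⟨x, h.xJ⟩ ∈ K) :
    L32.LemKBase.Lk ρ K (r ⟨x, h.xJ⟩) (r ⟨e, h.TJ he⟩) := by
  have hone : ∀ g : NJ, (g : G) ∈ centralizer (ZJ : Set G) → r g = 1 := by
    intro g hg
    rw [mem_centralizer_iff] at hg
    exact R.r_eq_one.2 fun y hy => (hg y (hV hy)).symm
  have hx3 : orderOf (r ⟨x, h.xJ⟩) = 3 := by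
    apply orderOf_eq_prime
    · rw [← map_pow]
      have h1 : (⟨x, h.xJ⟩ : NJ) ^ 3 = 1 := by
        apply Subtype.ext
        change x ^ 3 = 1
        rw [← h.x3, pow_orderOf_eq_one]
      rw [h1, map_one]
    · intro h1
      apply hxV
      rw [mem_centralizer_iff]
      intro y hy
      exact (R.r_eq_one.1 h1 y hy).symm
  have hn3 : ∀ y : NJ, r y = 1 → orderOf y ≠ 3 := by
    intro y hy h3
    refine not_three h.cyc h.x3 (hVN h.xJ) hxV y ?_ (by rw [Subgroup.orderOf_coe, h3])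
    rw [mem_centralizer_iff]
    intro z hz
    exact (R.r_eq_one.1 hy z hz).symm
  refine ⟨R.inj, ?_, ?_, hK, hx3, ?_, ?_, ?_, ?_, ?_⟩
  · intro v
    apply R.iinj
    rw [map_mul, map_one]
    exact h.sq _ (hV (R.mem v))
  · exact T1Structure.oddCyc_of_surjective (CompBasic.oddCyc_subgroup h.cyc NJ) r R.surj
  · rw [← map_mul]
    exact hone _ (h.e_sq he heL hm)
  · rw [← map_inv, ← map_mul, ← map_mul, ← map_inv]
    rw [eq_comm, ← inv_mul_eq_one, ← map_inv, ← map_mul, inv_inv]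
    apply hone
    have h1 := h.e_x he heL hm
    -- `x (e x e⁻¹)` is conjugate to `(e x e⁻¹) x`
    change x * (e * x * e⁻¹) ∈ _
    have h4 : x * (e * x * e⁻¹ * x) * x⁻¹ = x * (e * x * e⁻¹) := by group
    rw [← h4]
    generalize e * x * e⁻¹ * x = c at h1 ⊢
    rw [mem_centralizer_iff] at h1 ⊢
    intro z hz
    have h5 : x⁻¹ * z * x⁻¹⁻¹ ∈ ZJ :=
      CompStandard.forall_of_mem_normalizer ((normalizer (ZJ : Set G)).inv_mem (h.JZ h.xJ)) _ hz
    have h6 := h1 _ h5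
    calc z * (x * c * x⁻¹) = x * ((x⁻¹ * z * x⁻¹⁻¹) * c) * x⁻¹ := by group
      _ = x * (c * (x⁻¹ * z * x⁻¹⁻¹)) * x⁻¹ := by rw [h6]
      _ = x * c * x⁻¹ * z := by group
  · have h1 : (fx ρ (r ⟨e, h.TJ he⟩)).index ≤ (centralizer ({e} : Set G)).relIndex V := by
      have h2 : fx ρ (r ⟨e, h.TJ he⟩) = (centralizer ({e} : Set G)).comap ι := by
        ext w
        rw [mem_comap, mem_centralizer_singleton_iff, mem_fx, R.fix]
        exact eq_comm
      rw [h2, index_comap, R.range]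
    refine h1.trans (le_trans ?_ (h.index_e he heL hm))
    exact relIndex_le_of_le_right hV index_ne_zero_of_finite
  · intro y hy D hD hyD v hv
    obtain ⟨g, hg, rfl⟩ := exists_lift r R.surj hn3 hy
    rw [R.fix]
    refine h.pstar he heL hm (D := D.map ι) (by rw [Subgroup.orderOf_coe, hg]) ?_ ?_ ?_ _ (mem_map_of_mem ι hv)
    · rintro - ⟨w, -, rfl⟩
      exact hV (R.mem w)
    · rintro - ⟨w, hw, rfl⟩
      exact R.fix.1 (hD hw)
    · rintro - ⟨w, hw, rfl⟩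
      rw [← R.act]
      exact mem_map_of_mem ι (hyD w hw)
  · intro w hw hw1 k hk
    obtain ⟨g, rfl⟩ := R.surj k
    have h1 := R.fix.1 hk
    have h2 : x * ι w = ι w * x := R.fix.1 hw
    have hw1' : ι w ≠ 1 := by
      intro h3
      exact hw1 (R.iinj (by rw [h3, map_one]))
    have hnorm : r g * r ⟨x, h.xJ⟩ * (r g)⁻¹ ∈ zpowers (r ⟨x, h.xJ⟩) := by
      rcases h.tiStar (hV (R.mem w)) hw1' h2 g.2 h1 with h3 | h3
      · have h4 := hone (g * ⟨x, h.xJ⟩ * g⁻¹ * ⟨x, h.xJ⟩⁻¹) h3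
        rw [map_mul, map_mul, map_mul, map_inv, map_inv, mul_inv_eq_one] at h4
        rw [h4]
        exact mem_zpowers _
      · have h4 := hone (g * ⟨x, h.xJ⟩ * g⁻¹ * ⟨x, h.xJ⟩) h3
        rw [map_mul, map_mul, map_mul, map_inv, mul_eq_one_iff_eq_inv] at h4
        rw [h4]
        exact inv_mem (mem_zpowers _)
    have hfin : Finite H := Finite.of_surjective r R.surj
    apply CompStandard.mem_normalizer_of_forall
    intro a ha
    obtain ⟨n, rfl⟩ := mem_zpowers_iff.1 ha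
    have h5 : r g * (r ⟨x, h.xJ⟩) ^ n * (r g)⁻¹ = (r g * r ⟨x, h.xJ⟩ * (r g)⁻¹) ^ n := by rw [conj_zpow]
    rw [h5]
    exact zpow_mem hnorm n

end Eh

end Cfsg.Agent.OddCyclic.BcP.Ee
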