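import Cfsg.Agent.OddCyclic.BcP.Two
import Cfsg.Agent.OddCyclic.BcP.Ee
import Cfsg.Agent.OddCyclic.BcP.Coset

/-!
# S0342, leaf [Bc], type (b'): the data `Eh` of (1.3) from three points

* `exists_iso` : three normal subgroups, pairwise disjoint, `N₃ ≤ N₁ N₂`: an equivariant isomorphism `N₁ ≃* N₂`;
* `eh` : `Ee.Eh` from `Tr` and the coset trick.
-/

set_option autoImplicit false
set_option linter.unusedSectionVars false

namespace Cfsg.Agent.OddCyclic.BcP.EhOf

open Subgroup Cfsg Cfsg.Agent.ZN Cfsg.Agent.MinSimple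
open Cfsg.Agent.OddCyclic.T1Defs (OddCyc)

universe u

variable {G : Type u} [Group G]

/-- an equivariant isomorphism -/
theorem exists_iso {M N₁ N₂ N₃ : Subgroup G} (hc : ∀ a ∈ N₁, ∀ b ∈ N₂, a * b = b * a)
    (h13 : ∀ n ∈ N₁, n ∈ N₃ → n = 1) (h23 : ∀ n ∈ N₂, n ∈ N₃ → n = 1)
    (h3 : ∀ n ∈ N₃, ∃ a ∈ N₁, ∃ b ∈ N₂, n = a * b) (hf1 : Finite N₁) (hf2 : Finite N₂) (hc13 : Nat.card N₁ = Nat.card N₃)
    (hc12 : Nat.card N₁ = Nat.card N₂)
    (m2 : M ≤ normalizer (N₂ : Set G)) (m3 : M ≤ normalizer (N₃ : Set G)) :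
    ∃ f : N₁ ≃* N₂, (∀ a : N₁, (a : G) * f a ∈ N₃) ∧
      (∀ a : N₁, ∀ b : N₂, (a : G) * b ∈ N₃ → b = f a) ∧
      ∀ g ∈ M, ∀ a b : N₁, (b : G) = g * a * g⁻¹ → (f b : G) = g * f a * g⁻¹ := by
  classical
  have huniq : ∀ a : N₁, ∀ b b' : N₂, (a : G) * b ∈ N₃ → (a : G) * b' ∈ N₃ → b = b' := by
    intro a b b' h h'
    have h1 : (b : G)⁻¹ * b' ∈ N₃ := by
      have := mul_mem (inv_mem h) h'
      have e : ((a : G) * b)⁻¹ * (a * b') = (b : G)⁻¹ * b' := by group
      rwa [e] at this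
    have h2 := h23 _ (mul_mem (inv_mem b.2) b'.2) h1
    exact Subtype.ext (inv_mul_eq_one.1 h2)
  -- the projection `N₃ → N₁` is injective
  have hproj : ∀ n : N₃, ∃ a : N₁, ∃ b : N₂, (n : G) = a * b := by
    intro n
    obtain ⟨a, ha, b, hb, h⟩ := h3 n n.2
    exact ⟨⟨a, ha⟩, ⟨b, hb⟩, h⟩
  choose π σ hπ using hproj
  have hinj : Function.Injective π := by
    intro m n hmn
    have h1 := hπ m
    have h2 := hπ n
    rw [hmn] at h1
    have h3 : σ m = σ n := huniq (π n) _ _ (by rw [← h1]; exact m.2) (by rw [← h2]; exact n.2)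
    exact Subtype.ext (by rw [h1, h2, h3])
  have : Finite N₃ := Nat.finite_of_card_ne_zero (by rw [← hc13]; exact Nat.card_pos.ne')
  have hbij : Function.Bijective π :=
    (Nat.bijective_iff_injective_and_card π).2 ⟨hinj, hc13.symm⟩
  have hex : ∀ a : N₁, ∃ b : N₂, (a : G) * b ∈ N₃ := by
    intro a
    obtain ⟨n, rfl⟩ := hbij.2 a
    exact ⟨σ n, by rw [← hπ n]; exact n.2⟩
  choose φ hφ using hex
  have hmul : ∀ a b, φ (a * b) = φ a * φ b := by
    intro a b
    apply huniq (a * b) _ _ (hφ _)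
    have h1 := mul_mem (hφ a) (hφ b)
    have h2 := hc b b.2 (φ a) (φ a).2
    have e : (a : G) * φ a * (b * φ b) = ((a * b : N₁) : G) * ((φ a * φ b : N₂) : G) := by
      rw [Subgroup.coe_mul, Subgroup.coe_mul]
      calc (a : G) * φ a * (b * φ b) = a * ((φ a : G) * b) * φ b := by group
        _ = a * ((b : G) * φ a) * φ b := by rw [h2]
        _ = _ := by group
    rwa [e] at h1
  let ψ : N₁ →* N₂ := MonoidHom.mk' φ hmul
  have hψ : ∀ a, ψ a = φ a := fun _ => rfl
  have hψi : Function.Injective ψ := by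
    rw [injective_iff_map_eq_one]
    intro a ha
    have h1 := hφ a
    rw [← hψ, ha, Subgroup.coe_one, mul_one] at h1
    exact Subtype.ext (h13 a a.2 h1)
  have hψb : Function.Bijective ψ := (Nat.bijective_iff_injective_and_card ψ).2 ⟨hψi, hc12⟩
  refine ⟨MulEquiv.ofBijective ψ hψb, fun a => hφ a, fun a b hab => huniq a _ _ hab (hφ a), ?_⟩
  intro g hg a b hab
  have h1 : g * (φ a : G) * g⁻¹ ∈ N₂ := (mem_normalizer_iff.1 (m2 hg) _).1 (φ a).2
  have h2 : φ b = ⟨_, h1⟩ := by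
    apply huniq b _ _ (hφ b)
    change (b : G) * (g * (φ a : G) * g⁻¹) ∈ N₃
    rw [hab]
    have e : g * (a : G) * g⁻¹ * (g * φ a * g⁻¹) = g * (a * φ a) * g⁻¹ := by group
    rw [e]
    exact (mem_normalizer_iff.1 (m3 hg) _).1 (hφ a)
  exact congrArg Subtype.val h2

variable [Finite G] {S : Sylow 2 G} {T L O₁ O A : Subgroup G} {ξ x : G} {p : Fin 3 → G} {N : Fin 3 → Subgroup G}

theorem jj_eq (h : Tr S T L O₁ O A ξ x p N) : jj T = jj (S : Subgroup G) := by
  have hT2 : IsPGroup 2 T := S.isPGroup'.to_le (by rw [h.T_eq]; exact inf_le_left)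
  have hb : bau T = bau (S : Subgroup G) := SamePt.bau_eq S hT2 h.bau_le
  rw [← ChoiceBase.jj_bau T, hb, ChoiceBase.jj_bau]

/-- `N_G(J) ≤ N_G(Z_J)` -/
theorem normalizer_jj_le (S : Subgroup G) : normalizer (jj S : Set G) ≤ normalizer (zj S : Set G) := by
  refine Block.le_normalizer_of_forall fun g hg z hz => ?_
  rw [ChoiceBase.mem_zj] at hz ⊢
  refine ⟨(mem_normalizer_iff.1 hg z).1 hz.1, ?_, ?_⟩
  · have h1 : (g * z * g⁻¹) ^ 2 = g * z ^ 2 * g⁻¹ := conj_pow
    rw [h1, hz.2.1]; group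
  · intro y hy
    have h2 : g⁻¹ * y * g⁻¹⁻¹ ∈ jj S := (mem_normalizer_iff.1 (inv_mem hg) y).1 hy
    have h3 := hz.2.2 _ h2
    calc y * (g * z * g⁻¹) = g * ((g⁻¹ * y * g⁻¹⁻¹) * z) * g⁻¹ := by group
      _ = g * (z * (g⁻¹ * y * g⁻¹⁻¹)) * g⁻¹ := by rw [h3]
      _ = g * z * g⁻¹ * y := by group

/-- `H_p = C_N(J)` has order 4 -/
theorem card_plane (h : Tr S T L O₁ O A ξ x p N) (i : Fin 3) :
    Nat.card (N i ⊓ centralizer (jj (S : Subgroup G) : Set G) : Subgroup G) = 4 := by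
  classical
  have hpl := (h.np i).plane
  have hp1 := h.p_ne i
  have hsq := h.p_sq i
  have hpN := h.p_N i
  have hxp := (h.np i).xp
  set q := ξ * p i * ξ⁻¹ with hq
  have hqN : q ∈ N i := h.conj_N (h.L_le_M h.ξL) hpN
  have hq1 : q ≠ 1 := fun h1 => hp1 (conj_eq_one_iff.1 h1)
  have hpq : p i ≠ q := by
    intro h1
    apply hxp
    calc ξ * p i = q * ξ := by rw [hq]; group
      _ = p i * ξ := by rw [← h1]
  have hpq1 : p i * q ≠ 1 := by
    intro h1
    apply hpq
    rw [eq_inv_of_mul_eq_one_left h1]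
    exact inv_eq_of_mul_eq_one_left ((h.np i).sq q hqN)
  have hset : ((N i ⊓ centralizer (jj (S : Subgroup G) : Set G) : Subgroup G) : Set G) = {1, p i, q, p i * q} := by
    ext n
    simp only [Set.mem_insert_iff, Set.mem_singleton_iff, SetLike.mem_coe, mem_inf]
    constructor
    · rintro ⟨hn, hJ⟩
      exact (hpl n hn).1 fun j hj => (mem_centralizer_iff.1 hJ j hj)
    · intro hn
      have hnN : n ∈ N i := by
        rcases hn with rfl | rfl | rfl | rfl
        · exact one_mem _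
        · exact hpN
        · exact hqN
        · exact mul_mem hpN hqN
      exact ⟨hnN, mem_centralizer_iff.2 fun j hj => (hpl n hnN).2 hn j hj⟩
  rw [← SetLike.coe_sort_coe, hset, Nat.card_coe_set_eq]
  have hfin : ∀ s : Set G, s.Finite := fun s => Set.toFinite s
  rw [Set.ncard_insert_of_notMem, Set.ncard_insert_of_notMem, Set.ncard_insert_of_notMem, Set.ncard_singleton]
  · rw [Set.mem_singleton_iff]
    intro h1
    exact hp1 (mul_eq_right.1 h1.symm)
  · rw [Set.mem_insert_iff, Set.mem_singleton_iff, not_or]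
    exact ⟨hpq, fun h1 => hq1 (mul_eq_left.1 h1.symm)⟩
  · rw [Set.mem_insert_iff, Set.mem_insert_iff, Set.mem_singleton_iff, not_or, not_or]
    exact ⟨hp1.symm, hq1.symm, hpq1.symm⟩

/-- `|L : C_L(N)| = 168` -/
theorem relIndex_eq (h : Tr S T L O₁ O A ξ x p N) (i : Fin 3) :
    (centralizer (N i : Set G)).relIndex L = 168 := by
  have h1 := (h.np i).faith
  have h2 : (o2 L).subgroupOf L = pCore 2 L := by
    rw [VModule.o2_def, Subgroup.subgroupOf, Subgroup.comap_map_eq_self_of_injective L.subtype_injective]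
  rw [← inf_relIndex_left, h1, relIndex, h2, index_eq_card, h.sev.card]

/-- **the data of (1.3)** -/
theorem eh (h : Tr S T L O₁ O A ξ x p N) (cyc : OddCyc G) {l₂ l₃ : G} (c : Coset.In T (ww N) L l₂ l₃) :
    ∃ f : N 0 ≃* N 1, Ee.Eh (normalizer (L : Set G)) L T (N 0) (N 1)
        (N 0 ⊓ centralizer (jj (S : Subgroup G) : Set G))
        (zj (S : Subgroup G) ⊓ centralizer ((L ⊔ jj (S : Subgroup G) : Subgroup G) : Set G))
        (zj (S : Subgroup G)) (normalizer (jj (S : Subgroup G) : Set G)) f (p 0) ξ ∧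
      (∀ a : N 0, (a : G) * f a ∈ N 2) ∧ ∀ a : N 0, ∀ b : N 1, (a : G) * b ∈ N 2 → b = f a := by
  have h01 : (0 : Fin 3) ≠ 1 := by decide
  have h02 : (0 : Fin 3) ≠ 2 := by decide
  have h12 : (1 : Fin 3) ≠ 2 := by decide
  have hfin : ∀ i, Finite (N i) := fun i => Subtype.finite
  obtain ⟨f, hf1, hf2, hf3⟩ := exists_iso (M := normalizer (L : Set G)) (N₁ := N 0) (N₂ := N 1) (N₃ := N 2)
    (fun a ha b hb => h.comm ha hb) (fun n h1 h2 => h.disj h02 h1 h2)
    (fun n h1 h2 => h.disj h12 h1 h2) (fun n hn => h.mem_ww h01 (h.N_le_ww 2 hn)) (hfin 0) (hfin 1)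
    (by rw [(h.np 0).card, (h.np 2).card]) (by rw [(h.np 0).card, (h.np 1).card]) (h.np 1).norm (h.np 2).norm
  refine ⟨f, ?_, hf1, hf2⟩
  have hJ : jj T = jj (S : Subgroup G) := jj_eq h
  have hZ : zj T = zj (S : Subgroup G) := by
    ext z; rw [ChoiceBase.mem_zj, ChoiceBase.mem_zj, hJ]
  have hJM : ∀ j ∈ jj (S : Subgroup G), j ∈ normalizer (L : Set G) := fun j hj => h.sev.norm hj
  have hconj : ∀ g ∈ normalizer (L : Set G), ∀ a : N 0, g * (a : G) * g⁻¹ ∈ N 0 := fun g hg a => h.conj_N hg a.2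
  -- `j` commutes with `a` iff with `f a`
  have hfJ : ∀ j ∈ jj (S : Subgroup G), ∀ a : N 0, (j * (a : G) = a * j ↔ j * (f a : G) = f a * j) := by
    intro j hj a
    have h1 := hf3 j (hJM j hj) a ⟨_, hconj j (hJM j hj) a⟩ rfl
    constructor
    · intro h2
      have h3 : (⟨_, hconj j (hJM j hj) a⟩ : N 0) = a := Subtype.ext (by
        change j * (a : G) * j⁻¹ = a
        rw [h2, mul_inv_cancel_right])
      rw [h3] at h1
      exact (mul_inv_eq_iff_eq_mul.1 h1.symm)
    · intro h2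
      rw [h2, mul_inv_cancel_right] at h1
      have h3 : (⟨_, hconj j (hJM j hj) a⟩ : N 0) = a := f.injective (Subtype.ext h1)
      have h4 : j * (a : G) * j⁻¹ = a := congrArg Subtype.val h3
      exact (mul_inv_eq_iff_eq_mul.1 h4)
  have hW : ∀ w ∈ ww N, w ∈ centralizer (jj (S : Subgroup G) : Set G) → w ∈ zj (S : Subgroup G) := by
    intro w hw hc
    rw [← hZ]
    exact c.wj_le ⟨hw, by rw [hJ]; exact hc⟩
  have hT2 : IsPGroup 2 T := S.isPGroup'.to_le (by rw [h.T_eq]; exact inf_le_left)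
  have hpJ : p 0 ∈ centralizer (jj (S : Subgroup G) : Set G) := by
    rw [mem_centralizer_iff]
    exact fun j hj => ((h.np 0).plane _ (h.p_N 0)).2 (Or.inr (Or.inl rfl)) j hj
  exact {
    cyc := cyc
    LM := le_normalizer
    nL := le_rfl
    TM := h.T_le_M
    T2 := hT2
    Tsyl := h.syl
    n1 := (h.np 0).norm
    card := (h.np 0).card
    disj := h.inf_eq h01
    eqv := hf3
    HN := inf_le_left
    cardH := card_plane h 0
    pH := ⟨h.p_N 0, hpJ⟩
    p1 := h.p_ne 0
    trans := by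
      intro a ha ha1
      rcases ((h.np 0).mem a).1 ha with h1 | ⟨l, hl, hla⟩
      · exact absurd h1 ha1
      · exact ⟨l⁻¹, inv_mem hl, by rw [hla]; group⟩
    pT := (h.np 0).pT
    TJ := by
      have h1 : T ≤ (S : Subgroup G) := by rw [h.T_eq]; exact inf_le_left
      exact h1.trans (le_normalizer.trans (Basic.normalizer_le_normalizer_jj _))
    JH := by
      refine Block.le_normalizer_of_forall fun g hg n hn => ?_
      refine ⟨h.conj_N hg.1 hn.1, mem_centralizer_iff.2 fun y hy => ?_⟩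
      have h2 : g⁻¹ * y * g⁻¹⁻¹ ∈ jj (S : Subgroup G) := (mem_normalizer_iff.1 (inv_mem hg.2) y).1 hy
      have h3 := mem_centralizer_iff.1 hn.2 _ h2
      calc y * (g * n * g⁻¹) = g * ((g⁻¹ * y * g⁻¹⁻¹) * n) * g⁻¹ := by group
        _ = g * (n * (g⁻¹ * y * g⁻¹⁻¹)) * g⁻¹ := by rw [h3]
        _ = g * n * g⁻¹ * y := by group
    xL := h.ξL
    xJ := h.ξJ
    x3 := h.ξ3
    xH := by
      intro h1
      exact (h.np 0).xp (mem_centralizer_iff.1 h1 (p 0) ⟨h.p_N 0, hpJ⟩).symm
    sq := by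
      intro a ha
      rw [← pow_two]
      exact (ChoiceBase.mem_zj.1 ha).2.1
    JZ := normalizer_jj_le _
    HZ := fun w hw => hW w (h.N_le_ww 0 hw.1) hw.2
    fZ := by
      intro a ha
      refine hW _ (h.N_le_ww 1 (f a).2) (mem_centralizer_iff.2 fun j hj => ?_)
      exact (hfJ j hj a).1 (mem_centralizer_iff.1 ha.2 j hj)
    IZ := inf_le_left
    LI := by
      intro g hg i hi
      exact mem_centralizer_iff.1 hi.2 g (mem_sup_left hg)
    dec := by
      intro z hz
      rw [← hZ] at hz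
      obtain ⟨w, hw, i, hi, rfl⟩ := c.exists_mul hz
      obtain ⟨a, ha, b, hb, rfl⟩ := h.mem_ww h01 hw.1
      have hwJ := hw.2
      rw [hJ] at hwJ
      have h1 := fun j hj => h.split h01 (hJM j hj) ha hb (mem_centralizer_iff.1 hwJ j hj)
      obtain ⟨b', hb'⟩ := f.surjective ⟨b, hb⟩
      have hb'' : (f b' : G) = b := congrArg Subtype.val hb'
      refine ⟨⟨a, ha⟩, b', ⟨ha, mem_centralizer_iff.2 fun j hj => (h1 j hj).1⟩,
        ⟨b'.2, mem_centralizer_iff.2 fun j hj => ?_⟩, i, ?_, ?_⟩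
      · rw [hfJ j hj b', hb'']
        exact (h1 j hj).2
      · rw [← hZ, ← hJ]
        exact hi
      · rw [hb'']
    uniq := by
      intro i hi hi1 g hg
      have h1 : L ⊔ jj (S : Subgroup G) ≤ centralizer ({i} : Set G) := by
        intro y hy
        rw [mem_centralizer_singleton_iff]
        exact mem_centralizer_iff.1 hi.2 y hy
      refine h.uniq (centralizer ({i} : Set G)) ?_ (le_sup_left.trans h1) (le_sup_right.trans h1) ?_
      · intro h2
        apply hi1
        have h3 : zpowers i ≤ o2 (centralizer ({i} : Set G)) := by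
          refine Block.le_o2 ?_ ?_ ?_
          · have h4 := (ChoiceBase.mem_zj.1 hi.1).2.1
            intro y
            obtain ⟨n, hn⟩ := mem_zpowers_iff.1 y.2
            refine ⟨1, Subtype.ext ?_⟩
            rw [pow_one]
            change (y : G) ^ 2 = 1
            rw [← hn, ← zpow_natCast, ← zpow_mul, mul_comm, zpow_mul, zpow_natCast, h4, one_zpow]
          · rw [zpowers_le, mem_centralizer_singleton_iff]
          · refine Block.le_normalizer_of_forall fun y hy n hn => ?_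
            obtain ⟨k, rfl⟩ := mem_zpowers_iff.1 hn
            rw [mem_centralizer_singleton_iff] at hy
            have h5 : y * i * y⁻¹ = i := by rw [hy, mul_inv_cancel_right]
            rw [← conj_zpow, h5]
            exact zpow_mem (mem_zpowers i) k
        rw [h2, le_bot_iff, zpowers_eq_bot] at h3
        exact h3
      · rw [mem_centralizer_singleton_iff]; exact hg
    idx8 := by rw [relIndex_eq h 0]; norm_num }

end Cfsg.Agent.OddCyclic.BcP.EhOf
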