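import Cfsg.Agent.OddCyclic.T1Sl2
import Cfsg.Agent.OddCyclic.T1Socle
import Cfsg.Agent.OddCyclic.FFBasic
import Cfsg.Agent.OddCyclic.FFSz
import Cfsg.Agent.SmallSimple.Simple168Max
import Cfsg.Agent.Lib.SylowNormalInf

/-!
# S0342, leaf [Bc], type (b'), (4.7)

`SLike`: two Sylow 2-subgroups generate, the elements of order 3 of the normaliser of a Sylow 2-subgroup `T` generate
one subgroup modulo `T` (`SL₂(2^n)`). `LLike`: the group of order 168. Both are inherited by extensions with kernel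
a 2-group (`pull`). `main`: `S ≤ B₂`, `B₂` a `3'`-group normalising `K₁`, `K₁` one of them, `S` normalises `R = O⟨x⟩ ≤ K₁`:
`B₂` normalises `(S ∩ K₁)R`, hence `W = ⟨V^R⟩`.
-/

set_option autoImplicit false
set_option linter.unusedSectionVars false

namespace Cfsg.Agent.OddCyclic.BcP.NormW

open Subgroup
open scoped Pointwise

/-- two Sylow 2-subgroups generate, and the normaliser of one has, modulo it, at most one subgroup of order 3 -/
structure SLike (K : Type*) [Group K] : Prop where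
  gen : ∀ (D : Subgroup K) (T₁ T₂ : Sylow 2 K), (T₁ : Subgroup K) ≤ D → (T₂ : Subgroup K) ≤ D → T₁ ≠ T₂ → D = ⊤
  tor : ∀ (T : Sylow 2 K) (y z : K), y • T = T → z • T = T → y * y * y = 1 → z * z * z = 1 → y ≠ 1 →
    z ∈ T ∨ z * y⁻¹ ∈ T ∨ z * y ∈ T

/-- the overgroups of a Sylow 2-subgroup in a group of order 168 -/
structure LLike (K : Type*) [Group K] : Prop where
  bot : ∀ (D : Subgroup K) (T : Sylow 2 K), (T : Subgroup K) ≤ D → (∀ g ∈ D, orderOf g ≠ 3) → D = T
  two : ∀ T : Sylow 2 K, ∃ D₁ D₂ : Subgroup K, ∀ D : Subgroup K, (T : Subgroup K) ≤ D → D ≠ ⊤ →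
    (∃ g ∈ D, orderOf g = 3) → D = D₁ ∨ D = D₂

/-! ### the instances -/

section sl

open Matrix Cfsg.Agent.OddCyclic.T1Sl2

variable {F : Type*} [Field F] [Fintype F] [CharP F 2]

theorem sl_std {y z : SpecialLinearGroup (Fin 2) F} (hy : y 1 0 = 0) (hz : z 1 0 = 0) (hy3 : y * y * y = 1)
    (hz3 : z * z * z = 1) (hy1 : y ≠ 1) : z ∈ T1Sl2.SU F ∨ z * y⁻¹ ∈ T1Sl2.SU F ∨ z * y ∈ T1Sl2.SU F := by
  have hda := det y
  rw [hy, mul_zero, sub_zero] at hda
  have ha3 : y 0 0 * y 0 0 * y 0 0 = 1 := by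
    have h := congrArg (fun g : SpecialLinearGroup (Fin 2) F => g 0 0) hy3
    simp only [mul00, one00, hy, mul_zero, add_zero] at h
    exact h
  have hc3 : z 0 0 * z 0 0 * z 0 0 = 1 := by
    have h := congrArg (fun g : SpecialLinearGroup (Fin 2) F => g 0 0) hz3
    simp only [mul00, one00, hz, mul_zero, add_zero] at h
    exact h
  have ha1 : y 0 0 ≠ 1 := by
    intro h
    apply hy1
    have h1 : y ∈ T1Sl2.SU F := mem_SU.2 ⟨h, hy⟩
    have h2 := SU_sq h1
    have h3 : y = y * y * y := by rw [h2, one_mul]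
    rw [h3, hy3]
  have ha2 : y 0 0 * y 0 0 + y 0 0 + 1 = 0 := by
    have h1 : (y 0 0 - 1) * (y 0 0 * y 0 0 + y 0 0 + 1) = 0 := by
      have : (y 0 0 - 1) * (y 0 0 * y 0 0 + y 0 0 + 1) = y 0 0 * y 0 0 * y 0 0 - 1 := by ring
      rw [this, ha3, sub_self]
    rcases mul_eq_zero.1 h1 with h | h
    · exact absurd (sub_eq_zero.1 h) ha1
    · exact h
  have hprod : (z 0 0 - 1) * ((z 0 0 - y 0 0) * (z 0 0 - y 0 0 * y 0 0)) = 0 := by
    have : (z 0 0 - 1) * ((z 0 0 - y 0 0) * (z 0 0 - y 0 0 * y 0 0)) =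
      (z 0 0 * z 0 0 * z 0 0 - 1) - (y 0 0 * y 0 0 * y 0 0 - 1) -
        (y 0 0 * y 0 0 + y 0 0 + 1) * (z 0 0 * z 0 0) + (y 0 0 * y 0 0 + y 0 0 + 1) * (z 0 0 * y 0 0) := by ring
    rw [this, ha2, ha3, hc3]
    ring
  rcases mul_eq_zero.1 hprod with h | h
  · exact Or.inl (mem_SU.2 ⟨sub_eq_zero.1 h, hz⟩)
  rcases mul_eq_zero.1 h with h | h
  · right; left
    refine mem_SU.2 ⟨?_, ?_⟩
    · rw [mul00, inv00, inv10, hy, neg_zero, mul_zero, add_zero, sub_eq_zero.1 h, hda]
    · rw [mul10, inv00, inv10, hy, hz, neg_zero, mul_zero, zero_mul, add_zero]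
  · right; right
    refine mem_SU.2 ⟨?_, ?_⟩
    · rw [mul00, hy, mul_zero, add_zero, sub_eq_zero.1 h, ha3]
    · rw [mul10, hy, hz, mul_zero, zero_mul, add_zero]

theorem sl : SLike (SpecialLinearGroup (Fin 2) F) := by
  refine ⟨fun D T₁ T₂ h1 h2 hne => ?_, ?_⟩
  · rw [eq_top_iff, ← T1Sl2.sylow_sup hne]
    exact sup_le h1 h2
  · intro T y z hyT hzT hy3 hz3 hy1
    obtain ⟨g, rfl⟩ := exists_smul_SU T
    have key : ∀ w : SpecialLinearGroup (Fin 2) F, w • (g • T1Sl2.SU F) = g • T1Sl2.SU F → (g⁻¹ * w * g) 1 0 = 0 := by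
      intro w hw
      rw [← smul_SU_eq, mul_smul, mul_smul, hw, ← mul_smul, inv_mul_cancel, one_smul]
    have h3 : ∀ w : SpecialLinearGroup (Fin 2) F, w * w * w = 1 → (g⁻¹ * w * g) * (g⁻¹ * w * g) * (g⁻¹ * w * g) = 1 := by
      intro w hw
      have : (g⁻¹ * w * g) * (g⁻¹ * w * g) * (g⁻¹ * w * g) = g⁻¹ * (w * w * w) * g := by group
      rw [this, hw]; group
    have h1 : g⁻¹ * y * g ≠ 1 := by
      intro h
      apply hy1
      have : y = g * (g⁻¹ * y * g) * g⁻¹ := by group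
      rw [this, h]; group
    rcases sl_std (key y hyT) (key z hzT) (h3 y hy3) (h3 z hz3) h1 with h | h | h
    · left
      exact FFSz.mem_smul.2 h
    · right; left
      apply FFSz.mem_smul.2
      have : g⁻¹ * (z * y⁻¹) * g = g⁻¹ * z * g * (g⁻¹ * y * g)⁻¹ := by group
      rw [this]; exact h
    · right; right
      apply FFSz.mem_smul.2
      have : g⁻¹ * (z * y) * g = g⁻¹ * z * g * (g⁻¹ * y * g) := by group
      rw [this]; exact h

end sl

section l

variable {H : Type*} [Group H] [Finite H] [IsSimpleGroup H]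

open Cfsg.Agent.SmallSimple

theorem l168 (h : Nat.card H = 168) : LLike H := by
  have : Fact (Nat.Prime 3) := ⟨Nat.prime_three⟩
  have h8 : ∀ (D : Subgroup H) (T : Sylow 2 H), (T : Subgroup H) ≤ D → 8 ∣ Nat.card D := by
    intro D T hTD
    have h1 := Subgroup.card_dvd_of_le hTD
    rwa [Simple168.card_of_sylow_two h T] at h1
  refine ⟨fun D T hTD h3 => ?_, fun T => ?_⟩
  · have hn3 : ¬ 3 ∣ Nat.card D := by
      intro h4
      obtain ⟨x, hx⟩ := exists_prime_orderOf_dvd_card' 3 h4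
      exact h3 x x.2 (by rw [orderOf_coe]; exact hx)
    have hidx := D.card_mul_index
    rw [h] at hidx
    obtain ⟨k, hk⟩ := h8 D T hTD
    have hki : k * D.index = 21 := by
      rw [hk] at hidx
      have : 8 * (k * D.index) = 8 * 21 := by rw [← mul_assoc, hidx]
      exact Nat.eq_of_mul_eq_mul_left (by norm_num) this
    have hk1 : k = 1 := by
      have hkd : k ∣ 21 := Dvd.intro _ hki
      have hkle : k ≤ 21 := Nat.le_of_dvd (by norm_num) hkd
      have hDtop : D ≠ ⊤ := by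
        rintro rfl
        apply hn3
        rw [Subgroup.card_top, h]; norm_num
      have hidx7 := Simple168Klein.index_ge_seven h D hDtop
      have hk3 : k ≤ 3 := by
        by_contra hcon
        have : 4 ≤ k := by omega
        have : 4 * 7 ≤ k * D.index := Nat.mul_le_mul this hidx7
        omega
      have hkn3 : k ≠ 3 := by
        rintro rfl
        exact hn3 (by rw [hk]; norm_num)
      interval_cases k
      · norm_num at hkd
      · rfl
      · norm_num at hkd
      · exact absurd rfl hkn3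
    rw [hk1, mul_one] at hk
    exact (Subgroup.eq_of_le_of_card_ge hTD (by rw [hk, Simple168.card_of_sylow_two h T])).symm
  · obtain ⟨U₁, U₂, -, -, -, -, -, honly⟩ := Simple168Klein.exists_pair h T
    refine ⟨normalizer (U₁ : Set H), normalizer (U₂ : Set H), fun D hTD hD ⟨g, hg, hg3⟩ => ?_⟩
    have h3 : 3 ∣ Nat.card D := by
      rw [← hg3, ← Subgroup.orderOf_mk g hg]
      exact orderOf_dvd_natCard _
    have h24 : 24 ∣ Nat.card D := by
      have := Nat.Coprime.mul_dvd_of_dvd_of_dvd (by norm_num : Nat.Coprime 8 3) (h8 D T hTD) h3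
      simpa using this
    have hc : Nat.card D = 24 := by
      have hidx := D.card_mul_index
      rw [h] at hidx
      obtain ⟨k, hk⟩ := h24
      rw [hk] at hidx
      have h1 : k * D.index = 7 := by
        have : 24 * (k * D.index) = 24 * 7 := by rw [← mul_assoc, hidx]
        exact Nat.eq_of_mul_eq_mul_left (by norm_num) this
      rcases (Nat.dvd_prime (by norm_num : Nat.Prime 7)).1 (Dvd.intro _ h1 : k ∣ 7) with h2 | h2
      · rw [hk, h2]
      · exfalso
        apply hD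
        rw [← Subgroup.index_eq_one]
        rw [h2] at h1
        omega
    obtain ⟨U, hU, hDU⟩ := Simple168Max.exists_kleinFour h D (Or.inr hc)
    have hDU' : D = normalizer (U : Set H) :=
      Subgroup.eq_of_le_of_card_ge hDU (by rw [Simple168Klein.card_normalizer h hU, hc])
    have hUT : U ≤ T := Simple168Klein.le_sylow_of_le_normalizer
      (IsPGroup.of_card (n := 2) hU.card_four) T (hTD.trans hDU)
    rcases honly U hUT hU with h5 | h5
    · left; rw [hDU', h5]
    · right; rw [hDU', h5]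

end l

/-! ### extensions by 2-groups -/

section pull

variable {K H : Type*} [Group K] [Finite K] [Group H]

theorem not_mem_of_three {N : Subgroup K} (hN : IsPGroup 2 N) {y : K} (hy3 : y * y * y = 1) (hy1 : y ≠ 1) : y ∉ N := by
  intro hy
  obtain ⟨k, hk⟩ := hN ⟨y, hy⟩
  have h1 : y ^ 2 ^ k = 1 := congrArg Subtype.val hk
  have h2 : y ^ 3 = 1 := by rw [pow_succ, pow_two]; exact hy3
  have h3 : Nat.gcd (2 ^ k) 3 = 1 := Nat.Coprime.pow_left k (by norm_num)
  apply hy1
  rw [← pow_one y, ← h3, pow_gcd_eq_one]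
  exact ⟨h1, h2⟩

theorem ker_le (π : K →* H) (hker : IsPGroup 2 π.ker) (T : Sylow 2 K) : π.ker ≤ T := by
  have h1 : IsPGroup 2 (T ⊔ π.ker : Subgroup K) := IsPGroup.to_sup_of_normal_right T.isPGroup' hker
  have h2 : (T ⊔ π.ker : Subgroup K) = T := T.is_maximal' h1 le_sup_left
  rw [← h2]
  exact le_sup_right

theorem comap_map (π : K →* H) {D : Subgroup K} (h : π.ker ≤ D) : (D.map π).comap π = D := by
  rw [Subgroup.comap_map_eq]
  exact sup_eq_left.2 h

theorem syl_inj [Fact (Nat.Prime 2)] [Finite H] (π : K →* H) (hπ : Function.Surjective π) (hker : IsPGroup 2 π.ker)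
    {T₁ T₂ : Sylow 2 K}
    (h : (T₁.mapSurjective hπ : Sylow 2 H) = T₂.mapSurjective hπ) : T₁ = T₂ := by
  apply Sylow.ext
  rw [← comap_map π (ker_le π hker T₁), ← comap_map π (ker_le π hker T₂)]
  have h1 : (T₁ : Subgroup K).map π = (T₂ : Subgroup K).map π := congrArg (fun T : Sylow 2 H => (T : Subgroup H)) h
  rw [h1]

theorem mem_of_map [Fact (Nat.Prime 2)] (π : K →* H) (hker : IsPGroup 2 π.ker) {T : Sylow 2 K} {z : K}
    (h : π z ∈ (T : Subgroup K).map π) : z ∈ T := by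
  have h1 : z ∈ ((T : Subgroup K).map π).comap π := h
  rw [comap_map π (ker_le π hker T)] at h1
  exact h1

theorem SLike.pull (h : SLike H) (π : K →* H) (hπ : Function.Surjective π) (hker : IsPGroup 2 π.ker) : SLike K := by
  have : Fact (Nat.Prime 2) := ⟨Nat.prime_two⟩
  have : Finite H := Finite.of_surjective π hπ
  refine ⟨fun D T₁ T₂ h1 h2 hne => ?_, fun T y z hy hz hy3 hz3 hy1 => ?_⟩
  · have h3 := h.gen (D.map π) (T₁.mapSurjective hπ) (T₂.mapSurjective hπ) (Subgroup.map_mono h1) (Subgroup.map_mono h2)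
      (fun h4 => hne (syl_inj π hπ hker h4))
    rw [← comap_map π ((ker_le π hker T₁).trans h1), h3, Subgroup.comap_top]
  · have key : ∀ w : K, w • T = T → π w • (T.mapSurjective hπ) = T.mapSurjective hπ := by
      intro w hw
      apply Sylow.ext
      ext v
      change v ∈ π w • (T.mapSurjective hπ) ↔ v ∈ T.mapSurjective hπ
      rw [FFSz.mem_smul]
      obtain ⟨u, rfl⟩ := hπ v
      rw [← map_inv, ← map_mul, ← map_mul]
      constructor
      · intro h1
        have h2 : w⁻¹ * u * w ∈ T := mem_of_map π hker h1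
        have h3 : u ∈ w • T := FFSz.mem_smul.2 h2
        rw [hw] at h3
        exact Subgroup.mem_map_of_mem π h3
      · intro h1
        have h2 : u ∈ T := mem_of_map π hker h1
        rw [← hw] at h2
        exact Subgroup.mem_map_of_mem π (FFSz.mem_smul.1 h2)
    have hy1' : π y ≠ 1 := fun h1 => not_mem_of_three hker hy3 hy1 (MonoidHom.mem_ker.2 h1)
    rcases h.tor (T.mapSurjective hπ) (π y) (π z) (key y hy) (key z hz) (by rw [← map_mul, ← map_mul, hy3, map_one])
      (by rw [← map_mul, ← map_mul, hz3, map_one]) hy1' with h1 | h1 | h1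
    · exact Or.inl (mem_of_map π hker h1)
    · rw [← map_inv, ← map_mul] at h1
      exact Or.inr (Or.inl (mem_of_map π hker h1))
    · rw [← map_mul] at h1
      exact Or.inr (Or.inr (mem_of_map π hker h1))

theorem LLike.pull (h : LLike H) (π : K →* H) (hπ : Function.Surjective π) (hker : IsPGroup 2 π.ker) : LLike K := by
  have : Fact (Nat.Prime 2) := ⟨Nat.prime_two⟩
  have : Fact (Nat.Prime 3) := ⟨Nat.prime_three⟩
  have : Finite H := Finite.of_surjective π hπ
  refine ⟨fun D T hTD h3 => ?_, fun T => ?_⟩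
  · have h1 := h.bot (D.map π) (T.mapSurjective hπ) (Subgroup.map_mono hTD) (by
      rintro _ ⟨g, hg, rfl⟩ h4
      obtain ⟨k, hk⟩ : 3 ∣ orderOf g := h4 ▸ orderOf_map_dvd π g
      have hg0 : 0 < orderOf g := orderOf_pos g
      have hk0 : k ≠ 0 := by rintro rfl; omega
      exact h3 (g ^ k) (pow_mem hg k) (by
        rw [orderOf_pow' g hk0, hk, Nat.gcd_mul_left_left, Nat.mul_div_cancel _ (Nat.pos_of_ne_zero hk0)]))
    have h2 : D.map π = (T : Subgroup K).map π := h1
    rw [← comap_map π ((ker_le π hker T).trans hTD), h2, comap_map π (ker_le π hker T)]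
  · obtain ⟨D₁, D₂, h12⟩ := h.two (T.mapSurjective hπ)
    refine ⟨D₁.comap π, D₂.comap π, fun D hTD hD ⟨g, hg, hg3⟩ => ?_⟩
    have hDc := comap_map π ((ker_le π hker T).trans hTD)
    have hg3' : g * g * g = 1 := by
      have h1 : g ^ 3 = 1 := hg3 ▸ pow_orderOf_eq_one g
      rw [pow_succ, pow_two] at h1
      exact h1
    have hg1 : g ≠ 1 := by
      rintro rfl
      rw [orderOf_one] at hg3
      omega
    rcases h12 (D.map π) (Subgroup.map_mono hTD) (fun h1 => hD (by rw [← hDc, h1, Subgroup.comap_top]))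
      ⟨π g, Subgroup.mem_map_of_mem π hg, orderOf_eq_prime (by rw [← map_pow, ← hg3, pow_orderOf_eq_one, map_one])
        (fun h1 => not_mem_of_three hker hg3' hg1 (MonoidHom.mem_ker.2 h1))⟩ with h1 | h1
    · left; rw [← hDc, h1]
    · right; rw [← hDc, h1]

end pull

/-! ### the core -/

section core

variable {K : Type*} [Group K] [Finite K]

/-- `UR` is proper -/
theorem sup_ne_top {H : Type*} [Group H] [IsSimpleGroup H] (π : K →* H) (hπ : Function.Surjective π)
    (h2 : 2 ∣ Nat.card H) {U R O : Subgroup K} {x : K} (hker : π.ker ≤ R) (hUR : U ≤ normalizer (R : Set K))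
    (hO : IsPGroup 2 O) (hRO : R ≤ normalizer (O : Set K)) (hR : R = O ⊔ zpowers x) (hx3 : x * x * x = 1)
    (hx1 : π x ≠ 1) : U ⊔ R ≠ ⊤ := by
  intro htop
  have : Fact (Nat.Prime 2) := ⟨Nat.prime_two⟩
  have hRn : R.Normal := by
    rw [← normalizer_eq_top_iff, eq_top_iff, ← htop]
    exact sup_le hUR le_normalizer
  have hxR : x ∈ R := by
    rw [hR]; exact (le_sup_right : zpowers x ≤ _) (mem_zpowers x)
  have hRt : R = ⊤ := by
    rcases (hRn.map π hπ).eq_bot_or_eq_top with h | h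
    · exfalso
      apply hx1
      have h1 := Subgroup.mem_map_of_mem π hxR
      rw [h, Subgroup.mem_bot] at h1
      exact h1
    · rw [← comap_map π hker, h, Subgroup.comap_top]
  have hOn : O.Normal := by
    rw [← normalizer_eq_top_iff, eq_top_iff, ← hRt]
    exact hRO
  have h3 : (π x) ^ 3 = 1 := by rw [← map_pow, pow_succ, pow_two, hx3, map_one]
  rcases (hOn.map π hπ).eq_bot_or_eq_top with h | h
  · have h4 : (⊤ : Subgroup H) = zpowers (π x) := by
      rw [← Subgroup.map_top_of_surjective π hπ, ← hRt, hR, Subgroup.map_sup, h, bot_sup_eq, MonoidHom.map_zpowers]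
    have h5 : Nat.card H ∣ 3 := by
      rw [← Subgroup.card_top (G := H), h4, Nat.card_zpowers]
      exact orderOf_dvd_of_pow_eq_one h3
    have h6 : (2 : ℕ) ∣ 3 := h2.trans h5
    omega
  · have h4 : IsPGroup 2 (⊤ : Subgroup H) := h ▸ hO.map π
    have h5 : IsPGroup 2 H := h4.of_equiv Subgroup.topEquiv
    obtain ⟨k, hk⟩ := h5 (π x)
    have h6 : Nat.gcd (2 ^ k) 3 = 1 := Nat.Coprime.pow_left k (by norm_num)
    apply hx1
    rw [← pow_one (π x), ← h6, pow_gcd_eq_one]
    exact ⟨hk, h3⟩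

theorem mem_aut_smul {β : MulAut K} {Q : Sylow 2 K} {x : K} : x ∈ β • Q ↔ β⁻¹ x ∈ Q := by
  have : x ∈ β • Q ↔ x ∈ β • (Q : Subgroup K) := by
    rw [← Sylow.pointwise_smul_def]; rfl
  rw [this, Subgroup.mem_pointwise_smul_iff_inv_smul_mem, MulAut.smul_def]
  rfl

theorem aut_smul_le {β : MulAut K} {Q : Sylow 2 K} {D : Subgroup K} (hQ : (Q : Subgroup K) ≤ D)
    (hβ : ∀ d ∈ D, β d ∈ D) : ((β • Q : Sylow 2 K) : Subgroup K) ≤ D := by
  intro x hx
  have h1 : β⁻¹ x ∈ Q := mem_aut_smul.1 hx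
  have h2 := hβ _ (hQ h1)
  rwa [MulAut.apply_inv_self] at h2

/-- rank one -/
theorem coreS (h : SLike K) {T : Sylow 2 K} {D R O : Subgroup K} {x : K} (hTD : (T : Subgroup K) ≤ D)
    (hD : ∀ g ∈ D, orderOf g ≠ 3) (hx3 : x * x * x = 1) (hx1 : x ≠ 1) (hR : R = O ⊔ zpowers x)
    (hO : IsPGroup 2 O) (hE : (T : Subgroup K) ⊔ R ≠ ⊤) {β : MulAut K} (hβ : ∀ d ∈ D, β d ∈ D) :
    ∀ e ∈ (T : Subgroup K) ⊔ R, β e ∈ (T : Subgroup K) ⊔ R := by
  have : Fact (Nat.Prime 2) := ⟨Nat.prime_two⟩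
  have : Fact (Nat.Prime 3) := ⟨Nat.prime_three⟩
  have hox : orderOf x = 3 := orderOf_eq_prime (by rw [pow_succ, pow_two, hx3]) hx1
  have hxR : x ∈ R := by rw [hR]; exact (le_sup_right : zpowers x ≤ _) (mem_zpowers x)
  have hOR : O ≤ R := by rw [hR]; exact le_sup_left
  have hDt : D ≠ ⊤ := by
    rintro rfl
    exact hD x trivial hox
  have hβT : β • T = T := by
    by_contra hne
    exact hDt (h.gen D _ _ (aut_smul_le hTD hβ) hTD hne)
  have hEn : ∀ e ∈ (T : Subgroup K) ⊔ R, e • T = T := by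
    intro e he
    by_contra hne
    apply hE
    refine h.gen _ (e • T) T ?_ le_sup_left hne
    intro y hy
    have h1 : e⁻¹ * y * e ∈ T := FFSz.mem_smul.1 hy
    have h2 : e⁻¹ * y * e ∈ (T : Subgroup K) ⊔ R := (le_sup_left : (T : Subgroup K) ≤ _) h1
    have h3 := mul_mem (mul_mem he h2) (inv_mem he)
    have : e * (e⁻¹ * y * e) * e⁻¹ = y := by group
    rwa [this] at h3
  have hOT : O ≤ T := by
    have h1 : O ≤ normalizer ((T : Subgroup K) : Set K) := fun o ho =>
      Sylow.smul_eq_iff_mem_normalizer.1 (hEn o ((le_sup_right : R ≤ _) (hOR ho)))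
    have h2 : IsPGroup 2 (O ⊔ T : Subgroup K) := IsPGroup.to_sup_of_normal_right' hO T.isPGroup' h1
    have h3 : (O ⊔ T : Subgroup K) = T := T.is_maximal' h2 le_sup_right
    rw [← h3]
    exact le_sup_left
  have hxE : x ∈ (T : Subgroup K) ⊔ R := (le_sup_right : R ≤ _) hxR
  have hβx : β x • T = T := by
    apply Sylow.ext
    ext y
    change y ∈ β x • T ↔ y ∈ T
    have h4 : ∀ y : K, y ∈ T ↔ β⁻¹ y ∈ T := by
      intro y
      conv_lhs => rw [← hβT]
      exact mem_aut_smul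
    rw [FFSz.mem_smul, h4, map_mul, map_mul, ← map_inv, MulAut.inv_apply_self, MulAut.inv_apply_self]
    rw [h4 y]
    have h5 := hEn x hxE
    constructor
    · intro h6
      have h7 : β⁻¹ y ∈ x • T := FFSz.mem_smul.2 h6
      rwa [h5] at h7
    · intro h6
      rw [← h5] at h6
      exact FFSz.mem_smul.1 h6
  have hβx3 : β x * β x * β x = 1 := by rw [← map_mul, ← map_mul, hx3, map_one]
  have hβxE : β x ∈ (T : Subgroup K) ⊔ R := by
    rcases h.tor T x (β x) (hEn x hxE) hβx hx3 hβx3 hx1 with h1 | h1 | h1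
    · exact (le_sup_left : (T : Subgroup K) ≤ _) h1
    · have h2 := mul_mem ((le_sup_left : (T : Subgroup K) ≤ _ ⊔ R) h1) hxE
      rwa [inv_mul_cancel_right] at h2
    · have h2 := mul_mem ((le_sup_left : (T : Subgroup K) ≤ _ ⊔ R) h1) (inv_mem hxE)
      rwa [mul_inv_cancel_right] at h2
  have hEeq : (T : Subgroup K) ⊔ R = (T : Subgroup K) ⊔ zpowers x := by
    apply le_antisymm
    · refine sup_le le_sup_left ?_
      rw [hR]
      exact sup_le (hOT.trans le_sup_left) le_sup_right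
    · exact sup_le le_sup_left ((zpowers_le.2 hxR).trans le_sup_right)
  have hle : (T : Subgroup K) ⊔ zpowers x ≤ ((T : Subgroup K) ⊔ R).comap β.toMonoidHom := by
    refine sup_le ?_ (zpowers_le.2 hβxE)
    intro t ht
    have h1 : β t ∈ β • T := mem_aut_smul.2 (by rw [MulAut.inv_apply_self]; exact ht)
    rw [hβT] at h1
    exact (le_sup_left : (T : Subgroup K) ≤ _) h1
  intro e he
  rw [hEeq] at he
  exact hle he

/-- the order 168 case: an image of `TR` under an automorphism fixing `D` is one of two -/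
theorem coreL (h : LLike K) (T : Sylow 2 K) : ∃ D₁ D₂ : Subgroup K, ∀ (D R : Subgroup K) (x : K) (β : MulAut K),
    (T : Subgroup K) ≤ D → (∀ g ∈ D, orderOf g ≠ 3) → x * x * x = 1 → x ≠ 1 → x ∈ R → (T : Subgroup K) ⊔ R ≠ ⊤ →
    (∀ d ∈ D, β d ∈ D) → ((T : Subgroup K) ⊔ R).map β.toMonoidHom = D₁ ∨ ((T : Subgroup K) ⊔ R).map β.toMonoidHom = D₂ := by
  have : Fact (Nat.Prime 3) := ⟨Nat.prime_three⟩
  obtain ⟨D₁, D₂, h12⟩ := h.two T
  refine ⟨D₁, D₂, fun D R x β hTD hD hx3 hx1 hxR hE hβ => ?_⟩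
  have hox : orderOf x = 3 := orderOf_eq_prime (by rw [pow_succ, pow_two, hx3]) hx1
  have hDT := h.bot D T hTD hD
  have hβT : β • T = T := by
    apply Sylow.ext
    rw [← hDT]
    exact (h.bot D (β • T) (aut_smul_le hTD hβ) hD).symm
  refine h12 _ ?_ ?_ ⟨β x, ⟨x, (le_sup_right : R ≤ _) hxR, rfl⟩, ?_⟩
  · intro t ht
    have h1 : β⁻¹ t ∈ T := by
      rw [← mem_aut_smul, hβT]; exact ht
    exact ⟨β⁻¹ t, (le_sup_left : (T : Subgroup K) ≤ _) h1, MulAut.apply_inv_self _ _ _⟩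
  · intro h1
    apply hE
    rw [eq_top_iff]
    intro y _
    have h2 : β y ∈ ((T : Subgroup K) ⊔ R).map β.toMonoidHom := by rw [h1]; trivial
    obtain ⟨w, hw, h3⟩ := h2
    have h4 : w = y := β.injective h3
    rw [← h4]; exact hw
  · exact (MulEquiv.orderOf_eq β x).trans hox

end core

/-! ### in the group -/

section main

variable {G : Type*} [Group G] [Finite G] {Q K₁ B₂ R V W O : Subgroup G} {x : G}

theorem exists_aut {b : G} (hb : b ∈ normalizer (K₁ : Set G)) :
    ∃ β : MulAut K₁, ∀ k : K₁, (β k : G) = b * k * b⁻¹ := ⟨K₁.normalizerMonoidHom ⟨b, hb⟩, fun _ => rfl⟩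

theorem le_norm_of {B W : Subgroup G} (h : ∀ b ∈ B, ∀ w ∈ W, b * w * b⁻¹ ∈ W) : B ≤ normalizer (W : Set G) := by
  intro b hb
  rw [mem_normalizer_iff]
  intro w
  refine ⟨h b hb w, fun h1 => ?_⟩
  have h2 := h b⁻¹ (inv_mem hb) _ h1
  have : b⁻¹ * (b * w * b⁻¹) * b⁻¹⁻¹ = w := by group
  rwa [this] at h2

theorem exists_syl (S : Sylow 2 G) (hS : (S : Subgroup G) ≤ normalizer (K₁ : Set G)) :
    ∃ T : Sylow 2 K₁, (T : Subgroup K₁) = (S : Subgroup G).subgroupOf K₁ := by
  have : Fact (Nat.Prime 2) := ⟨Nat.prime_two⟩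
  have h1 : IsPGroup 2 ((S : Subgroup G).subgroupOf K₁) := S.isPGroup'.comap_of_injective K₁.subtype K₁.subtype_injective
  have h2 : ¬ 2 ∣ ((S : Subgroup G).subgroupOf K₁).index := by
    have hn : (K₁.subgroupOf (normalizer (K₁ : Set G))).Normal := inferInstance
    have h3 := Lib.SylowNormalInf.not_dvd_relIndex (S.subtype hS) (K₁.subgroupOf (normalizer (K₁ : Set G)))
    have h4 : ((S.subtype hS : Sylow 2 (normalizer (K₁ : Set G))) : Subgroup (normalizer (K₁ : Set G))) =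
      (S : Subgroup G).subgroupOf (normalizer (K₁ : Set G)) := rfl
    rw [h4, Subgroup.relIndex_subgroupOf le_normalizer] at h3
    exact h3
  exact ⟨h1.toSylow h2, rfl⟩

theorem map_E (S : Sylow 2 G) {T : Sylow 2 K₁} (hT : (T : Subgroup K₁) = (S : Subgroup G).subgroupOf K₁) (hRK : R ≤ K₁) :
    ((T : Subgroup K₁) ⊔ R.subgroupOf K₁).map K₁.subtype = (S : Subgroup G) ⊓ K₁ ⊔ R := by
  rw [Subgroup.map_sup, hT, Subgroup.subgroupOf_map_subtype, Subgroup.subgroupOf_map_subtype, inf_eq_left.2 hRK]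

/-- **`B₂` normalises `(S ∩ K₁)R`** -/
theorem normE (S : Sylow 2 G) {H : Type*} [Group H] [IsSimpleGroup H] (π : K₁ →* H) (hπ : Function.Surjective π)
    (hker : π.ker = Q.subgroupOf K₁) (hK : SLike H ∨ LLike H) (h2 : 2 ∣ Nat.card H) (hQ : IsPGroup 2 Q) (hQR : Q ≤ R)
    (hRK : R ≤ K₁) (hSB : (S : Subgroup G) ≤ B₂) (hBK : B₂ ≤ normalizer (K₁ : Set G)) (hB3 : ∀ g ∈ B₂, orderOf g ≠ 3)
    (hSR : (S : Subgroup G) ≤ normalizer (R : Set G)) (hO : IsPGroup 2 O) (hRO : R ≤ normalizer (O : Set G))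
    (hR : R = O ⊔ zpowers x) (hx3 : x * x * x = 1) (hx1 : x ≠ 1) :
    B₂ ≤ normalizer (((S : Subgroup G) ⊓ K₁ ⊔ R : Subgroup G) : Set G) := by
  have : Fact (Nat.Prime 2) := ⟨Nat.prime_two⟩
  obtain ⟨T, hT⟩ := exists_syl S (hSB.trans hBK)
  have hE := map_E S hT hRK
  have hxR : x ∈ R := by rw [hR]; exact (le_sup_right : zpowers x ≤ _) (mem_zpowers x)
  have hOR : O ≤ R := by rw [hR]; exact le_sup_left
  set x' : K₁ := ⟨x, hRK hxR⟩ with hx'
  have hx3' : x' * x' * x' = 1 := Subtype.ext hx3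
  have hx1' : x' ≠ 1 := fun h => hx1 (congrArg Subtype.val h)
  have hQ' : IsPGroup 2 (Q.subgroupOf K₁) := hQ.comap_of_injective K₁.subtype K₁.subtype_injective
  have hker' : IsPGroup 2 π.ker := hker ▸ hQ'
  have hR' : R.subgroupOf K₁ = O.subgroupOf K₁ ⊔ zpowers x' := by
    apply Subgroup.map_injective K₁.subtype_injective
    rw [Subgroup.map_sup, Subgroup.subgroupOf_map_subtype, Subgroup.subgroupOf_map_subtype, inf_eq_left.2 hRK,
      inf_eq_left.2 (hOR.trans hRK), MonoidHom.map_zpowers]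
    exact hR
  have hO' : IsPGroup 2 (O.subgroupOf K₁) := hO.comap_of_injective K₁.subtype K₁.subtype_injective
  have hRO' : R.subgroupOf K₁ ≤ normalizer ((O.subgroupOf K₁ : Subgroup K₁) : Set K₁) := by
    apply le_norm_of
    intro r hr o ho
    exact (mem_normalizer_iff.1 (hRO hr) o).1 ho
  have hTR : (T : Subgroup K₁) ≤ normalizer ((R.subgroupOf K₁ : Subgroup K₁) : Set K₁) := by
    apply le_norm_of
    intro t ht r hr
    have ht' : (t : G) ∈ (S : Subgroup G) := by
      rw [hT] at ht; exact ht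
    exact (mem_normalizer_iff.1 (hSR ht') r).1 hr
  have hEtop : (T : Subgroup K₁) ⊔ R.subgroupOf K₁ ≠ ⊤ := by
    refine sup_ne_top π hπ h2 ?_ hTR hO' hRO' hR' hx3' ?_
    · rw [hker]
      exact fun q hq => hQR hq
    · intro h1
      exact not_mem_of_three hker' hx3' hx1' (MonoidHom.mem_ker.2 h1)
  have hTD : (T : Subgroup K₁) ≤ B₂.subgroupOf K₁ := by
    rw [hT]
    exact fun t ht => hSB ht
  have hD : ∀ g ∈ B₂.subgroupOf K₁, orderOf g ≠ 3 := by
    intro g hg h1
    exact hB3 g hg (by rw [orderOf_coe]; exact h1)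
  have hβD : ∀ b ∈ B₂, ∀ β : MulAut K₁, (∀ k : K₁, (β k : G) = b * k * b⁻¹) → ∀ d ∈ B₂.subgroupOf K₁,
      β d ∈ B₂.subgroupOf K₁ := by
    intro b hb β hβ d hd
    rw [mem_subgroupOf, hβ]
    exact mul_mem (mul_mem hb hd) (inv_mem hb)
  rcases hK with hK | hK
  · have hK' := hK.pull π hπ hker'
    apply le_norm_of
    intro b hb e he
    obtain ⟨β, hβ⟩ := exists_aut (hBK hb)
    rw [← hE] at he ⊢
    obtain ⟨k, hk, rfl⟩ := he
    have h3 := coreS hK' hTD hD hx3' hx1' hR' hO' hEtop (hβD b hb β hβ) k hk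
    exact ⟨β k, h3, hβ k⟩
  · have hK' := hK.pull π hπ hker'
    obtain ⟨D₁, D₂, h12⟩ := coreL hK' T
    set E : Subgroup G := (S : Subgroup G) ⊓ K₁ ⊔ R with hEdef
    have hcj : ∀ b ∈ B₂, E.map (MulAut.conj b).toMonoidHom = D₁.map K₁.subtype ∨
        E.map (MulAut.conj b).toMonoidHom = D₂.map K₁.subtype := by
      intro b hb
      obtain ⟨β, hβ⟩ := exists_aut (hBK hb)
      have h3 : E.map (MulAut.conj b).toMonoidHom =
          (((T : Subgroup K₁) ⊔ R.subgroupOf K₁).map β.toMonoidHom).map K₁.subtype := by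
        rw [← hE, Subgroup.map_map, Subgroup.map_map]
        congr 1
        ext k
        exact (hβ k).symm
      rcases h12 (B₂.subgroupOf K₁) (R.subgroupOf K₁) x' β hTD hD hx3' hx1' hxR hEtop (hβD b hb β hβ) with h4 | h4
      · left; rw [h3, h4]
      · right; rw [h3, h4]
    intro b hb
    by_contra hbE
    have hEN : ∀ c : G, E.map (MulAut.conj c).toMonoidHom = E ↔ c ∈ normalizer (E : Set G) :=
      fun c => Cfsg.Agent.SmallSimple.Simple168Klein.map_conj_eq_iff_mem_normalizer E c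
    have hE1 : E.map (MulAut.conj (1 : G)).toMonoidHom = E := (hEN 1).2 (one_mem _)
    have hoth : ∀ c ∈ B₂, c ∉ normalizer (E : Set G) →
        E.map (MulAut.conj c).toMonoidHom = E.map (MulAut.conj b).toMonoidHom := by
      intro c hc hcE
      have h5 : E.map (MulAut.conj c).toMonoidHom ≠ E := fun h => hcE ((hEN c).1 h)
      have h6 : E.map (MulAut.conj b).toMonoidHom ≠ E := fun h => hbE ((hEN b).1 h)
      have h7 := hcj 1 (one_mem _)
      rw [hE1] at h7
      rcases hcj c hc with h8 | h8 <;> rcases hcj b hb with h9 | h9 <;> rcases h7 with h7 | h7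
      · rw [h8, h9]
      · rw [h8, h9]
      · exact absurd (h8.trans h7.symm) h5
      · exact absurd (h9.trans h7.symm) h6
      · exact absurd (h9.trans h7.symm) h6
      · exact absurd (h8.trans h7.symm) h5
      · rw [h8, h9]
      · rw [h8, h9]
    have hidx : ((normalizer (E : Set G)).subgroupOf B₂).index = 2 := by
      rw [Subgroup.index_eq_two_iff]
      refine ⟨⟨b, hb⟩, fun c => ?_⟩
      by_cases hc : (c : G) ∈ normalizer (E : Set G)
      · refine Or.inr ⟨hc, fun h => hbE ?_⟩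
        have h1 : (c : G) * b ∈ normalizer (E : Set G) := h
        have h2 := mul_mem (inv_mem hc) h1
        rwa [inv_mul_cancel_left] at h2
      · refine Or.inl ⟨?_, hc⟩
        have h1 := hoth (c : G)⁻¹ (inv_mem c.2) (fun h => hc (inv_mem_iff.1 h))
        have h3 : E.map (MulAut.conj ((b : G)⁻¹ * (c : G)⁻¹)).toMonoidHom = E := by
          rw [← Cfsg.Agent.SmallSimple.Simple168Klein.map_conj_map_conj, h1,
            Cfsg.Agent.SmallSimple.Simple168Klein.map_conj_map_conj, inv_mul_cancel]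
          exact hE1
        have h4 : ((b : G)⁻¹ * (c : G)⁻¹)⁻¹ ∈ normalizer (E : Set G) := (normalizer (E : Set G)).inv_mem ((hEN _).1 h3)
        have : (b⁻¹ * (c : G)⁻¹)⁻¹ = c * b := by group
        rw [this] at h4
        exact h4
    have hSE : (S : Subgroup G) ≤ normalizer (E : Set G) := by
      apply le_norm_of
      intro s hs e he
      have h1 : (S : Subgroup G) ⊓ K₁ ⊔ R ≤ E.comap (MulAut.conj s).toMonoidHom := by
        apply sup_le
        · rintro u ⟨hu1, hu2⟩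
          refine (le_sup_left : (S : Subgroup G) ⊓ K₁ ≤ _) ⟨?_, ?_⟩
          · exact (S : Subgroup G).mul_mem ((S : Subgroup G).mul_mem hs hu1) ((S : Subgroup G).inv_mem hs)
          · exact (mem_normalizer_iff.1 (hBK (hSB hs)) u).1 hu2
        · intro r hr
          exact (le_sup_right : R ≤ _) ((mem_normalizer_iff.1 (hSR hs) r).1 hr)
      exact h1 he
    have h1 : (normalizer (E : Set G)).relIndex B₂ ∣ (S : Subgroup G).relIndex B₂ :=
      Subgroup.relIndex_dvd_of_le_left B₂ hSE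
    have h3 : (S : Subgroup G).relIndex B₂ ∣ (S : Subgroup G).index := Subgroup.relIndex_dvd_index_of_le hSB
    have h4 : (2 : ℕ) ∣ (S : Subgroup G).index := by
      have h5 : (normalizer (E : Set G)).relIndex B₂ = 2 := hidx
      rw [h5] at h1
      exact h1.trans h3
    exact S.not_dvd_index h4

/-- `B₂` normalises `E ∋ x`: `B₂` normalises `⟨V^E⟩ = W` -/
theorem of_norm {E : Subgroup G} (hE : B₂ ≤ normalizer (E : Set G)) (hEW : E ≤ normalizer (W : Set G)) (hxE : x ∈ E)
    (hBV : B₂ ≤ normalizer (V : Set G)) (hVW : V ≤ W)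
    (hW : ∀ W' : Subgroup G, V ≤ W' → x ∈ normalizer (W' : Set G) → W ≤ W') : B₂ ≤ normalizer (W : Set G) := by
  set s : Set G := {g | ∃ e ∈ E, ∃ v ∈ V, g = e * v * e⁻¹} with hs
  have hcl : ∀ c : G, c ∈ normalizer (E : Set G) → (∀ v ∈ V, ∃ e ∈ E, c * v * c⁻¹ ∈ V ∨ c * v * c⁻¹ = e * v * e⁻¹) →
      ∀ w ∈ closure s, c * w * c⁻¹ ∈ closure s := by
    intro c hc hv
    have h1 : closure s ≤ (closure s).comap (MulAut.conj c).toMonoidHom := by
      rw [closure_le]
      rintro _ ⟨e, he, v, hvV, rfl⟩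
      apply Subgroup.subset_closure
      show c * (e * v * e⁻¹) * c⁻¹ ∈ s
      have h2 : c * e * c⁻¹ ∈ E := (mem_normalizer_iff.1 hc e).1 he
      obtain ⟨e', he', h3 | h3⟩ := hv v hvV
      · refine ⟨_, h2, _, h3, ?_⟩
        group
      · refine ⟨_, mul_mem h2 he', v, hvV, ?_⟩
        have : c * e * c⁻¹ * e' * v * (c * e * c⁻¹ * e')⁻¹ = c * e * c⁻¹ * (e' * v * e'⁻¹) * (c * e * c⁻¹)⁻¹ := by group
        rw [this, ← h3]
        group
    exact fun w hw => h1 hw
  have hWW : W = closure s := by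
    apply le_antisymm
    · apply hW
      · intro v hv
        exact Subgroup.subset_closure ⟨1, one_mem _, v, hv, by group⟩
      · have h1 : E ≤ normalizer ((closure s : Subgroup G) : Set G) := by
          apply le_norm_of
          intro e he
          exact hcl e (le_normalizer he) (fun v hv => ⟨e, he, Or.inr rfl⟩)
        exact h1 hxE
    · rw [closure_le]
      rintro _ ⟨e, he, v, hv, rfl⟩
      exact (mem_normalizer_iff.1 (hEW he) v).1 (hVW hv)
  rw [hWW]
  apply le_norm_of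
  intro b hb
  exact hcl b (hE hb) (fun v hv => ⟨1, one_mem _, Or.inl ((mem_normalizer_iff.1 (hBV hb) v).1 hv)⟩)

/-- **(4.7)** -/
theorem main (S : Sylow 2 G) {H : Type*} [Group H] [IsSimpleGroup H] (π : K₁ →* H) (hπ : Function.Surjective π)
    (hker : π.ker = Q.subgroupOf K₁) (hK : SLike H ∨ LLike H) (h2 : 2 ∣ Nat.card H) (hQ : IsPGroup 2 Q) (hQR : Q ≤ R)
    (hRK : R ≤ K₁) (hSB : (S : Subgroup G) ≤ B₂) (hBK : B₂ ≤ normalizer (K₁ : Set G)) (hB3 : ∀ g ∈ B₂, orderOf g ≠ 3)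
    (hSR : (S : Subgroup G) ≤ normalizer (R : Set G)) (hO : IsPGroup 2 O) (hRO : R ≤ normalizer (O : Set G))
    (hR : R = O ⊔ zpowers x) (hx3 : x * x * x = 1) (hx1 : x ≠ 1) (hBV : B₂ ≤ normalizer (V : Set G))
    (hSW : (S : Subgroup G) ≤ normalizer (W : Set G)) (hRW : R ≤ normalizer (W : Set G)) (hVW : V ≤ W)
    (hW : ∀ W' : Subgroup G, V ≤ W' → x ∈ normalizer (W' : Set G) → W ≤ W') : B₂ ≤ normalizer (W : Set G) := by
  have hE := normE S π hπ hker hK h2 hQ hQR hRK hSB hBK hB3 hSR hO hRO hR hx3 hx1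
  refine of_norm hE (sup_le (inf_le_left.trans hSW) hRW) ?_ hBV hVW hW
  apply (le_sup_right : R ≤ _)
  rw [hR]
  exact (le_sup_right : zpowers x ≤ _) (mem_zpowers x)

end main

/-! ### the three cases of FFC -/

section good

variable {H : Type*} [Group H] [Finite H]

/-- `SL₂(2^n)` -/
theorem good_sl {F : Type*} [Field F] [Fintype F] [CharP F 2] (h4 : 4 ≤ Fintype.card F)
    (e : H ≃* Matrix.SpecialLinearGroup (Fin 2) F) : IsSimpleGroup H ∧ (SLike H ∨ LLike H) ∧ 2 ∣ Nat.card H := by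
  have h1 : IsSimpleGroup (Matrix.SpecialLinearGroup (Fin 2) F) := FFBasic.isSimpleGroup_sl2 h4
  refine ⟨e.isSimpleGroup, Or.inl ?_, ?_⟩
  · refine (sl (F := F)).pull e.toMonoidHom e.surjective ?_
    have h2 : e.toMonoidHom.ker = ⊥ := (MonoidHom.ker_eq_bot_iff _).2 e.injective
    rw [h2]
    exact IsPGroup.of_bot
  · rw [Nat.card_congr e.toEquiv, T1Sl2.card_sl2]
    obtain ⟨n, hn, h⟩ := T1Sl2.card_pow F
    refine Dvd.dvd.mul_right (Dvd.dvd.mul_left ?_ _) _
    rw [h]
    exact dvd_pow_self 2 hn.ne'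

/-- order 168 -/
theorem good_seven [IsSimpleGroup H] (h : Nat.card H = 168) : (SLike H ∨ LLike H) ∧ 2 ∣ Nat.card H :=
  ⟨Or.inr (l168 h), by rw [h]; norm_num⟩

/-- `A₅` -/
theorem good_alt (e : H ≃* alternatingGroup (Fin 5)) : IsSimpleGroup H ∧ (SLike H ∨ LLike H) ∧ 2 ∣ Nat.card H := by
  have : Fact (Nat.Prime 5) := ⟨Nat.prime_five⟩
  obtain ⟨K, _, _, _, hK4, ⟨e'⟩⟩ := T1Socle.exists_four (F := ZMod 5) (ZMod.card 5)
  have hc : Nat.card (Matrix.ProjectiveSpecialLinearGroup (Fin 2) (ZMod 5)) = 60 := by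
    have h1 := ClassicalGeometry.PSL2Basic.card_PSL2_odd (ZMod 5) (by rw [ZMod.card]; decide)
    rw [ZMod.card] at h1
    omega
  obtain ⟨e''⟩ := T1Socle.equiv_alternating (F' := ZMod 5) (by rw [ZMod.card]; norm_num) hc
  exact good_sl hK4.ge ((e.trans e''.symm).trans e')

end good

end Cfsg.Agent.OddCyclic.BcP.NormW
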