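import Cfsg.Agent.OddCyclic.RedFFDefs
import Cfsg.Agent.OddCyclic.T1Socle

/-!
# S0342, (C2), [Bc], type (b'), (4.6): a group with `F*(H)` simple and an offender

* `eq_of_normal`: two normal simple subgroups, one of them self-centralising, are equal.
* `exists_bo`: an offender contains a best offender.
* `out_of`: `K ⊴ H` simple nonabelian, `C_H(K) = 1`, `O₂(H) = 1`, FFC for `H`, an offender: `K ≃ SL₂(q)`, `q ≥ 4`, or
  `|K| = 168`.
-/

set_option autoImplicit false
set_option linter.unusedSectionVars false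
set_option linter.style.haveILetI false

namespace Cfsg.Agent.OddCyclic.BcP.Off

open Subgroup
open Cfsg.Agent.OddCyclic.T1Module Cfsg.Agent.OddCyclic.FFBasic Cfsg.Agent.OddCyclic.FFRed
open Cfsg.Agent.OddCyclic.RedFFDefs

universe u

variable {H : Type u} [Group H]

theorem comm_of_inf {L K : Subgroup H} (hL : L.Normal) (hK : K.Normal) (h : L ⊓ K = ⊥) :
    L ≤ centralizer (K : Set H) := by
  intro l hl
  rw [mem_centralizer_iff]
  intro k hk
  have h1 : k * l * k⁻¹ * l⁻¹ ∈ L ⊓ K :=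
    ⟨mul_mem (hL.conj_mem l hl k) (L.inv_mem hl), by
      have h2 := hK.conj_mem k⁻¹ (K.inv_mem hk) l
      have e : k * l * k⁻¹ * l⁻¹ = k * (l * k⁻¹ * l⁻¹) := by group
      rw [e]
      exact mul_mem hk h2⟩
  rw [h, mem_bot] at h1
  calc k * l = (k * l * k⁻¹ * l⁻¹) * (l * k) := by group
    _ = l * k := by rw [h1, one_mul]

theorem le_of_simple {L K : Subgroup H} (hK : K.Normal) (hL : IsSimpleGroup L) (h : L ⊓ K ≠ ⊥) : L ≤ K := by
  have hn : (K.subgroupOf L).Normal := inferInstance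
  rcases hL.eq_bot_or_eq_top_of_normal _ hn with h1 | h1
  · exact absurd ((inf_comm L K).trans (disjoint_iff.1 (subgroupOf_eq_bot.1 h1))) h
  · exact subgroupOf_eq_top.1 h1

/-- two normal simple subgroups, one of them self-centralising, are equal -/
theorem eq_of_normal {L K : Subgroup H} (hLn : L.Normal) (hKn : K.Normal) (hL : IsSimpleGroup L)
    (hK : IsSimpleGroup K) (hc : centralizer (K : Set H) = ⊥) : L = K := by
  have h1 : L ⊓ K ≠ ⊥ := by
    intro h0
    have h2 := comm_of_inf hLn hKn h0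
    rw [hc, le_bot_iff] at h2
    have h3 : Nontrivial L := hL.toNontrivial
    rw [h2] at h3
    exact not_nontrivial _ h3
  exact le_antisymm (le_of_simple hKn hL h1) (le_of_simple hLn hK (by rwa [inf_comm]))

/-- a best offender inside an offender -/
theorem exists_bo [Finite H] {V : Type u} [CommGroup V] [Finite V] (ρ : H →* MulAut V) {A : Subgroup H}
    (hsq : ∀ a ∈ A, a * a = 1) (hne : A ≠ ⊥) (hi : (CS ρ A).index ≤ Nat.card A) :
    ∃ B ≤ A, B ≠ ⊥ ∧ BO ρ B := by
  classical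
  obtain ⟨B, hB, hmax⟩ := (Set.toFinite {B : Subgroup H | B ≤ A}).exists_maximalFor
    (fun B : Subgroup H => Nat.card B * Nat.card (CS ρ B)) _ ⟨A, le_refl A⟩
  have hmax' : ∀ C ≤ A, Nat.card C * Nat.card (CS ρ C) ≤ Nat.card B * Nat.card (CS ρ B) := by
    intro C hC
    by_contra hcon
    push Not at hcon
    have h1 : Nat.card C * Nat.card (CS ρ C) ≤ Nat.card B * Nat.card (CS ρ B) := hmax hC hcon.le
    omega
  by_cases hB1 : B = ⊥
  · refine ⟨A, le_refl A, hne, hsq, fun C hC => (hmax' C hC).trans ?_⟩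
    rw [hB1, CS_bot, Subgroup.card_bot, one_mul, Subgroup.card_top, ← (CS ρ A).card_mul_index, mul_comm]
    exact Nat.mul_le_mul_right _ hi
  · exact ⟨B, hB, hB1, fun a ha => hsq a (hB ha), fun C hC => hmax' C (hC.trans hB)⟩

theorem simple_sl {F : Type} [Field F] [Fintype F] [CharP F 2] (h4 : 4 ≤ Fintype.card F) {L : Subgroup H}
    (f : L ≃* Matrix.SpecialLinearGroup (Fin 2) F) : IsSimpleGroup L := by
  have hs : IsSimpleGroup (Matrix.ProjectiveSpecialLinearGroup (Fin 2) F) :=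
    Cfsg.Agent.TwoFusion.SLTwoFacts.isSimpleGroup_psl (by omega)
  obtain ⟨g⟩ := Cfsg.Agent.WeakTI.PslTwo.nonempty_equiv (F := F)
  exact (f.trans g).isSimpleGroup

/-- `A₅ ≃ SL₂(4)` -/
theorem alt_five : ∃ (F : Type) (_ : Field F) (_ : Fintype F), CharP F 2 ∧ 4 ≤ Fintype.card F ∧
    Nonempty (alternatingGroup (Fin 5) ≃* Matrix.SpecialLinearGroup (Fin 2) F) := by
  haveI : Fact (Nat.Prime 2) := ⟨Nat.prime_two⟩
  letI := Fintype.ofFinite (GaloisField 2 2)
  have hK : Fintype.card (GaloisField 2 2) = 4 := by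
    rw [← Nat.card_eq_fintype_card, GaloisField.card 2 2 (by norm_num)]
    norm_num
  have c1 : Nat.card (Matrix.ProjectiveSpecialLinearGroup (Fin 2) (GaloisField 2 2)) = 60 := by
    rw [ClassicalGeometry.PSL2Basic.card_PSL2_even (GaloisField 2 2) (by rw [hK]; decide), hK]
    norm_num
  obtain ⟨g⟩ := T1Socle.equiv_alternating (F' := GaloisField 2 2) (by rw [hK]; norm_num) c1
  obtain ⟨k⟩ := WeakTI.PslTwo.nonempty_equiv (F := GaloisField 2 2)
  exact ⟨GaloisField 2 2, inferInstance, inferInstance, inferInstance, by rw [hK], ⟨g.symm.trans k.symm⟩⟩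

/-- `K ⊴ H` simple nonabelian, `C_H(K) = 1`, `O₂(H) = 1`, FFC for `H`, an offender: `K ≃ SL₂(q)`, `q ≥ 4`, or
`|K| = 168` -/
theorem out_of [Finite H] {V : Type u} [CommGroup V] [Finite V] {ρ : H →* MulAut V} (hV : ∀ v : V, v * v = 1)
    (hρ : Function.Injective ρ) (hcore : ∀ D : Subgroup H, D.Normal → IsPGroup 2 D → D = ⊥) (hF : FFC H)
    {A : Subgroup H} (hsq : ∀ a ∈ A, a * a = 1) (hne : A ≠ ⊥) (hi : (CS ρ A).index ≤ Nat.card A)
    {K : Subgroup H} (hKn : K.Normal) (hK : IsSimpleGroup K) (hab : ∃ a b : K, a * b ≠ b * a)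
    (hc : centralizer (K : Set H) = ⊥) :
    (∃ (F : Type) (_ : Field F) (_ : Fintype F), CharP F 2 ∧ 4 ≤ Fintype.card F ∧
      Nonempty (K ≃* Matrix.SpecialLinearGroup (Fin 2) F)) ∨ Nat.card K = 168 := by
  obtain ⟨B, -, hB1, hB⟩ := exists_bo ρ hsq hne hi
  rcases hF V hV ρ hρ hcore B hB hB1 with h | h | h | h
  · -- `⟨y⟩` normal of order 3
    exfalso
    obtain ⟨y, hy, hyn, -⟩ := h
    by_cases h0 : K ⊓ zpowers y = ⊥
    · have h1 := comm_of_inf hyn hKn (by rwa [inf_comm])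
      rw [hc] at h1
      have h2 := mem_bot.1 (h1 (mem_zpowers y))
      rw [h2, orderOf_one] at hy
      omega
    · have h1 := le_of_simple hyn hK h0
      obtain ⟨a, b, hab⟩ := hab
      apply hab
      obtain ⟨m, hm⟩ := mem_zpowers_iff.1 (h1 a.2)
      obtain ⟨n, hn⟩ := mem_zpowers_iff.1 (h1 b.2)
      apply Subtype.ext
      show (a : H) * b = b * a
      rw [← hm, ← hn, ← zpow_add, ← zpow_add, add_comm]
  · left
    obtain ⟨L, hLn, -, F, iF, iF', hch, h4, ⟨f⟩, -⟩ := h
    have e := eq_of_normal hLn hKn (simple_sl h4 f) hK hc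
    subst e
    exact ⟨F, iF, iF', hch, h4, ⟨f⟩⟩
  · left
    obtain ⟨K5, -, e, hn, -⟩ := h
    obtain ⟨L, hL⟩ : ∃ L, L = ((alternatingGroup (Fin 5)).comap e.toMonoidHom).map K5.subtype := ⟨_, rfl⟩
    rw [← hL] at hn
    have hs : IsSimpleGroup (alternatingGroup (Fin 5)) := alternatingGroup.isSimpleGroup_five
    have e0 : ((alternatingGroup (Fin 5)).map e.symm.toMonoidHom) =
        (alternatingGroup (Fin 5)).comap e.toMonoidHom :=
      Subgroup.map_equiv_eq_comap_symm e.symm _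
    have e1 : ((alternatingGroup (Fin 5)).comap e.toMonoidHom) ≃* alternatingGroup (Fin 5) :=
      (MulEquiv.subgroupCongr e0.symm).trans
        (Subgroup.equivMapOfInjective _ e.symm.toMonoidHom e.symm.injective).symm
    have e2 : L ≃* alternatingGroup (Fin 5) := by
      rw [hL]
      exact (Subgroup.equivMapOfInjective _ _ K5.subtype_injective).symm.trans e1
    have e3 := eq_of_normal hn hKn e2.isSimpleGroup hK hc
    subst e3
    obtain ⟨F, iF, iF', hch, h4, ⟨g⟩⟩ := alt_five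
    exact ⟨F, iF, iF', hch, h4, ⟨e2.trans g⟩⟩
  · right
    obtain ⟨L, hLn, -, hLs, hc'⟩ := h
    rw [← eq_of_normal hLn hKn hLs hK hc]
    exact hc'

end Cfsg.Agent.OddCyclic.BcP.Off
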